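import Mathlib
import Cfsg.Prelude.Def_Sporadic_a

/-!
Projective planes of order 4 (Steiner systems S(2, 5, 21)): hyperovals, uniqueness.
-/

set_option autoImplicit false
set_option linter.unusedSectionVars false

namespace H94.PG24

open Cfsg

variable {α β : Type*} [Fintype α] [DecidableEq α] [Fintype β] [DecidableEq β]

/-- a projective plane of order 4 -/
structure Plane (L : Set (Finset α)) : Prop where
  card : Fintype.card α = 21
  st : IsSteinerSystem 2 5 L

variable {L : Set (Finset α)} {L' : Set (Finset β)}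

theorem Plane.ex (h : Plane L) {a b : α} (hab : a ≠ b) : ∃ l ∈ L, a ∈ l ∧ b ∈ l := by
  obtain ⟨l, ⟨hl, hs⟩, -⟩ := h.st.2 {a, b} (Finset.card_pair hab)
  exact ⟨l, hl, hs (by simp), hs (by simp)⟩

theorem Plane.uniq (h : Plane L) {a b : α} (hab : a ≠ b) {l m : Finset α} (hl : l ∈ L) (hm : m ∈ L) (al : a ∈ l)
    (bl : b ∈ l) (am : a ∈ m) (bm : b ∈ m) : l = m := by
  obtain ⟨k, -, hu⟩ := h.st.2 {a, b} (Finset.card_pair hab)
  have h1 := hu l ⟨hl, by intro x hx; simp only [Finset.mem_insert, Finset.mem_singleton] at hx; rcases hx with rfl | rfl <;> assumption⟩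
  have h2 := hu m ⟨hm, by intro x hx; simp only [Finset.mem_insert, Finset.mem_singleton] at hx; rcases hx with rfl | rfl <;> assumption⟩
  rw [h1, h2]

theorem Plane.card5 (h : Plane L) {l : Finset α} (hl : l ∈ L) : l.card = 5 := h.st.1 l hl

open Classical in
/-- the lines through a point -/
noncomputable def Lp (L : Set (Finset α)) (p : α) : Finset (Finset α) := Finset.univ.filter fun l => l ∈ L ∧ p ∈ l

theorem mem_Lp {p : α} {l : Finset α} : l ∈ Lp L p ↔ l ∈ L ∧ p ∈ l := by
  classical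
  simp [Lp]

/-- sums over the lines through a point -/
theorem Plane.sum_Lp (h : Plane L) (p : α) (S : Finset α) (hp : p ∉ S) :
    ∑ l ∈ Lp L p, (l ∩ S).card = S.card := by
  classical
  rw [← Finset.card_biUnion]
  · congr 1
    ext x
    rw [Finset.mem_biUnion]
    constructor
    · rintro ⟨l, -, hx⟩; exact (Finset.mem_inter.1 hx).2
    · intro hx
      have hne : p ≠ x := by rintro rfl; exact hp hx
      obtain ⟨l, hl, h1, h2⟩ := h.ex hne
      exact ⟨l, mem_Lp.2 ⟨hl, h1⟩, Finset.mem_inter.2 ⟨h2, hx⟩⟩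
  · intro l hl m hm hlm
    rw [Finset.mem_coe, mem_Lp] at hl hm
    rw [Function.onFun, Finset.disjoint_left]
    intro x hx hx'
    rw [Finset.mem_inter] at hx hx'
    have hne : p ≠ x := by rintro rfl; exact hp hx.2
    exact hlm (h.uniq hne hl.1 hm.1 hl.2 hx.1 hm.2 hx'.1)

theorem Plane.card_Lp (h : Plane L) (p : α) : (Lp L p).card = 5 := by
  classical
  have h1 := h.sum_Lp p (Finset.univ.erase p) (Finset.notMem_erase _ _)
  rw [Finset.card_erase_of_mem (Finset.mem_univ p), Finset.card_univ, h.card] at h1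
  have h2 : ∀ l ∈ Lp L p, (l ∩ Finset.univ.erase p).card = 4 := by
    intro l hl
    rw [mem_Lp] at hl
    have : l ∩ Finset.univ.erase p = l.erase p := by ext x; simp [and_comm]
    rw [this, Finset.card_erase_of_mem hl.2, h.card5 hl.1]
  rw [Finset.sum_congr rfl h2, Finset.sum_const, smul_eq_mul] at h1
  omega

/-- two lines meet -/
theorem Plane.meet (h : Plane L) {l m : Finset α} (hl : l ∈ L) (hm : m ∈ L) : ∃ x, x ∈ l ∧ x ∈ m := by
  classical
  by_contra hcon
  push Not at hcon
  obtain ⟨p, hp⟩ : l.Nonempty := by rw [← Finset.card_pos, h.card5 hl]; norm_num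
  have hpm := hcon p hp
  have h1 := h.sum_Lp p m hpm
  -- each line through `p` meets `m` in at most one point, and `l` in none
  have h2 : ∑ k ∈ Lp L p, (k ∩ m).card ≤ ∑ k ∈ Lp L p, if k = l then 0 else 1 := by
    apply Finset.sum_le_sum
    intro k hk
    rw [mem_Lp] at hk
    split_ifs with hkl
    · subst hkl
      rw [Nat.le_zero, Finset.card_eq_zero, Finset.eq_empty_iff_forall_notMem]
      intro x hx
      rw [Finset.mem_inter] at hx
      exact hcon x hx.1 hx.2
    · rw [Finset.card_le_one]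
      intro x hx y hy
      rw [Finset.mem_inter] at hx hy
      by_contra hxy
      have := h.uniq hxy hk.1 hm hx.1 hy.1 hx.2 hy.2
      rw [this] at hk
      exact hpm hk.2
  have hlp : l ∈ Lp L p := mem_Lp.2 ⟨hl, hp⟩
  rw [h1, h.card5 hm, ← Finset.add_sum_erase _ _ hlp, if_pos rfl, zero_add] at h2
  have h3 : ∑ k ∈ (Lp L p).erase l, (if k = l then 0 else 1) ≤ ∑ k ∈ (Lp L p).erase l, 1 := by
    apply Finset.sum_le_sum
    intro k _
    split_ifs <;> omega
  rw [Finset.sum_const, Finset.card_erase_of_mem hlp, h.card_Lp, smul_eq_mul] at h3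
  omega

/-- no three points of `S` on a line -/
def Ind (L : Set (Finset α)) (k : ℕ) (S : Finset α) : Prop := S.card = k ∧ ∀ l ∈ L, (l ∩ S).card ≤ 2

theorem Ind.three {k : ℕ} {S : Finset α} (h : Ind L k S) {a b c : α} (ha : a ∈ S) (hb : b ∈ S) (hc : c ∈ S)
    (hab : a ≠ b) (hac : a ≠ c) (hbc : b ≠ c) {l : Finset α} (hl : l ∈ L) (al : a ∈ l) (bl : b ∈ l) (cl : c ∈ l) :
    False := by
  have h1 := h.2 l hl
  have h2 : ({a, b, c} : Finset α) ⊆ l ∩ S := by
    intro x hx
    simp only [Finset.mem_insert, Finset.mem_singleton] at hx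
    rw [Finset.mem_inter]
    rcases hx with rfl | rfl | rfl <;> exact ⟨by assumption, by assumption⟩
  have h3 := Finset.card_le_card h2
  rw [Finset.card_eq_three.2 ⟨a, b, c, hab, hac, hbc, rfl⟩] at h3
  omega

/-! ### hyperovals -/

/-- a hyperoval -/
abbrev Hyp (L : Set (Finset α)) (H : Finset α) : Prop := Ind L 6 H

/-- every line through a point of a hyperoval is a secant -/
theorem Plane.secant (h : Plane L) {H : Finset α} (hH : Hyp L H) {a : α} (ha : a ∈ H) {l : Finset α} (hl : l ∈ L)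
    (al : a ∈ l) : ∃ b ∈ H, b ≠ a ∧ b ∈ l := by
  classical
  by_contra hcon
  push Not at hcon
  have h1 := h.sum_Lp a (H.erase a) (Finset.notMem_erase _ _)
  rw [Finset.card_erase_of_mem ha, hH.1] at h1
  have hlp : l ∈ Lp L a := mem_Lp.2 ⟨hl, al⟩
  have h2 : (l ∩ H.erase a).card = 0 := by
    rw [Finset.card_eq_zero, Finset.eq_empty_iff_forall_notMem]
    intro x hx
    rw [Finset.mem_inter, Finset.mem_erase] at hx
    exact hcon x hx.2.2 hx.2.1 hx.1
  rw [← Finset.add_sum_erase _ _ hlp, h2, zero_add] at h1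
  have h3 : ∑ k ∈ (Lp L a).erase l, (k ∩ H.erase a).card ≤ ∑ k ∈ (Lp L a).erase l, 1 := by
    apply Finset.sum_le_sum
    intro k hk
    rw [Finset.mem_erase, mem_Lp] at hk
    rw [Finset.card_le_one]
    intro x hx y hy
    rw [Finset.mem_inter, Finset.mem_erase] at hx hy
    by_contra hxy
    exact hH.three hx.2.2 hy.2.2 ha hxy hx.2.1 hy.2.1 hk.2.1 hx.1 hy.1 hk.2.2
  rw [Finset.sum_const, Finset.card_erase_of_mem hlp, h.card_Lp, smul_eq_mul] at h3
  omega

/-- the partner relation -/
def Rel (L : Set (Finset α)) (H : Finset α) (p : α) (a b : ↥H) : Prop :=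
  a ≠ b ∧ ∃ l ∈ L, p ∈ l ∧ (a : α) ∈ l ∧ (b : α) ∈ l

theorem Rel.symm {H : Finset α} {p : α} {a b : ↥H} (h : Rel L H p a b) : Rel L H p b a := by
  obtain ⟨h1, l, hl, h2, h3, h4⟩ := h
  exact ⟨h1.symm, l, hl, h2, h4, h3⟩

theorem Plane.rel_ex (h : Plane L) {H : Finset α} (hH : Hyp L H) {p : α} (hp : p ∉ H) (a : ↥H) :
    ∃ b, Rel L H p a b := by
  have hne : p ≠ a := by rintro rfl; exact hp a.2
  obtain ⟨l, hl, h1, h2⟩ := h.ex hne
  obtain ⟨b, hb, hba, hbl⟩ := h.secant hH a.2 hl h2
  exact ⟨⟨b, hb⟩, fun h => hba (congrArg Subtype.val h).symm, l, hl, h1, h2, hbl⟩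

theorem Plane.rel_uniq (h : Plane L) {H : Finset α} (hH : Hyp L H) {p : α} (hp : p ∉ H) {a b c : ↥H}
    (hab : Rel L H p a b) (hac : Rel L H p a c) : b = c := by
  by_contra hne
  obtain ⟨h1, l, hl, pl, al, bl⟩ := hab
  obtain ⟨h2, m, hm, pm, am, cm⟩ := hac
  have hpa : p ≠ a := by rintro rfl; exact hp a.2
  have := h.uniq hpa hl hm pl al pm am
  subst this
  exact hH.three a.2 b.2 c.2 (fun h => h1 (Subtype.ext h)) (fun h => h2 (Subtype.ext h))
    (fun h => hne (Subtype.ext h)) hl al bl cm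

/-- the fixed-point-free involution on the hyperoval determined by a point outside -/
noncomputable def tau (h : Plane L) {H : Finset α} (hH : Hyp L H) {p : α} (hp : p ∉ H) : Equiv.Perm ↥H :=
  Function.Involutive.toPerm (fun a => (h.rel_ex hH hp a).choose) (by
    intro a
    apply h.rel_uniq hH hp (h.rel_ex hH hp (h.rel_ex hH hp a).choose).choose_spec
    exact (h.rel_ex hH hp a).choose_spec.symm)

theorem tau_rel (h : Plane L) {H : Finset α} (hH : Hyp L H) {p : α} (hp : p ∉ H) (a : ↥H) :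
    Rel L H p a (tau h hH hp a) := (h.rel_ex hH hp a).choose_spec

theorem tau_eq (h : Plane L) {H : Finset α} (hH : Hyp L H) {p : α} (hp : p ∉ H) {a b : ↥H} (hab : Rel L H p a b) :
    tau h hH hp a = b := h.rel_uniq hH hp (tau_rel h hH hp a) hab

/-- fixed-point-free involutions -/
abbrev Syn (X : Type*) : Type _ := {u : Equiv.Perm X // (∀ a, u (u a) = a) ∧ ∀ a, u a ≠ a}

theorem card_syn6 : Fintype.card (Syn (Fin 6)) = 15 := by decide +kernel

theorem card_syn {X : Type*} [Fintype X] [DecidableEq X] (hX : Fintype.card X = 6) : Nat.card (Syn X) = 15 := by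
  have e : X ≃ Fin 6 := Fintype.equivFinOfCardEq hX
  rw [← card_syn6, ← Nat.card_eq_fintype_card]
  apply Nat.card_congr
  refine Equiv.subtypeEquiv (Equiv.permCongr e) ?_
  intro u
  constructor
  · rintro ⟨h1, h2⟩
    refine ⟨fun a => ?_, fun a => ?_⟩
    · simp [Equiv.permCongr_apply, h1]
    · simp only [Equiv.permCongr_apply]
      intro h
      exact h2 (e.symm a) (e.injective (by rw [h, e.apply_symm_apply]))
  · rintro ⟨h1, h2⟩
    refine ⟨fun a => ?_, fun a => ?_⟩
    · have := h1 (e a)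
      simpa [Equiv.permCongr_apply] using this
    · intro h
      apply h2 (e a)
      simp [Equiv.permCongr_apply, h]

theorem tau_syn (h : Plane L) {H : Finset α} (hH : Hyp L H) {p : α} (hp : p ∉ H) :
    (∀ a, tau h hH hp (tau h hH hp a) = a) ∧ ∀ a, tau h hH hp a ≠ a :=
  ⟨fun a => tau_eq h hH hp (tau_rel h hH hp a).symm, fun a => (tau_rel h hH hp a).1.symm⟩

/-- the map from the points outside to the fixed-point-free involutions -/
noncomputable def toSyn (h : Plane L) {H : Finset α} (hH : Hyp L H) (p : {p // p ∉ H}) : Syn ↥H :=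
  ⟨tau h hH p.2, tau_syn h hH p.2⟩

theorem toSyn_inj (h : Plane L) {H : Finset α} (hH : Hyp L H) : Function.Injective (toSyn h hH) := by
  intro p q hpq
  by_contra hne
  have hne' : (p : α) ≠ q := fun h => hne (Subtype.ext h)
  have hτ : tau h hH p.2 = tau h hH q.2 := congrArg Subtype.val hpq
  obtain ⟨l, hl, pl, ql⟩ := h.ex hne'
  -- every point of `H` lies on the line `p q`
  have key : ∀ a : ↥H, (a : α) ∈ l := by
    intro a
    obtain ⟨n1, m, hm, pm, am, bm⟩ := tau_rel h hH p.2 a
    obtain ⟨n2, k, hk, qk, ak, bk⟩ := tau_rel h hH q.2 a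
    rw [← hτ] at bk
    have hab : (a : α) ≠ tau h hH p.2 a := fun h => n1 (Subtype.ext h)
    have hmk := h.uniq hab hm hk am bm ak bk
    subst hmk
    rw [← h.uniq hne' hm hl pm qk pl ql]
    exact am
  have h1 : H ⊆ l ∩ H := fun x hx => Finset.mem_inter.2 ⟨key ⟨x, hx⟩, hx⟩
  have h2 := Finset.card_le_card h1
  have h3 := hH.2 l hl
  rw [hH.1] at h2
  omega

theorem card_off (h : Plane L) {H : Finset α} (hH : Hyp L H) : Nat.card {p // p ∉ H} = 15 := by
  have : Nat.card {p // p ∉ H} = (Hᶜ).card := by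
    rw [← Fintype.card_coe, ← Nat.card_eq_fintype_card]
    exact Nat.card_congr (Equiv.subtypeEquivRight fun x => by simp)
  rw [this, Finset.card_compl, h.card, hH.1]

theorem toSyn_bij (h : Plane L) {H : Finset α} (hH : Hyp L H) : Function.Bijective (toSyn h hH) := by
  classical
  rw [Fintype.bijective_iff_injective_and_card]
  refine ⟨toSyn_inj h hH, ?_⟩
  rw [← Nat.card_eq_fintype_card, ← Nat.card_eq_fintype_card, card_off h hH, card_syn (by rw [Fintype.card_coe, hH.1])]

/-- two points outside are on a line missing the hyperoval -/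
def Adj (L : Set (Finset α)) (H : Finset α) (p q : α) : Prop := p ≠ q ∧ ∃ l ∈ L, p ∈ l ∧ q ∈ l ∧ ∀ x ∈ H, x ∉ l

theorem Adj.symm {H : Finset α} {p q : α} (h : Adj L H p q) : Adj L H q p := by
  obtain ⟨h1, l, hl, h2, h3, h4⟩ := h
  exact ⟨h1.symm, l, hl, h3, h2, h4⟩

theorem adj_iff (h : Plane L) {H : Finset α} (hH : Hyp L H) {p q : α} (hp : p ∉ H) (hq : q ∉ H) :
    Adj L H p q ↔ ∀ a, tau h hH hp a ≠ tau h hH hq a := by
  constructor
  · rintro ⟨hne, l, hl, pl, ql, hx⟩ a ha
    obtain ⟨n1, m, hm, pm, am, bm⟩ := tau_rel h hH hp a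
    obtain ⟨n2, k, hk, qk, ak, bk⟩ := tau_rel h hH hq a
    rw [← ha] at bk
    have hab : (a : α) ≠ tau h hH hp a := fun h => n1 (Subtype.ext h)
    have hmk := h.uniq hab hm hk am bm ak bk
    subst hmk
    rw [h.uniq hne hm hl pm qk pl ql] at am
    exact hx _ a.2 am
  · intro hne
    have hpq : p ≠ q := by
      rintro rfl
      have hH6 : 0 < H.card := by rw [hH.1]; norm_num
      obtain ⟨a, ha⟩ := Finset.card_pos.1 hH6
      exact hne ⟨a, ha⟩ rfl
    obtain ⟨l, hl, pl, ql⟩ := h.ex hpq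
    refine ⟨hpq, l, hl, pl, ql, fun x hx xl => ?_⟩
    obtain ⟨b, hb, hbx, hbl⟩ := h.secant hH hx hl xl
    apply hne ⟨x, hx⟩
    have r1 : Rel L H p ⟨x, hx⟩ ⟨b, hb⟩ := ⟨fun h => hbx (congrArg Subtype.val h).symm, l, hl, pl, xl, hbl⟩
    have r2 : Rel L H q ⟨x, hx⟩ ⟨b, hb⟩ := ⟨fun h => hbx (congrArg Subtype.val h).symm, l, hl, ql, xl, hbl⟩
    rw [tau_eq h hH hp r1, tau_eq h hH hq r2]

open Classical in
/-- exactly two lines through a point outside miss the hyperoval -/
theorem Plane.two_ext (h : Plane L) {H : Finset α} (hH : Hyp L H) {p : α} (hp : p ∉ H) :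
    ((Lp L p).filter fun l => ∀ x ∈ H, x ∉ l).card = 2 := by
  have h1 := h.sum_Lp p H hp
  have h2 : ∀ l ∈ Lp L p, (l ∩ H).card = if ∀ x ∈ H, x ∉ l then 0 else 2 := by
    intro l hl
    rw [mem_Lp] at hl
    split_ifs with hx
    · rw [Finset.card_eq_zero, Finset.eq_empty_iff_forall_notMem]
      intro x hx'
      rw [Finset.mem_inter] at hx'
      exact hx x hx'.2 hx'.1
    · push Not at hx
      obtain ⟨x, hxH, hxl⟩ := hx
      obtain ⟨b, hb, hbx, hbl⟩ := h.secant hH hxH hl.1 hxl
      apply le_antisymm (hH.2 l hl.1)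
      rw [← Finset.card_pair hbx]
      apply Finset.card_le_card
      intro y hy
      simp only [Finset.mem_insert, Finset.mem_singleton] at hy
      rw [Finset.mem_inter]
      rcases hy with rfl | rfl
      · exact ⟨hbl, hb⟩
      · exact ⟨hxl, hxH⟩
  rw [Finset.sum_congr rfl h2, Finset.sum_ite, Finset.sum_const_zero, zero_add, Finset.sum_const, smul_eq_mul, hH.1] at h1
  have h3 := Finset.card_filter_add_card_filter_not (s := Lp L p) (fun l => ∀ x ∈ H, x ∉ l)
  rw [h.card_Lp] at h3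
  omega

/-- a triangle of the adjacency graph not on a line has no further common neighbour -/
theorem Plane.clique (h : Plane L) {H : Finset α} (hH : Hyp L H) {p q r s : α} (hp : p ∉ H) (hq : q ∉ H) (hr : r ∉ H)
    (hpq : Adj L H p q) (hpr : Adj L H p r) (hqr : Adj L H q r) (hps : Adj L H p s) (hqs : Adj L H q s)
    (hrs : Adj L H r s) : ∃ l ∈ L, p ∈ l ∧ q ∈ l ∧ r ∈ l := by
  classical
  by_contra hcon
  -- the two exterior lines through a point
  have two : ∀ {x y z w : α}, x ∉ H → Adj L H x y → Adj L H x z → (¬ ∃ l ∈ L, x ∈ l ∧ y ∈ l ∧ z ∈ l) → Adj L H x w →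
      (∃ l ∈ L, x ∈ l ∧ y ∈ l ∧ w ∈ l) ∨ (∃ l ∈ L, x ∈ l ∧ z ∈ l ∧ w ∈ l) := by
    intro x y z w hx hxy hxz hn hxw
    obtain ⟨-, a, ha, xa, ya, a0⟩ := hxy
    obtain ⟨-, b, hb, xb, zb, b0⟩ := hxz
    obtain ⟨-, c, hc, xc, wc, c0⟩ := hxw
    have hab : a ≠ b := by rintro rfl; exact hn ⟨a, ha, xa, ya, zb⟩
    by_contra hcon2
    push Not at hcon2
    have hca : c ≠ a := by rintro rfl; exact hcon2.1 c hc xc ya wc
    have hcb : c ≠ b := by rintro rfl; exact hcon2.2 c hc xc zb wc
    have h2 := h.two_ext hH hx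
    have h3 : ({c, a, b} : Finset (Finset α)) ⊆ (Lp L x).filter fun l => ∀ x ∈ H, x ∉ l := by
      intro m hm
      simp only [Finset.mem_insert, Finset.mem_singleton] at hm
      rw [Finset.mem_filter, mem_Lp]
      rcases hm with rfl | rfl | rfl
      · exact ⟨⟨hc, xc⟩, c0⟩
      · exact ⟨⟨ha, xa⟩, a0⟩
      · exact ⟨⟨hb, xb⟩, b0⟩
    have h4 := Finset.card_le_card h3
    rw [Finset.card_eq_three.2 ⟨c, a, b, hca, hcb, hab, rfl⟩, h2] at h4
    omega
  have n1 : ¬ ∃ l ∈ L, p ∈ l ∧ q ∈ l ∧ r ∈ l := hcon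
  have n2 : ¬ ∃ l ∈ L, q ∈ l ∧ p ∈ l ∧ r ∈ l := by
    rintro ⟨l, hl, h1, h2, h3⟩; exact hcon ⟨l, hl, h2, h1, h3⟩
  have n3 : ¬ ∃ l ∈ L, r ∈ l ∧ p ∈ l ∧ q ∈ l := by
    rintro ⟨l, hl, h1, h2, h3⟩; exact hcon ⟨l, hl, h2, h3, h1⟩
  have c1 := two hp hpq hpr n1 hps
  have c2 := two hq hpq.symm hqr n2 hqs
  have c3 := two hr hpr.symm hqr.symm n3 hrs
  -- merge two lines with two common points
  have mg : ∀ {x y z w : α}, x ≠ y → (∃ l ∈ L, x ∈ l ∧ y ∈ l ∧ z ∈ l) → (∃ l ∈ L, x ∈ l ∧ y ∈ l ∧ w ∈ l) →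
      ∃ l ∈ L, x ∈ l ∧ y ∈ l ∧ z ∈ l ∧ w ∈ l := by
    rintro x y z w hxy ⟨l, hl, h1, h2, h3⟩ ⟨m, hm, h4, h5, h6⟩
    have := h.uniq hxy hl hm h1 h2 h4 h5
    subst this
    exact ⟨l, hl, h1, h2, h3, h6⟩
  have hsp := hps.1.symm
  have hsq := hqs.1.symm
  have hsr := hrs.1.symm
  have rot : ∀ {x y z : α}, (∃ l ∈ L, x ∈ l ∧ y ∈ l ∧ z ∈ l) → ∃ l ∈ L, z ∈ l ∧ x ∈ l ∧ y ∈ l := by
    rintro x y z ⟨l, hl, h1, h2, h3⟩; exact ⟨l, hl, h3, h1, h2⟩
  have swp : ∀ {x y z : α}, (∃ l ∈ L, x ∈ l ∧ y ∈ l ∧ z ∈ l) → ∃ l ∈ L, y ∈ l ∧ x ∈ l ∧ z ∈ l := by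
    rintro x y z ⟨l, hl, h1, h2, h3⟩; exact ⟨l, hl, h2, h1, h3⟩
  rcases c1 with c1 | c1
  · -- p q s collinear
    rcases c3 with c3 | c3
    · -- r p s collinear : share p s
      obtain ⟨l, hl, h1, h2, h3, h4⟩ := mg (x := s) (y := p) hsp (rot c1) (rot (swp c3))
      exact hcon ⟨l, hl, h2, h3, h4⟩
    · -- r q s : share q s
      obtain ⟨l, hl, h1, h2, h3, h4⟩ := mg (x := s) (y := q) hsq (rot (swp c1)) (rot (swp c3))
      exact hcon ⟨l, hl, h3, h2, h4⟩
  · -- p r s collinear
    rcases c2 with c2 | c2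
    · -- q p s
      obtain ⟨l, hl, h1, h2, h3, h4⟩ := mg (x := s) (y := p) hsp (rot c1) (rot (swp c2))
      exact hcon ⟨l, hl, h2, h4, h3⟩
    · -- q r s
      obtain ⟨l, hl, h1, h2, h3, h4⟩ := mg (x := s) (y := r) hsr (rot (swp c1)) (rot (swp c2))
      exact hcon ⟨l, hl, h3, h4, h2⟩

/-! ### extension of bijections of hyperovals -/

/-- transport of fixed-point-free involutions -/
def synCongr {X Y : Type*} (f : X ≃ Y) : Syn X ≃ Syn Y :=
  Equiv.subtypeEquiv (Equiv.permCongr f) (by
    intro u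
    constructor
    · rintro ⟨h1, h2⟩
      refine ⟨fun a => ?_, fun a => ?_⟩
      · simp [Equiv.permCongr_apply, h1]
      · simp only [Equiv.permCongr_apply]
        intro h
        exact h2 (f.symm a) (f.injective (by rw [h, f.apply_symm_apply]))
    · rintro ⟨h1, h2⟩
      refine ⟨fun a => ?_, fun a => ?_⟩
      · have := h1 (f a)
        simpa [Equiv.permCongr_apply] using this
      · intro h
        apply h2 (f a)
        simp [Equiv.permCongr_apply, h])

section Ext
variable (h : Plane L) {H : Finset α} (hH : Hyp L H) (h' : Plane L') {H' : Finset β} (hH' : Hyp L' H') (f : ↥H ≃ ↥H')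

/-- the bijection of the points outside -/
noncomputable def eOff : {p // p ∉ H} ≃ {q // q ∉ H'} :=
  (Equiv.ofBijective _ (toSyn_bij h hH)).trans ((synCongr f).trans (Equiv.ofBijective _ (toSyn_bij h' hH')).symm)

theorem eOff_spec (p : {p // p ∉ H}) : toSyn h' hH' (eOff h hH h' hH' f p) = synCongr f (toSyn h hH p) := by
  unfold eOff
  simp only [Equiv.trans_apply]
  exact (Equiv.ofBijective _ (toSyn_bij h' hH')).apply_symm_apply _

/-- the extension -/
noncomputable def eExt : α ≃ β :=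
  (Equiv.sumCompl (fun x => x ∈ H)).symm.trans
    ((Equiv.sumCongr f (eOff h hH h' hH' f)).trans (Equiv.sumCompl (fun x => x ∈ H')))

theorem eExt_mem (a : ↥H) : eExt h hH h' hH' f a = f a := by
  unfold eExt
  simp [Equiv.sumCompl_symm_apply_of_pos (p := fun x => x ∈ H) (a := (a : α)) a.2]

theorem eExt_off {p : α} (hp : p ∉ H) : eExt h hH h' hH' f p = eOff h hH h' hH' f ⟨p, hp⟩ := by
  unfold eExt
  simp [Equiv.sumCompl_symm_apply_of_neg (p := fun x => x ∈ H) (a := p) hp]

theorem eExt_notMem {p : α} (hp : p ∉ H) : eExt h hH h' hH' f p ∉ H' := by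
  rw [eExt_off h hH h' hH' f hp]; exact (eOff h hH h' hH' f ⟨p, hp⟩).2

theorem eExt_tau {p : α} (hp : p ∉ H) (a : ↥H) :
    tau h' hH' (eExt_notMem h hH h' hH' f hp) (f a) = f (tau h hH hp a) := by
  have h1 := eOff_spec h hH h' hH' f ⟨p, hp⟩
  have h2 : tau h' hH' (eOff h hH h' hH' f ⟨p, hp⟩).2 = Equiv.permCongr f (tau h hH hp) := congrArg Subtype.val h1
  have h3 : tau h' hH' (eExt_notMem h hH h' hH' f hp) = tau h' hH' (eOff h hH h' hH' f ⟨p, hp⟩).2 := by
    congr 1
    exact eExt_off h hH h' hH' f hp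
  rw [h3, h2, Equiv.permCongr_apply, f.symm_apply_apply]

theorem eExt_adj {p q : α} (hp : p ∉ H) (hq : q ∉ H) (hpq : Adj L H p q) :
    Adj L' H' (eExt h hH h' hH' f p) (eExt h hH h' hH' f q) := by
  rw [adj_iff h' hH' (eExt_notMem h hH h' hH' f hp) (eExt_notMem h hH h' hH' f hq)]
  intro b
  obtain ⟨a, rfl⟩ := f.surjective b
  rw [eExt_tau h hH h' hH' f hp, eExt_tau h hH h' hH' f hq]
  exact fun h1 => (adj_iff h hH hp hq).1 hpq a (f.injective h1)

theorem eExt_line {l : Finset α} (hl : l ∈ L) : l.image (eExt h hH h' hH' f) ∈ L' := by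
  set F := eExt h hH h' hH' f with hF
  suffices h1 : ∃ l' ∈ L', ∀ x ∈ l, F x ∈ l' by
    obtain ⟨l', hl', h2⟩ := h1
    have : l.image F = l' := by
      apply Finset.eq_of_subset_of_card_le
      · intro y hy
        obtain ⟨x, hx, rfl⟩ := Finset.mem_image.1 hy
        exact h2 x hx
      · rw [Finset.card_image_of_injective _ F.injective, h.card5 hl, h'.card5 hl']
    rw [this]; exact hl'
  by_cases hcase : ∃ a ∈ H, a ∈ l
  · obtain ⟨a, ha, al⟩ := hcase
    obtain ⟨b, hb, hba, bl⟩ := h.secant hH ha hl al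
    have hab' : (f ⟨a, ha⟩ : β) ≠ f ⟨b, hb⟩ := by
      intro h1
      have := f.injective (Subtype.ext h1)
      exact hba (congrArg Subtype.val this).symm
    obtain ⟨l', hl', a', b'⟩ := h'.ex hab'
    refine ⟨l', hl', fun x hx => ?_⟩
    by_cases hxH : x ∈ H
    · have hF1 : F x = f ⟨x, hxH⟩ := eExt_mem h hH h' hH' f ⟨x, hxH⟩
      rw [hF1]
      by_cases hxa : x = a
      · subst hxa; exact a'
      by_cases hxb : x = b
      · subst hxb; exact b'
      exact (hH.three hxH ha hb hxa hxb hba.symm hl hx al bl).elim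
    · have hR : Rel L H x ⟨a, ha⟩ ⟨b, hb⟩ := ⟨fun h => hba (congrArg Subtype.val h).symm, l, hl, hx, al, bl⟩
      have ht := tau_eq h hH hxH hR
      have ht' := eExt_tau h hH h' hH' f hxH ⟨a, ha⟩
      rw [ht] at ht'
      obtain ⟨-, m, hm, xm, am, bm⟩ := tau_rel h' hH' (eExt_notMem h hH h' hH' f hxH) (f ⟨a, ha⟩)
      rw [ht'] at bm
      rw [h'.uniq hab' hl' hm a' b' am bm]
      exact xm
  · push Not at hcase
    have hoff : ∀ x ∈ l, x ∉ H := fun x hx hxH => hcase x hxH hx
    have hadj : ∀ x ∈ l, ∀ y ∈ l, x ≠ y → Adj L' H' (F x) (F y) := fun x hx y hy hxy =>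
      eExt_adj h hH h' hH' f (hoff x hx) (hoff y hy) ⟨hxy, l, hl, hx, hy, fun z hz => hcase z hz⟩
    have h5 := h.card5 hl
    obtain ⟨p, hp, q, hq, hpq⟩ := Finset.one_lt_card.1 (show 1 < l.card by omega)
    have hFpq : F p ≠ F q := fun h => hpq (F.injective h)
    obtain ⟨l', hl', p', q'⟩ := h'.ex hFpq
    refine ⟨l', hl', fun r hr => ?_⟩
    by_cases hrp : r = p
    · subst hrp; exact p'
    by_cases hrq : r = q
    · subst hrq; exact q'
    obtain ⟨s, hs, hsn⟩ : ∃ s ∈ l, s ∉ ({p, q, r} : Finset α) := by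
      by_contra hcon
      push Not at hcon
      have := Finset.card_le_card (show l ⊆ {p, q, r} from hcon)
      have h3 : ({p, q, r} : Finset α).card ≤ 3 := Finset.card_le_three
      omega
    simp only [Finset.mem_insert, Finset.mem_singleton, not_or] at hsn
    obtain ⟨m, hm, pm, qm, rm⟩ := h'.clique hH' (eExt_notMem h hH h' hH' f (hoff p hp))
      (eExt_notMem h hH h' hH' f (hoff q hq)) (eExt_notMem h hH h' hH' f (hoff r hr)) (hadj p hp q hq hpq)
      (hadj p hp r hr (Ne.symm hrp)) (hadj q hq r hr (Ne.symm hrq)) (hadj p hp s hs (Ne.symm hsn.1))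
      (hadj q hq s hs (Ne.symm hsn.2.1)) (hadj r hr s hs (Ne.symm hsn.2.2))
    rw [h'.uniq hFpq hl' hm p' q' pm qm]
    exact rm

end Ext

/-- a bijection mapping lines to lines is an isomorphism -/
theorem image_eq (h : Plane L) (h' : Plane L') {e : α ≃ β} (he : ∀ l ∈ L, l.image e ∈ L') :
    (fun b : Finset α => b.image e) '' L = L' := by
  ext m
  constructor
  · rintro ⟨l, hl, rfl⟩; exact he l hl
  · intro hm
    obtain ⟨x, hx, y, hy, hxy⟩ := Finset.one_lt_card.1 (show 1 < m.card by rw [h'.card5 hm]; norm_num)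
    have hne : e.symm x ≠ e.symm y := fun h => hxy (e.symm.injective h)
    obtain ⟨l, hl, xl, yl⟩ := h.ex hne
    refine ⟨l, hl, ?_⟩
    apply h'.uniq hxy (he l hl) hm ?_ ?_ hx hy
    · exact Finset.mem_image.2 ⟨_, xl, e.apply_symm_apply x⟩
    · exact Finset.mem_image.2 ⟨_, yl, e.apply_symm_apply y⟩

/-- uniqueness of the extension -/
theorem ext_unique (h : Plane L) {H : Finset α} (hH : Hyp L H) (h' : Plane L') {H' : Finset β} (hH' : Hyp L' H')
    (f : ↥H ≃ ↥H') {e e' : α ≃ β} (he : ∀ l ∈ L, l.image e ∈ L') (he' : ∀ l ∈ L, l.image e' ∈ L')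
    (hf : ∀ a : ↥H, e a = f a) (hf' : ∀ a : ↥H, e' a = f a) : e = e' := by
  have off : ∀ {e : α ≃ β} (_ : ∀ a : ↥H, e a = f a) {x : α} (_ : x ∉ H), e x ∉ H' := by
    intro e hf x hx hex
    obtain ⟨a, ha⟩ := f.surjective ⟨e x, hex⟩
    have h1 : e a = e x := by rw [hf, ha]
    rw [← e.injective h1] at hx
    exact hx a.2
  have tauE : ∀ {e : α ≃ β} (_ : ∀ l ∈ L, l.image e ∈ L') (hf : ∀ a : ↥H, e a = f a) {x : α} (hx : x ∉ H) (a : ↥H),
      tau h' hH' (off hf hx) (f a) = f (tau h hH hx a) := by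
    intro e he hf x hx a
    apply tau_eq
    obtain ⟨n, l, hl, xl, al, bl⟩ := tau_rel h hH hx a
    refine ⟨fun h => n (f.injective h), l.image e, he l hl, Finset.mem_image_of_mem _ xl, ?_, ?_⟩
    · rw [← hf]; exact Finset.mem_image_of_mem _ al
    · rw [← hf]; exact Finset.mem_image_of_mem _ bl
  apply Equiv.ext
  intro x
  by_cases hx : x ∈ H
  · rw [hf ⟨x, hx⟩, hf' ⟨x, hx⟩]
  · have h1 : toSyn h' hH' ⟨e x, off hf hx⟩ = toSyn h' hH' ⟨e' x, off hf' hx⟩ := by
      apply Subtype.ext
      apply Equiv.ext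
      intro b
      obtain ⟨a, rfl⟩ := f.surjective b
      show tau h' hH' (off hf hx) (f a) = tau h' hH' (off hf' hx) (f a)
      rw [tauE he hf hx, tauE he' hf' hx]
    exact congrArg Subtype.val (toSyn_inj h' hH' h1)

/-! ### quadrangles and hyperovals -/

section Quad
open Classical

/-- the points on no secant of `S` -/
noncomputable def Off (L : Set (Finset α)) (S : Finset α) : Finset α :=
  Finset.univ.filter fun x => ∀ l ∈ L, x ∈ l → (l ∩ S).card ≤ 1

theorem mem_Off {S : Finset α} {x : α} : x ∈ Off L S ↔ ∀ l ∈ L, x ∈ l → (l ∩ S).card ≤ 1 := by simp [Off]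

theorem two_of {l S : Finset α} {a b : α} (hab : a ≠ b) (al : a ∈ l) (aS : a ∈ S) (bl : b ∈ l) (bS : b ∈ S) :
    2 ≤ (l ∩ S).card := by
  rw [← Finset.card_pair hab]
  apply Finset.card_le_card
  intro y hy
  simp only [Finset.mem_insert, Finset.mem_singleton] at hy
  rw [Finset.mem_inter]
  rcases hy with rfl | rfl
  · exact ⟨al, aS⟩
  · exact ⟨bl, bS⟩

/-- a tangent line at a point of a quadrangle contains exactly one point off the secants -/
theorem Plane.tangent (h : Plane L) {S : Finset α} (hS : Ind L 4 S) {a : α} (ha : a ∈ S) {l : Finset α} (hl : l ∈ L)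
    (hla : l ∩ S = {a}) : (l ∩ Off L S).card = 1 := by
  have al : a ∈ l := (Finset.mem_inter.1 (hla ▸ Finset.mem_singleton_self a)).1
  have hlS : ∀ x ∈ l, x ∈ S → x = a := fun x hx hxS =>
    Finset.mem_singleton.1 (hla ▸ Finset.mem_inter.2 ⟨hx, hxS⟩)
  -- the remaining three points
  obtain ⟨b, c, d, hbc, hbd, hcd, hT⟩ := Finset.card_eq_three.1
    (show (S.erase a).card = 3 by rw [Finset.card_erase_of_mem ha, hS.1])
  have hb : b ∈ S.erase a := by rw [hT]; simp
  have hc : c ∈ S.erase a := by rw [hT]; simp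
  have hd : d ∈ S.erase a := by rw [hT]; simp
  rw [Finset.mem_erase] at hb hc hd
  have hmem : ∀ x ∈ S, x = a ∨ x = b ∨ x = c ∨ x = d := by
    intro x hx
    by_cases hxa : x = a
    · exact Or.inl hxa
    · have : x ∈ S.erase a := Finset.mem_erase.2 ⟨hxa, hx⟩
      rw [hT] at this
      simp only [Finset.mem_insert, Finset.mem_singleton] at this
      exact Or.inr this
  obtain ⟨m1, hm1, b1, c1⟩ := h.ex hbc
  obtain ⟨m2, hm2, b2, d2⟩ := h.ex hbd
  obtain ⟨m3, hm3, c3, d3⟩ := h.ex hcd
  obtain ⟨x1, xl1, xm1⟩ := h.meet hl hm1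
  obtain ⟨x2, xl2, xm2⟩ := h.meet hl hm2
  obtain ⟨x3, xl3, xm3⟩ := h.meet hl hm3
  have bl : b ∉ l := fun h1 => hb.1 (hlS b h1 hb.2)
  have cl : c ∉ l := fun h1 => hc.1 (hlS c h1 hc.2)
  have dl : d ∉ l := fun h1 => hd.1 (hlS d h1 hd.2)
  have n12 : x1 ≠ x2 := by
    intro h1
    rw [← h1] at xm2 xl2
    have hxb : x1 ≠ b := fun h2 => bl (h2 ▸ xl1)
    have := h.uniq hxb hm1 hm2 xm1 b1 xm2 b2
    subst this
    exact hS.three hb.2 hc.2 hd.2 hbc hbd hcd hm1 b1 c1 d2
  have n13 : x1 ≠ x3 := by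
    intro h1
    rw [← h1] at xm3 xl3
    have hxc : x1 ≠ c := fun h2 => cl (h2 ▸ xl1)
    have := h.uniq hxc hm1 hm3 xm1 c1 xm3 c3
    subst this
    exact hS.three hb.2 hc.2 hd.2 hbc hbd hcd hm1 b1 c1 d3
  have n23 : x2 ≠ x3 := by
    intro h1
    rw [← h1] at xm3 xl3
    have hxd : x2 ≠ d := fun h2 => dl (h2 ▸ xl2)
    have := h.uniq hxd hm2 hm3 xm2 d2 xm3 d3
    subst this
    exact hS.three hb.2 hc.2 hd.2 hbc hbd hcd hm2 b2 c3 d2
  have a1 : a ≠ x1 := fun h1 => hS.three ha hb.2 hc.2 hb.1.symm hc.1.symm hbc hm1 (h1 ▸ xm1) b1 c1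
  have a2 : a ≠ x2 := fun h1 => hS.three ha hb.2 hd.2 hb.1.symm hd.1.symm hbd hm2 (h1 ▸ xm2) b2 d2
  have a3 : a ≠ x3 := fun h1 => hS.three ha hc.2 hd.2 hc.1.symm hd.1.symm hcd hm3 (h1 ▸ xm3) c3 d3
  -- the points of `l` off the secants
  have key : l \ Off L S = {a, x1, x2, x3} := by
    ext x
    simp only [Finset.mem_sdiff, mem_Off, Finset.mem_insert, Finset.mem_singleton]
    constructor
    · rintro ⟨xl, hx⟩
      push Not at hx
      obtain ⟨k, hk, xk, hk2⟩ := hx
      obtain ⟨u, hu, v, hv, huv⟩ := Finset.one_lt_card.1 hk2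
      rw [Finset.mem_inter] at hu hv
      by_cases hxa : x = a
      · exact Or.inl hxa
      right
      have hak : a ∉ k := by
        intro hak
        have := h.uniq hxa hk hl xk hak xl al
        subst this
        exact huv ((hlS u hu.1 hu.2).trans (hlS v hv.1 hv.2).symm)
      have hune : u ≠ a := fun h1 => hak (h1 ▸ hu.1)
      have hvne : v ≠ a := fun h1 => hak (h1 ▸ hv.1)
      have hkl : k ≠ l := fun h1 => hak (h1 ▸ al)
      have fin : ∀ {m : Finset α} {y : α}, m ∈ L → y ∈ l → y ∈ m → m = k → x = y := by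
        intro m y hm yl ym hmk
        subst hmk
        by_contra hxy
        exact hkl (h.uniq hxy hk hl xk ym xl yl)
      rcases hmem u hu.2 with h1 | h1 | h1 | h1 <;> rcases hmem v hv.2 with h2 | h2 | h2 | h2 <;>
        subst h1 <;> subst h2
      all_goals first
        | exact absurd rfl hune
        | exact absurd rfl hvne
        | exact absurd rfl huv
        | exact Or.inl (fin hm1 xl1 xm1 (h.uniq huv hm1 hk (by assumption) (by assumption) hu.1 hv.1))
        | exact Or.inr (Or.inl (fin hm2 xl2 xm2 (h.uniq huv hm2 hk (by assumption) (by assumption) hu.1 hv.1)))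
        | exact Or.inr (Or.inr (fin hm3 xl3 xm3 (h.uniq huv hm3 hk (by assumption) (by assumption) hu.1 hv.1)))
    · rintro (rfl | rfl | rfl | rfl)
      · refine ⟨al, ?_⟩
        push Not
        obtain ⟨k, hk, ak, bk⟩ := h.ex (Ne.symm hb.1)
        exact ⟨k, hk, ak, two_of (Ne.symm hb.1) ak ha bk hb.2⟩
      · refine ⟨xl1, ?_⟩
        push Not
        exact ⟨m1, hm1, xm1, two_of hbc b1 hb.2 c1 hc.2⟩
      · refine ⟨xl2, ?_⟩
        push Not
        exact ⟨m2, hm2, xm2, two_of hbd b2 hb.2 d2 hd.2⟩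
      · refine ⟨xl3, ?_⟩
        push Not
        exact ⟨m3, hm3, xm3, two_of hcd c3 hc.2 d3 hd.2⟩
  have h4 : (l \ Off L S).card = 4 := by
    rw [key, Finset.card_insert_of_notMem, Finset.card_eq_three.2 ⟨x1, x2, x3, n12, n13, n23, rfl⟩]
    simp only [Finset.mem_insert, Finset.mem_singleton, not_or]
    exact ⟨a1, a2, a3⟩
  have h5 := Finset.card_sdiff_add_card_inter l (Off L S)
  rw [h4, h.card5 hl] at h5
  omega

theorem Off_disj (h : Plane L) {S : Finset α} (hS : Ind L 4 S) {x : α} (hx : x ∈ S) : x ∉ Off L S := by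
  intro hx'
  obtain ⟨b, hb⟩ : (S.erase x).Nonempty := by
    rw [← Finset.card_pos, Finset.card_erase_of_mem hx, hS.1]; norm_num
  rw [Finset.mem_erase] at hb
  obtain ⟨k, hk, ak, bk⟩ := h.ex (Ne.symm hb.1)
  have h1 := mem_Off.1 hx' k hk ak
  have h2 := two_of (Ne.symm hb.1) ak hx bk hb.2
  omega

theorem Plane.card_Off (h : Plane L) {S : Finset α} (hS : Ind L 4 S) : (Off L S).card = 2 := by
  obtain ⟨a, ha⟩ : S.Nonempty := by rw [← Finset.card_pos, hS.1]; norm_num
  have h1 := h.sum_Lp a (Off L S) (Off_disj h hS ha)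
  have h2 := h.sum_Lp a (S.erase a) (Finset.notMem_erase _ _)
  rw [Finset.card_erase_of_mem ha, hS.1] at h2
  have h3 : ∀ l ∈ Lp L a, (l ∩ Off L S).card + (l ∩ S.erase a).card = 1 := by
    intro l hl
    rw [mem_Lp] at hl
    by_cases hc : (l ∩ S.erase a).card = 0
    · rw [hc, add_zero]
      apply h.tangent hS ha hl.1
      ext x
      rw [Finset.mem_inter, Finset.mem_singleton]
      constructor
      · rintro ⟨h5, h6⟩
        by_contra hne
        rw [Finset.card_eq_zero, Finset.eq_empty_iff_forall_notMem] at hc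
        exact hc x (Finset.mem_inter.2 ⟨h5, Finset.mem_erase.2 ⟨hne, h6⟩⟩)
      · rintro rfl; exact ⟨hl.2, ha⟩
    · obtain ⟨b, hb⟩ := Finset.card_pos.1 (Nat.pos_of_ne_zero hc)
      rw [Finset.mem_inter, Finset.mem_erase] at hb
      have h5 : (l ∩ Off L S).card = 0 := by
        rw [Finset.card_eq_zero, Finset.eq_empty_iff_forall_notMem]
        intro x hx
        rw [Finset.mem_inter, mem_Off] at hx
        have := hx.2 l hl.1 hx.1
        have := two_of (Ne.symm hb.2.1) hl.2 ha hb.1 hb.2.2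
        omega
      have h6 : (l ∩ S.erase a).card ≤ 1 := by
        rw [Finset.card_le_one]
        intro x hx y hy
        rw [Finset.mem_inter, Finset.mem_erase] at hx hy
        by_contra hxy
        exact hS.three ha hx.2.2 hy.2.2 (Ne.symm hx.2.1) (Ne.symm hy.2.1) hxy hl.1 hl.2 hx.1 hy.1
      omega
  have h4 := Finset.sum_congr rfl h3
  rw [Finset.sum_add_distrib, h1, h2, Finset.sum_const, h.card_Lp, smul_eq_mul] at h4
  omega

/-- every quadrangle lies in exactly one hyperoval -/
theorem Plane.exists_hyp (h : Plane L) {S : Finset α} (hS : Ind L 4 S) : ∃! H : Finset α, Hyp L H ∧ S ⊆ H := by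
  have hdisj : Disjoint S (Off L S) := Finset.disjoint_left.2 fun x hx => Off_disj h hS hx
  refine ⟨S ∪ Off L S, ⟨⟨?_, ?_⟩, Finset.subset_union_left⟩, ?_⟩
  · rw [Finset.card_union_of_disjoint hdisj, hS.1, h.card_Off hS]
  · intro l hl
    rw [Finset.inter_union_distrib_left]
    refine (Finset.card_union_le _ _).trans ?_
    have h2 := hS.2 l hl
    by_cases h0 : (l ∩ S).card = 0
    · rw [h0, zero_add]
      exact (Finset.card_le_card Finset.inter_subset_right).trans (h.card_Off hS).le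
    by_cases h1 : (l ∩ S).card = 1
    · obtain ⟨a, ha⟩ := Finset.card_eq_one.1 h1
      have haS : a ∈ S := (Finset.mem_inter.1 (ha ▸ Finset.mem_singleton_self a)).2
      rw [h1, h.tangent hS haS hl ha]
    · have : (l ∩ Off L S).card = 0 := by
        rw [Finset.card_eq_zero, Finset.eq_empty_iff_forall_notMem]
        intro x hx
        rw [Finset.mem_inter, mem_Off] at hx
        have := hx.2 l hl hx.1
        omega
      omega
  · rintro H ⟨hH, hSH⟩
    symm
    apply Finset.eq_of_superset_of_card_ge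
    · intro x hx
      by_cases hxS : x ∈ S
      · exact Finset.mem_union_left _ hxS
      apply Finset.mem_union_right
      rw [mem_Off]
      intro l hl xl
      by_contra hcon
      push Not at hcon
      obtain ⟨u, hu, v, hv, huv⟩ := Finset.one_lt_card.1 hcon
      rw [Finset.mem_inter] at hu hv
      exact hH.three hx (hSH hu.2) (hSH hv.2) (by rintro rfl; exact hxS hu.2) (by rintro rfl; exact hxS hv.2) huv hl xl
        hu.1 hv.1
    · rw [Finset.card_union_of_disjoint hdisj, hS.1, h.card_Off hS, hH.1]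

/-! ### counting -/

theorem Ind.sub {k j : ℕ} {S T : Finset α} (hT : Ind L k T) (hST : S ⊆ T) (hS : S.card = j) : Ind L j S :=
  ⟨hS, fun l hl => (Finset.card_le_card (Finset.inter_subset_inter_left hST)).trans (hT.2 l hl)⟩

/-- extensions of an independent set by a point -/
theorem ext_iff (h : Plane L) {k : ℕ} {S : Finset α} (hS : Ind L k S) (hk : 2 ≤ k) {x : α} :
    x ∉ S ∧ Ind L (k + 1) (insert x S) ↔ x ∈ Off L S := by
  constructor
  · rintro ⟨hx, hI⟩
    rw [mem_Off]
    intro l hl xl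
    have h1 := hI.2 l hl
    rw [Finset.inter_insert_of_mem xl, Finset.card_insert_of_notMem (fun h2 => hx (Finset.mem_inter.1 h2).2)] at h1
    omega
  · intro hx
    rw [mem_Off] at hx
    have hxS : x ∉ S := by
      intro hxS
      obtain ⟨b, hb⟩ : (S.erase x).Nonempty := by
        rw [← Finset.card_pos, Finset.card_erase_of_mem hxS, hS.1]; omega
      rw [Finset.mem_erase] at hb
      obtain ⟨l, hl, ak, bk⟩ := h.ex (Ne.symm hb.1)
      have h1 := hx l hl ak
      have h2 := two_of (Ne.symm hb.1) ak hxS bk hb.2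
      omega
    refine ⟨hxS, by rw [Finset.card_insert_of_notMem hxS, hS.1], fun l hl => ?_⟩
    by_cases xl : x ∈ l
    · rw [Finset.inter_insert_of_mem xl]
      exact (Finset.card_insert_le _ _).trans (Nat.succ_le_succ (hx l hl xl))
    · rw [Finset.inter_insert_of_notMem xl]
      exact hS.2 l hl

/-- double counting -/
theorem count_gen (j k m n : ℕ) (h1 : ∀ S, Ind L j S → (Finset.univ.filter fun T => Ind L k T ∧ S ⊆ T).card = m)
    (h2 : ∀ T, Ind L k T → (Finset.univ.filter fun S => Ind L j S ∧ S ⊆ T).card = n) :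
    {S : Finset α | Ind L j S}.ncard * m = {T : Finset α | Ind L k T}.ncard * n := by
  have e : ∀ i, {S : Finset α | Ind L i S}.ncard = (Finset.univ.filter fun S => Ind L i S).card := by
    intro i
    rw [← Set.ncard_coe_finset]
    congr 1
    ext S; simp
  rw [e, e]
  apply Finset.card_mul_eq_card_mul (fun S T : Finset α => S ⊆ T)
  · intro S hS
    rw [Finset.mem_filter] at hS
    rw [← h1 S hS.2]
    congr 1
    ext T
    simp [Finset.bipartiteAbove]
  · intro T hT
    rw [Finset.mem_filter] at hT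
    rw [← h2 T hT.2]
    congr 1
    ext S
    simp [Finset.bipartiteBelow]

theorem count_below (j : ℕ) {k : ℕ} {T : Finset α} (hT : Ind L k T) :
    (Finset.univ.filter fun S => Ind L j S ∧ S ⊆ T).card = k.choose j := by
  rw [← hT.1, ← Finset.card_powersetCard]
  congr 1
  ext S
  simp only [Finset.mem_filter, Finset.mem_univ, true_and, Finset.mem_powersetCard]
  constructor
  · rintro ⟨h1, h2⟩; exact ⟨h2, h1.1⟩
  · rintro ⟨h1, h2⟩; exact ⟨hT.sub h1 h2, h1⟩

theorem count_above (h : Plane L) {k : ℕ} {S : Finset α} (hS : Ind L k S) (hk : 2 ≤ k) :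
    (Finset.univ.filter fun T => Ind L (k + 1) T ∧ S ⊆ T).card = (Off L S).card := by
  symm
  apply Finset.card_bij (fun x _ => insert x S)
  · intro x hx
    rw [← ext_iff h hS hk] at hx
    rw [Finset.mem_filter]
    exact ⟨Finset.mem_univ _, hx.2, Finset.subset_insert _ _⟩
  · intro x hx y hy hxy
    rw [← ext_iff h hS hk] at hx hy
    have : x ∈ insert y S := by rw [← hxy]; exact Finset.mem_insert_self _ _
    rw [Finset.mem_insert] at this
    exact this.resolve_right hx.1
  · intro T hT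
    rw [Finset.mem_filter] at hT
    obtain ⟨-, hT, hST⟩ := hT
    have h1 : (T \ S).card = 1 := by
      rw [Finset.card_sdiff_of_subset hST, hT.1, hS.1]; omega
    obtain ⟨x, hx⟩ := Finset.card_eq_one.1 h1
    have hxT : x ∈ T \ S := by rw [hx]; exact Finset.mem_singleton_self x
    rw [Finset.mem_sdiff] at hxT
    have heq : insert x S = T := by
      rw [← Finset.sdiff_union_of_subset hST, hx]; rfl
    refine ⟨x, ?_, heq⟩
    rw [← ext_iff h hS hk]
    exact ⟨hxT.2, by rw [heq]; exact hT⟩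

theorem Plane.off2 (h : Plane L) {S : Finset α} (hS : Ind L 2 S) : (Off L S).card = 16 := by
  obtain ⟨a, b, hab, rfl⟩ := Finset.card_eq_two.1 hS.1
  obtain ⟨l, hl, al, bl⟩ := h.ex hab
  have : Off L {a, b} = lᶜ := by
    ext x
    rw [mem_Off, Finset.mem_compl]
    constructor
    · intro hx xl
      have := hx l hl xl
      have := two_of (S := {a, b}) hab al (by simp) bl (by simp)
      omega
    · intro xl k hk xk
      by_contra hcon
      push Not at hcon
      obtain ⟨u, hu, v, hv, huv⟩ := Finset.one_lt_card.1 hcon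
      simp only [Finset.mem_inter, Finset.mem_insert, Finset.mem_singleton] at hu hv
      have hkl : k = l := by
        rcases hu with ⟨hu, rfl | rfl⟩ <;> rcases hv with ⟨hv, rfl | rfl⟩
        · exact absurd rfl huv
        · exact h.uniq huv hk hl hu hv al bl
        · exact h.uniq huv hk hl hu hv bl al
        · exact absurd rfl huv
      exact xl (hkl ▸ xk)
  rw [this, Finset.card_compl, h.card, h.card5 hl]

theorem Plane.off3 (h : Plane L) {S : Finset α} (hS : Ind L 3 S) : (Off L S).card = 9 := by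
  obtain ⟨a, b, c, hab, hac, hbc, rfl⟩ := Finset.card_eq_three.1 hS.1
  have haS : a ∈ ({a, b, c} : Finset α) := by simp
  have hbS : b ∈ ({a, b, c} : Finset α) := by simp
  have hcS : c ∈ ({a, b, c} : Finset α) := by simp
  have haO : a ∉ Off L {a, b, c} := by
    rw [mem_Off]
    push Not
    obtain ⟨l, hl, al, bl⟩ := h.ex hab
    exact ⟨l, hl, al, two_of hab al haS bl hbS⟩
  have h1 := h.sum_Lp a (Off L {a, b, c}) haO
  have h2 := h.sum_Lp a {b, c} (by simp [hab, hac])
  rw [Finset.card_pair hbc] at h2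
  have h3 : ∀ l ∈ Lp L a, (l ∩ Off L {a, b, c}).card + 3 * (l ∩ {b, c}).card = 3 := by
    intro l hl
    rw [mem_Lp] at hl
    by_cases hc : (l ∩ {b, c}).card = 0
    · rw [hc]
      rw [Finset.card_eq_zero, Finset.eq_empty_iff_forall_notMem] at hc
      have bl : b ∉ l := fun h5 => hc b (by simp [h5])
      have cl : c ∉ l := fun h5 => hc c (by simp [h5])
      obtain ⟨m, hm, bm, cm⟩ := h.ex hbc
      obtain ⟨x, xl, xm⟩ := h.meet hl.1 hm
      have hax : a ≠ x := by
        intro h5; subst h5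
        exact hS.three haS hbS hcS hab hac hbc hm xm bm cm
      have hlm : l ≠ m := by rintro rfl; exact bl bm
      have key : l \ Off L {a, b, c} = {a, x} := by
        ext y
        simp only [Finset.mem_sdiff, mem_Off, Finset.mem_insert, Finset.mem_singleton]
        constructor
        · rintro ⟨yl, hy⟩
          push Not at hy
          obtain ⟨k, hk, yk, hk2⟩ := hy
          obtain ⟨u, hu, v, hv, huv⟩ := Finset.one_lt_card.1 hk2
          rw [Finset.mem_inter] at hu hv
          simp only [Finset.mem_insert, Finset.mem_singleton] at hu hv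
          by_cases hya : y = a
          · exact Or.inl hya
          right
          have hak : a ∉ k := by
            intro hak
            have := h.uniq hya hk hl.1 yk hak yl hl.2
            subst this
            rcases hu with ⟨hu, rfl | rfl | rfl⟩ <;> rcases hv with ⟨hv, rfl | rfl | rfl⟩ <;>
              first | exact huv rfl | exact bl hu | exact cl hu | exact bl hv | exact cl hv
          have hkm : k = m := by
            rcases hu with ⟨hu, rfl | rfl | rfl⟩ <;> rcases hv with ⟨hv, rfl | rfl | rfl⟩ <;>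
              first
              | exact absurd rfl huv
              | exact absurd hu hak
              | exact absurd hv hak
              | exact h.uniq huv hk hm hu hv bm cm
              | exact h.uniq huv hk hm hu hv cm bm
          subst hkm
          by_contra hyx
          exact hlm (h.uniq hyx hl.1 hk yl xl yk xm)
        · rintro (rfl | rfl)
          · refine ⟨hl.2, ?_⟩
            push Not
            obtain ⟨k, hk, ak, bk⟩ := h.ex hab
            exact ⟨k, hk, ak, two_of hab ak haS bk hbS⟩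
          · refine ⟨xl, ?_⟩
            push Not
            exact ⟨m, hm, xm, two_of hbc bm hbS cm hcS⟩
      have h5 := Finset.card_sdiff_add_card_inter l (Off L {a, b, c})
      rw [key, Finset.card_pair hax, h.card5 hl.1] at h5
      omega
    · obtain ⟨u, hu⟩ := Finset.card_pos.1 (Nat.pos_of_ne_zero hc)
      rw [Finset.mem_inter] at hu
      have huS : u ∈ ({a, b, c} : Finset α) := Finset.mem_insert_of_mem hu.2
      have hua : a ≠ u := by
        rintro rfl
        simp [hab, hac] at hu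
      have h5 : (l ∩ Off L {a, b, c}).card = 0 := by
        rw [Finset.card_eq_zero, Finset.eq_empty_iff_forall_notMem]
        intro x hx
        rw [Finset.mem_inter, mem_Off] at hx
        have := hx.2 l hl.1 hx.1
        have := two_of hua hl.2 haS hu.1 huS
        omega
      have h6 : (l ∩ {b, c}).card ≤ 1 := by
        rw [Finset.card_le_one]
        intro x hx y hy
        rw [Finset.mem_inter] at hx hy
        by_contra hxy
        have hxS : x ∈ ({a, b, c} : Finset α) := Finset.mem_insert_of_mem hx.2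
        have hyS : y ∈ ({a, b, c} : Finset α) := Finset.mem_insert_of_mem hy.2
        have hxa : a ≠ x := by
          rintro rfl
          simp [hab, hac] at hx
        have hya : a ≠ y := by
          rintro rfl
          simp [hab, hac] at hy
        exact hS.three haS hxS hyS hxa hya hxy hl.1 hl.2 hx.1 hy.1
      omega
  have h4 := Finset.sum_congr rfl h3
  rw [Finset.sum_add_distrib, h1, ← Finset.mul_sum, h2, Finset.sum_const, h.card_Lp, smul_eq_mul] at h4
  omega

theorem Plane.ind2 (h : Plane L) : {S : Finset α | Ind L 2 S}.ncard = 210 := by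
  have : {S : Finset α | Ind L 2 S} = ((Finset.powersetCard 2 (Finset.univ : Finset α) : Finset (Finset α)) : Set (Finset α)) := by
    ext S
    simp only [Set.mem_ofPred_eq, Finset.mem_coe, Finset.mem_powersetCard, Finset.subset_univ, true_and]
    constructor
    · intro h1; exact h1.1
    · intro h1; exact ⟨h1, fun l _ => (Finset.card_le_card Finset.inter_subset_right).trans h1.le⟩
  rw [this, Set.ncard_coe_finset, Finset.card_powersetCard, Finset.card_univ, h.card]
  rfl

theorem Plane.ind3 (h : Plane L) : {S : Finset α | Ind L 3 S}.ncard = 1120 := by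
  have h1 := count_gen (L := L) 2 3 16 3 (fun S hS => by rw [count_above h hS (by norm_num), h.off2 hS])
    (fun T hT => by rw [count_below 2 hT]; rfl)
  rw [h.ind2] at h1
  omega

theorem Plane.ind4 (h : Plane L) : {S : Finset α | Ind L 4 S}.ncard = 2520 := by
  have h1 := count_gen (L := L) 3 4 9 4 (fun S hS => by rw [count_above h hS (by norm_num), h.off3 hS])
    (fun T hT => by rw [count_below 3 hT]; rfl)
  rw [h.ind3] at h1
  omega

theorem Plane.hyp (h : Plane L) : {H : Finset α | Hyp L H}.ncard = 168 := by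
  have h1 := count_gen (L := L) 4 6 1 15 (fun S hS => by
    obtain ⟨H, hH, hu⟩ := h.exists_hyp hS
    rw [Finset.card_eq_one]
    refine ⟨H, ?_⟩
    ext T
    rw [Finset.mem_filter, Finset.mem_singleton]
    constructor
    · rintro ⟨-, h2⟩; exact hu T h2
    · rintro rfl; exact ⟨Finset.mem_univ _, hH⟩)
    (fun T hT => by rw [count_below 4 hT]; rfl)
  rw [h.ind4] at h1
  show {H : Finset α | Ind L 6 H}.ncard = 168
  omega

/-- every plane of order 4 has a hyperoval -/
theorem Plane.exists_hyperoval (h : Plane L) : ∃ H : Finset α, Hyp L H := by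
  have h1 := h.hyp
  have : {H : Finset α | Hyp L H}.Nonempty := by
    rw [← Set.ncard_pos, h1]; norm_num
  exact this

end Quad

end H94.PG24
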