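import Mathlib

/-! Finite facts about the group `2 × A₅`. -/

set_option autoImplicit false
open Equiv

namespace H94.J1

abbrev MP := Multiplicative (ZMod 2) × alternatingGroup (Fin 5)

def z0 : MP := (Multiplicative.ofAdd 1, 1)
def u0 : MP := (1, ⟨c[0,1,2], by rw [Equiv.Perm.mem_alternatingGroup]; decide +kernel⟩)
def v0 : MP := (1, ⟨c[0,1,2,3,4], by rw [Equiv.Perm.mem_alternatingGroup]; decide +kernel⟩)
def s0 : MP := (1, ⟨c[1,2]*c[3,4], by rw [Equiv.Perm.mem_alternatingGroup]; decide +kernel⟩)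
def s1 : MP := (1, ⟨c[1,4]*c[2,3], by rw [Equiv.Perm.mem_alternatingGroup]; decide +kernel⟩)

set_option maxRecDepth 100000

theorem card_MP : Fintype.card MP = 120 := by decide +kernel
theorem comm_u0 : (Finset.univ.filter fun q : MP => q * u0 = u0 * q).card = 6 := by decide +kernel
theorem comm_v0 : (Finset.univ.filter fun q : MP => q * v0 = v0 * q).card = 10 := by decide +kernel
theorem v0_ne : ∀ q : MP, q * v0 ≠ v0 * v0 * q := by decide +kernel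
theorem cnt_t : (Finset.univ.filter fun q : MP => q * q = 1 ∧ q ≠ 1 ∧ (q * z0) * (q * z0) = 1 ∧ q * z0 ≠ 1).card = 30 := by
  decide +kernel
theorem cnt_u : (Finset.univ.filter fun q : MP => q * q = 1 ∧ q ≠ 1 ∧ (q * (z0 * u0))*(q * (z0 * u0)) = 1 ∧
    q * (z0 * u0) ≠ 1).card = 6 := by decide +kernel
theorem cnt_v : (Finset.univ.filter fun q : MP => q * q = 1 ∧ q ≠ 1 ∧ (q * (z0 * v0))*(q * (z0 * v0)) = 1 ∧
    q * (z0 * v0) ≠ 1).card = 10 := by decide +kernel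
theorem cnt_v2 : (Finset.univ.filter fun q : MP => q * q = 1 ∧ q ≠ 1 ∧
    (q * (z0 * (v0 * v0)))*(q * (z0 * (v0*v0))) = 1 ∧ q * (z0 * (v0*v0)) ≠ 1).card = 10 := by decide +kernel
theorem cen : ∀ p : MP, (∀ q : MP, p * q = q * p) → p = 1 ∨ p = z0 := by decide +kernel
theorem z0_comm : ∀ q : MP, z0 * q = q * z0 := by decide +kernel
theorem z0_ne : z0 ≠ 1 := by decide +kernel
theorem z0_sq : z0 * z0 = 1 := by decide +kernel
theorem u0_pow : u0 ^ 3 = 1 := by decide +kernel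
theorem u0_ne : u0 ≠ 1 := by decide +kernel
theorem v0_pow : v0 ^ 5 = 1 := by decide +kernel
theorem v0_ne1 : v0 ≠ 1 := by decide +kernel
theorem s0_inv : s0 * u0 * s0⁻¹ = u0⁻¹ := by decide +kernel
theorem s1_inv : s1 * v0 * s1⁻¹ = v0⁻¹ := by decide +kernel
theorem sq_of_four : ∀ q : MP, (q * q) * (q * q) = 1 → q * q = 1 := by decide +kernel
/-- the class of `s0` -/
theorem cls1 : ∀ q : MP, (∃ r : MP, r * s0 * r⁻¹ = q) ↔ (q * q = 1 ∧ q ≠ 1 ∧ q.1 = 1) := by decide +kernel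
theorem cls2 : ∀ q : MP, (∃ r : MP, r * (z0 * s0) * r⁻¹ = q) ↔ (q * q = 1 ∧ q ≠ z0 ∧ q.1 ≠ 1) := by decide +kernel
theorem card_cls1 : (Finset.univ.filter fun q : MP => q * q = 1 ∧ q ≠ 1 ∧ q.1 = 1).card = 15 := by decide +kernel
theorem card_cls2 : (Finset.univ.filter fun q : MP => q * q = 1 ∧ q ≠ z0 ∧ q.1 ≠ 1).card = 15 := by decide +kernel


theorem inv_conj (q : MP) (h : q * q = 1) (h1 : q ≠ 1) (hz : q ≠ z0) :
    (∃ r : MP, r * s0 * r⁻¹ = q) ∨ (∃ r : MP, r * (z0 * s0) * r⁻¹ = q) := by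
  by_cases hq : q.1 = 1
  · exact Or.inl ((cls1 q).2 ⟨h, h1, hq⟩)
  · exact Or.inr ((cls2 q).2 ⟨h, hz, hq⟩)

theorem cls3 : ∀ q : MP, (∃ r : MP, r * u0 * r⁻¹ = q) ↔ (q * q * q = 1 ∧ q ≠ 1) := by decide +kernel
theorem cls6 : ∀ q : MP, (∃ r : MP, r * (z0 * u0) * r⁻¹ = q) ↔ (q * q * q = z0 ∧ q ≠ z0) := by decide +kernel
theorem cls5 : ∀ q : MP, ((∃ r : MP, r * v0 * r⁻¹ = q) ∨ (∃ r : MP, r * (v0 * v0) * r⁻¹ = q)) ↔
    (q * q * q * q * q = 1 ∧ q ≠ 1) := by decide +kernel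
theorem cls10 : ∀ q : MP, ((∃ r : MP, r * (z0 * v0) * r⁻¹ = q) ∨ (∃ r : MP, r * (z0 * (v0 * v0)) * r⁻¹ = q)) ↔
    (q * q * q * q * q = z0 ∧ q ≠ z0) := by decide +kernel
/-- class index -/
def ci (q : MP) : Fin 6 :=
  if q = 1 then 0 else if q * q = 1 then 1 else if q * q * q = 1 then 2 else if q * q * q = z0 then 3 else
    if q * q * q * q * q = 1 then 4 else 5
theorem ci5 : ∀ q : MP, ci q = 5 → (q * q * q * q * q = z0 ∧ q ≠ z0) := by decide +kernel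
theorem ci4 : ∀ q : MP, ci q = 4 → (q * q * q * q * q = 1 ∧ q ≠ 1) := by decide +kernel
theorem ci3 : ∀ q : MP, ci q = 3 → (q * q * q = z0 ∧ q ≠ z0) := by decide +kernel
theorem ci2 : ∀ q : MP, ci q = 2 → (q * q * q = 1 ∧ q ≠ 1) := by decide +kernel
theorem ci1 : ∀ q : MP, ci q = 1 → (q * q = 1 ∧ q ≠ 1) := by decide +kernel
theorem ci0 : ∀ q : MP, ci q = 0 → q = 1 := by decide +kernel
theorem ci_card : ∀ i : Fin 6, (Finset.univ.filter fun q : MP => ci q = i).card = ![1, 31, 20, 20, 24, 24] i := by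
  decide +kernel
/-- the subgroup `2 × A₄` -/
def HA : Subgroup MP where
  carrier := {q | q.2.1 4 = 4}
  one_mem' := by decide +kernel
  mul_mem' := by
    intro a b ha hb
    change (a.2.1 * b.2.1) 4 = 4
    rw [Perm.mul_apply]
    have hb' : b.2.1 4 = 4 := hb
    rw [hb']; exact ha
  inv_mem' := by
    intro a ha
    have ha' : a.2.1 4 = 4 := ha
    change (a.2.1)⁻¹ 4 = 4
    rw [Perm.inv_eq_iff_eq]; exact ha'.symm
theorem mem_HA {q : MP} : q ∈ HA ↔ q.2.1 4 = 4 := Iff.rfl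
theorem HA_card : ∀ i : Fin 6, (Finset.univ.filter fun q : MP => q.2.1 4 = 4 ∧ ci q = i).card = ![1, 7, 8, 8, 0, 0] i := by
  decide +kernel
theorem HE_mul : ∀ a : MP, (a.2.1 4 = 4 ∧ a * a = 1) → ∀ b : MP, (b.2.1 4 = 4 ∧ b * b = 1) →
    a * b * (a * b) = 1 := by
  decide +kernel
/-- the subgroup `E₈` -/
def HE : Subgroup MP where
  carrier := {q | q.2.1 4 = 4 ∧ q * q = 1}
  one_mem' := by decide +kernel
  mul_mem' := by
    intro a b ha hb
    exact ⟨HA.mul_mem ha.1 hb.1, HE_mul a ha b hb⟩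
  inv_mem' := by
    intro a ha
    refine ⟨HA.inv_mem ha.1, ?_⟩
    rw [← mul_inv_rev, ha.2, inv_one]
theorem mem_HE {q : MP} : q ∈ HE ↔ q.2.1 4 = 4 ∧ q * q = 1 := Iff.rfl
theorem HE_card : (Finset.univ.filter fun q : MP => (q.2.1 4 = 4 ∧ q * q = 1) ∧ q ≠ 1).card = 7 := by
  decide +kernel
theorem HE_le : HE ≤ HA := fun _ h => h.1

end H94.J1
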