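import Cfsg.Prelude.Def_SporadicB
import Cfsg.Agent.S0215
import Cfsg.Agent.Lib.H94.J1Mod
import Cfsg.Agent.Lib.H94.M11Char

/-! Simple groups with a 2-central involution whose centralizer is `2 × A₅`: local structure. -/

set_option autoImplicit false
set_option linter.unusedSectionVars false
open Subgroup Cfsg

namespace H94.J1

universe u
variable {G : Type u} [Group G] [Finite G]

/-- the embedding of the model in `G` -/
def emb {t : G} (e : centralizer ({t} : Set G) ≃* MP) : MP →* G :=
  (centralizer ({t} : Set G)).subtype.comp e.symm.toMonoidHom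

section
variable {t : G} (e : centralizer ({t} : Set G) ≃* MP)

theorem emb_inj : Function.Injective (emb e) :=
  Subtype.val_injective.comp e.symm.injective

theorem emb_mem (q : MP) : emb e q * t = t * emb e q := by
  have := (e.symm q).2
  rw [mem_centralizer_singleton_iff] at this
  exact this

theorem exists_emb {g : G} (h : g * t = t * g) : ∃ q, emb e q = g :=
  ⟨e ⟨g, mem_centralizer_singleton_iff.2 h⟩, by
    change ((e.symm (e ⟨g, _⟩) : centralizer ({t} : Set G)) : G) = g
    rw [e.symm_apply_apply]⟩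

theorem emb_z0 (ht : orderOf t = 2) : emb e z0 = t := by
  obtain ⟨q, hq⟩ := exists_emb e (g := t) rfl
  rcases cen q (fun p => emb_inj e (by rw [map_mul, map_mul, hq, emb_mem])) with h | h
  · rw [h, map_one] at hq
    rw [← hq, orderOf_one] at ht
    omega
  · rw [← h]; exact hq

theorem conj_emb {q r : MP} (h : ∃ s : MP, s * q * s⁻¹ = r) : IsConj (emb e q) (emb e r) := by
  obtain ⟨s, hs⟩ := h
  rw [isConj_iff]
  exact ⟨emb e s, by rw [← hs, map_mul, map_mul, map_inv]⟩

include e in
theorem card_cent : Nat.card (centralizer ({t} : Set G)) = 120 := by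
  rw [Nat.card_congr e.toEquiv, Nat.card_eq_fintype_card, card_MP]

/-- elements of `G` commuting with `t` satisfying a property -/
theorem card_sub (p : G → Prop) (hp : ∀ g, p g → g * t = t * g) :
    Nat.card {g : G // p g} = Nat.card {q : MP // p (emb e q)} := by
  symm
  refine Nat.card_congr (Equiv.ofBijective (fun q => ⟨emb e q.1, q.2⟩) ⟨?_, ?_⟩)
  · intro a b hab
    exact Subtype.ext (emb_inj e (congrArg (fun x : {g : G // p g} => x.1) hab))
  · rintro ⟨g, hg⟩
    obtain ⟨q, rfl⟩ := exists_emb e (hp g hg)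
    exact ⟨⟨q, hg⟩, rfl⟩

end

/-- everything known about the local structure -/
structure Loc (t : G) (e : centralizer ({t} : Set G) ≃* MP) : Prop where
  ht : orderOf t = 2
  conj : ∀ s : G, orderOf s = 2 → IsConj t s

theorem sq_one_iff {g : G} : (g * g = 1 ∧ g ≠ 1) ↔ orderOf g = 2 := by
  constructor
  · rintro ⟨h1, h2⟩
    exact orderOf_eq_prime (by rw [pow_two]; exact h1) h2
  · intro h
    refine ⟨by rw [← pow_two, ← h]; exact pow_orderOf_eq_one g, ?_⟩
    rintro rfl
    simp at h

section
variable {t : G} (e : centralizer ({t} : Set G) ≃* MP)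

theorem emb_order {q : MP} : orderOf (emb e q) = 2 ↔ q * q = 1 ∧ q ≠ 1 := by
  rw [← sq_one_iff, ← map_mul]
  constructor
  · rintro ⟨h1, h2⟩
    refine ⟨emb_inj e (by rw [h1, map_one]), ?_⟩
    rintro rfl
    exact h2 (map_one _)
  · rintro ⟨h1, h2⟩
    refine ⟨by rw [h1, map_one], fun h => h2 (emb_inj e (by rw [h, map_one]))⟩

/-- parity of the number of conjugates of `t` commuting with `t` -/
theorem odd_count (ht : orderOf t = 2) (P : Sylow 2 G) (hP : ∀ x ∈ P, x * t = t * x) :
    ¬ 2 ∣ Nat.card {x : G // IsConj t x ∧ x * t = t * x} := by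
  classical
  have htt : t * t = 1 := (sq_one_iff.2 ht).1
  have hti : t⁻¹ = t := inv_eq_of_mul_eq_one_left htt
  let _ := Fintype.ofFinite {x : G // IsConj t x}
  have h1 : ¬ 2 ∣ Nat.card {x : G // IsConj t x} := by
    have h2 : Nat.card {x : G // IsConj t x} = (centralizer ({t} : Set G)).index := by
      have h3 := H18.CharInd.card_isConj_mul_card_centralizer t
      have h4 := (centralizer ({t} : Set G)).card_mul_index
      rw [mul_comm] at h4
      have h5 : 0 < Nat.card (centralizer ({t} : Set G)) := Nat.card_pos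
      exact Nat.eq_of_mul_eq_mul_right h5 (h3.trans h4.symm)
    rw [h2]
    intro h
    have h3 : (P : Subgroup G) ≤ centralizer ({t} : Set G) := fun x hx =>
      mem_centralizer_singleton_iff.2 (hP x hx)
    exact Sylow.not_dvd_index P (h.trans (Subgroup.index_dvd_of_le h3))
  let f : Function.End {x : G // IsConj t x} := fun x => ⟨t * x.1 * t, by
    have h3 : IsConj (x.1) (t * x.1 * t) := isConj_iff.2 ⟨t, by rw [hti]⟩
    exact x.2.trans h3⟩
  have hf : f ^ 2 ^ 1 = 1 := by
    funext x
    apply Subtype.ext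
    change t * (t * x.1 * t) * t = x.1
    rw [← mul_assoc, ← mul_assoc, htt, one_mul, mul_assoc, htt, mul_one]
  have h2 := Equiv.Perm.card_fixedPoints_modEq hf
  rw [← Nat.card_eq_fintype_card, ← Nat.card_eq_fintype_card] at h2
  have h3 : Nat.card f.fixedPoints = Nat.card {x : G // IsConj t x ∧ x * t = t * x} := by
    refine Nat.card_congr ⟨fun x => ⟨x.1.1, x.1.2, ?_⟩, fun x => ⟨⟨x.1, x.2.1⟩, ?_⟩, fun x => rfl, fun x => rfl⟩
    · have h4 : t * x.1.1 * t = x.1.1 := congrArg Subtype.val x.2
      calc x.1.1 * t = (t * x.1.1 * t) * t := by rw [h4]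
        _ = t * x.1.1 := by rw [mul_assoc, htt, mul_one]
    · apply Subtype.ext
      change t * x.1 * t = x.1
      rw [mul_assoc, x.2.2, ← mul_assoc, htt, one_mul]
  rw [h3] at h2
  intro h
  apply h1
  exact (Nat.modEq_zero_iff_dvd.1 (h2.trans (Nat.modEq_zero_iff_dvd.2 h)))

theorem isConj_emb_iff (ht : orderOf t = 2) (q : MP) : IsConj t (emb e q) ↔
    q = z0 ∨ (IsConj t (emb e s0) ∧ (q * q = 1 ∧ q ≠ 1 ∧ q.1 = 1)) ∨
      (IsConj t (emb e (z0 * s0)) ∧ (q * q = 1 ∧ q ≠ z0 ∧ q.1 ≠ 1)) := by
  constructor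
  · intro h
    have h1 : orderOf (emb e q) = 2 := by rw [← H94.M11.orderOf_eq_of_isConj h]; exact ht
    rw [emb_order] at h1
    by_cases hz : q = z0
    · exact Or.inl hz
    · right
      rcases inv_conj q h1.1 h1.2 hz with h2 | h2
      · exact Or.inl ⟨h.trans (conj_emb e h2).symm, (cls1 q).1 h2⟩
      · exact Or.inr ⟨h.trans (conj_emb e h2).symm, (cls2 q).1 h2⟩
  · rintro (rfl | ⟨h, h'⟩ | ⟨h, h'⟩)
    · rw [emb_z0 e ht]
    · exact h.trans (conj_emb e ((cls1 q).2 h'))
    · exact h.trans (conj_emb e ((cls2 q).2 h'))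

theorem z0_fst : z0.1 ≠ 1 := by decide

/-- all involutions are conjugate -/
theorem loc [IsSimpleGroup G] (ht : orderOf t = 2) (P : Sylow 2 G) (htP : t ∈ P)
    (hP : ∀ x ∈ P, x * t = t * x) : Loc t e := by
  classical
  have hz := emb_z0 e ht
  -- Z*
  have h1 : IsConj t (emb e s0) ∨ IsConj t (emb e (z0 * s0)) := by
    by_contra hcon
    push Not at hcon
    obtain ⟨N, hN, hodd, hcomm⟩ := Cfsg.Agent.S0215.result P t ht htP (by
      intro g hg
      have h2 := hP _ hg
      obtain ⟨q, hq⟩ := exists_emb e h2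
      have h3 : IsConj t (emb e q) := by rw [hq]; exact isConj_iff.2 ⟨g, rfl⟩
      rcases (isConj_emb_iff e ht q).1 h3 with h4 | h4 | h4
      · rw [← hq, h4, hz]
      · exact absurd h4.1 hcon.1
      · exact absurd h4.1 hcon.2)
    have hNb : N = ⊥ := by
      rcases IsSimpleGroup.eq_bot_or_eq_top_of_normal N hN with h | h
      · exact h
      · exfalso
        rw [h] at hodd
        have h2 : 2 ∣ Nat.card (⊤ : Subgroup G) := by
          rw [Subgroup.card_top, ← ht]; exact orderOf_dvd_natCard t
        rw [Nat.odd_iff] at hodd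
        omega
    have hcen : ∀ g : G, g * t = t * g := by
      intro g
      have := hcomm g
      rw [hNb, mem_bot] at this
      have h3 : t * g * t⁻¹ = g := by rw [mul_inv_eq_one] at this; exact this
      rw [mul_inv_eq_iff_eq_mul] at h3
      exact h3.symm
    have h4 : t ∈ center G := mem_center_iff.2 hcen
    rcases IsSimpleGroup.eq_bot_or_eq_top_of_normal (center G) inferInstance with h5 | h5
    · rw [h5, mem_bot] at h4
      rw [h4, orderOf_one] at ht; omega
    · have h6 : emb e u0 * emb e s0 = emb e s0 * emb e u0 := by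
        have : emb e s0 ∈ center G := by rw [h5]; exact mem_top _
        exact (mem_center_iff.1 this _)
      rw [← map_mul, ← map_mul] at h6
      exact absurd (emb_inj e h6) (by decide +kernel)
  have h2 := odd_count ht P hP
  rw [card_sub e (fun x => IsConj t x ∧ x * t = t * x) (fun g hg => hg.2)] at h2
  have h3 : Nat.card {q : MP // IsConj t (emb e q) ∧ emb e q * t = t * emb e q} =
      (Finset.univ.filter fun q : MP => IsConj t (emb e q)).card := by
    rw [Nat.card_eq_fintype_card, Fintype.card_subtype]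
    congr 1
    ext q
    simp only [Finset.mem_filter, Finset.mem_univ, true_and]
    exact ⟨fun h => h.1, fun h => ⟨h, emb_mem e q⟩⟩
  rw [h3] at h2
  have h4 : IsConj t (emb e s0) ∧ IsConj t (emb e (z0 * s0)) := by
    by_contra hcon
    apply h2
    by_cases ha : IsConj t (emb e s0)
    · have hb : ¬ IsConj t (emb e (z0 * s0)) := fun hb => hcon ⟨ha, hb⟩
      have h5 : (Finset.univ.filter fun q : MP => IsConj t (emb e q)) =
          insert z0 (Finset.univ.filter fun q : MP => q * q = 1 ∧ q ≠ 1 ∧ q.1 = 1) := by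
        ext q
        rw [Finset.mem_filter, isConj_emb_iff e ht]
        simp only [Finset.mem_univ, true_and, Finset.mem_insert, Finset.mem_filter, ha, hb, false_and, or_false]
      rw [h5, Finset.card_insert_of_notMem, card_cls1]
      · norm_num
      rw [Finset.mem_filter]
      exact fun h => z0_fst h.2.2.2
    · have hb : IsConj t (emb e (z0 * s0)) := h1.resolve_left ha
      have h5 : (Finset.univ.filter fun q : MP => IsConj t (emb e q)) =
          insert z0 (Finset.univ.filter fun q : MP => q * q = 1 ∧ q ≠ z0 ∧ q.1 ≠ 1) := by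
        ext q
        rw [Finset.mem_filter, isConj_emb_iff e ht]
        simp only [Finset.mem_univ, true_and, Finset.mem_insert, Finset.mem_filter, ha, hb, false_and, false_or]
      rw [h5, Finset.card_insert_of_notMem, card_cls2]
      · norm_num
      rw [Finset.mem_filter]
      exact fun h => h.2.2.1 rfl
  refine ⟨ht, fun s hs => ?_⟩
  -- s is conjugate into P
  have hsp : IsPGroup 2 (zpowers s) := IsPGroup.of_card (n := 1) (by rw [Nat.card_zpowers, hs, pow_one])
  obtain ⟨Q, hQ⟩ := hsp.exists_le_sylow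
  obtain ⟨g, hg⟩ := MulAction.exists_smul_eq G Q P
  have h5 : g * s * g⁻¹ ∈ P := by
    rw [← hg]
    exact ⟨s, hQ (mem_zpowers s), rfl⟩
  obtain ⟨q, hq⟩ := exists_emb e (hP _ h5)
  have hsc : IsConj s (emb e q) := by rw [hq]; exact isConj_iff.2 ⟨g, rfl⟩
  have h6 : orderOf (emb e q) = 2 := by rw [← H94.M11.orderOf_eq_of_isConj hsc]; exact hs
  rw [emb_order] at h6
  refine IsConj.trans ?_ hsc.symm
  rw [isConj_emb_iff e ht]
  by_cases hz' : q = z0
  · exact Or.inl hz'
  · by_cases hq1 : q.1 = 1
    · exact Or.inr (Or.inl ⟨h4.1, h6.1, h6.2, hq1⟩)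
    · exact Or.inr (Or.inr ⟨h4.2, h6.1, hz', hq1⟩)

end
end H94.J1
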