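import Mathlib
import Cfsg.Agent.Lib.H94.J1Loc

/-! Simple groups with a 2-central involution whose centralizer is `2 × A₅`: centralizers and counting. -/

set_option autoImplicit false
set_option linter.unusedSectionVars false
open Subgroup Cfsg

namespace H94.J1

universe u
variable {G : Type u} [Group G] [Finite G] {t : G} {e : centralizer ({t} : Set G) ≃* MP}

set_option maxRecDepth 100000

theorem p3 : (z0 * u0) ^ 3 = z0 := by decide +kernel
theorem p5 : (z0 * v0) ^ 5 = z0 := by decide +kernel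
theorem p5' : (z0 * (v0 * v0)) ^ 5 = z0 := by decide +kernel
theorem comm_zu : (Finset.univ.filter fun q : MP => q * (z0 * u0) = (z0 * u0) * q).card = 6 := by decide +kernel
theorem comm_zv : (Finset.univ.filter fun q : MP => q * (z0 * v0) = (z0 * v0) * q).card = 10 := by decide +kernel
theorem comm_zv2 : (Finset.univ.filter fun q : MP => q * (z0 * (v0 * v0)) = (z0 * (v0 * v0)) * q).card = 10 := by
  decide +kernel
theorem zs0_inv : s0 * (z0 * u0) * s0⁻¹ = (z0 * u0)⁻¹ := by decide +kernel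
theorem zs1_inv : s1 * (z0 * v0) * s1⁻¹ = (z0 * v0)⁻¹ := by decide +kernel
theorem zs1_inv' : s1 * (z0 * (v0 * v0)) * s1⁻¹ = (z0 * (v0 * v0))⁻¹ := by decide +kernel
theorem zv_ne : ∀ q : MP, q * (z0 * v0) ≠ (z0 * (v0 * v0)) * q := by decide +kernel

/-- an element of the model has a power equal to `z0`, so its centralizer lies in `C(t)` -/
theorem card_cent_emb (L : Loc t e) {z : MP} {k : ℕ} (hk : z ^ k = z0) {m : ℕ}
    (hm : (Finset.univ.filter fun q : MP => q * z = z * q).card = m) :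
    Nat.card (centralizer ({emb e z} : Set G)) = m := by
  classical
  have h1 : Nat.card (centralizer ({emb e z} : Set G)) = Nat.card {g : G // g * emb e z = emb e z * g} :=
    Nat.card_congr (Equiv.subtypeEquivRight fun g => mem_centralizer_singleton_iff)
  rw [h1, card_sub e (fun g => g * emb e z = emb e z * g), Nat.card_eq_fintype_card, Fintype.card_subtype, ← hm]
  · congr 1
    ext q
    simp only [Finset.mem_filter, Finset.mem_univ, true_and, ← map_mul]
    exact ⟨fun h => emb_inj e h, fun h => by rw [h]⟩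
  · intro g hg
    have h2 : Commute g (emb e z) := hg
    have h3 := h2.pow_right k
    rw [← map_pow, hk, emb_z0 e L.ht] at h3
    exact h3

theorem cent_zu (L : Loc t e) : Nat.card (centralizer ({emb e (z0 * u0)} : Set G)) = 6 :=
  card_cent_emb L p3 comm_zu
theorem cent_zv (L : Loc t e) : Nat.card (centralizer ({emb e (z0 * v0)} : Set G)) = 10 :=
  card_cent_emb L p5 comm_zv
theorem cent_zv2 (L : Loc t e) : Nat.card (centralizer ({emb e (z0 * (v0 * v0))} : Set G)) = 10 :=
  card_cent_emb L p5' comm_zv2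

theorem real_of {z r : MP} (h : r * z * r⁻¹ = z⁻¹) : IsConj (emb e z) (emb e z)⁻¹ := by
  rw [← map_inv]
  exact conj_emb e ⟨r, h⟩

theorem not_conj_of_pow {a b : G} {k : ℕ} (h : a ^ k = 1) (h' : b ^ k ≠ 1) : ¬ IsConj a b := by
  intro hc
  obtain ⟨c, hc⟩ := isConj_iff.1 hc
  apply h'
  rw [← hc, conj_pow, h, mul_one, mul_inv_cancel]

theorem emb_pow_ne {z : MP} {k : ℕ} (h : z ^ k ≠ 1) : (emb e z) ^ k ≠ 1 := by
  rw [← map_pow]
  exact fun hh => h (emb_inj e (by rw [hh, map_one]))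

theorem nc_t_u (L : Loc t e) : ¬ IsConj t (emb e (z0 * u0)) :=
  not_conj_of_pow (k := 2) (by rw [pow_two]; exact (sq_one_iff.2 L.ht).1) (emb_pow_ne (by decide +kernel))
theorem nc_t_v (L : Loc t e) : ¬ IsConj t (emb e (z0 * v0)) :=
  not_conj_of_pow (k := 2) (by rw [pow_two]; exact (sq_one_iff.2 L.ht).1) (emb_pow_ne (by decide +kernel))
theorem nc_t_v2 (L : Loc t e) : ¬ IsConj t (emb e (z0 * (v0 * v0))) :=
  not_conj_of_pow (k := 2) (by rw [pow_two]; exact (sq_one_iff.2 L.ht).1) (emb_pow_ne (by decide +kernel))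
theorem nc_u_v : ¬ IsConj (emb e (z0 * u0)) (emb e (z0 * v0)) :=
  not_conj_of_pow (k := 6) (by rw [← map_pow]; exact (congrArg (emb e) (by decide +kernel)).trans (map_one _))
    (emb_pow_ne (by decide +kernel))
theorem nc_u_v2 : ¬ IsConj (emb e (z0 * u0)) (emb e (z0 * (v0 * v0))) :=
  not_conj_of_pow (k := 6) (by rw [← map_pow]; exact (congrArg (emb e) (by decide +kernel)).trans (map_one _))
    (emb_pow_ne (by decide +kernel))

theorem nc_v_v2 (L : Loc t e) : ¬ IsConj (emb e (z0 * v0)) (emb e (z0 * (v0 * v0))) := by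
  intro h
  obtain ⟨c, hc⟩ := isConj_iff.1 h
  have h1 : c * t * c⁻¹ = t := by
    have h2 : c * (emb e (z0 * v0)) ^ 5 * c⁻¹ = (emb e (z0 * (v0 * v0))) ^ 5 := by
      rw [← hc, conj_pow]
    rw [← map_pow, ← map_pow, p5, p5', emb_z0 e L.ht] at h2
    exact h2
  obtain ⟨q, rfl⟩ := exists_emb e (g := c) (by rw [mul_inv_eq_iff_eq_mul] at h1; exact h1)
  rw [mul_inv_eq_iff_eq_mul, ← map_mul, ← map_mul] at hc
  exact zv_ne q (emb_inj e hc)

/-- counting pairs of involutions with product `z` -/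
theorem pairs (L : Loc t e) {z : MP} {k : ℕ} (hk : z ^ k = z0) {m : ℕ}
    (hm : (Finset.univ.filter fun q : MP => q * q = 1 ∧ q ≠ 1 ∧ (q * z) * (q * z) = 1 ∧ q * z ≠ 1).card = m) :
    Nat.card {p : G × G // IsConj t p.1 ∧ IsConj t p.2 ∧ p.1 * p.2 = emb e z} = m := by
  classical
  have inv : ∀ x : G, IsConj t x ↔ (x * x = 1 ∧ x ≠ 1) := fun x => by
    rw [sq_one_iff]
    exact ⟨fun h => by rw [← H94.M11.orderOf_eq_of_isConj h]; exact L.ht, L.conj x⟩
  have cancel : ∀ a b w : G, a * a = 1 → a * b = w → a * w = b := by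
    intro a b w h1 h2
    rw [← h2, ← mul_assoc, h1, one_mul]
  have h1 : Nat.card {p : G × G // IsConj t p.1 ∧ IsConj t p.2 ∧ p.1 * p.2 = emb e z} =
      Nat.card {x : G // IsConj t x ∧ IsConj t (x * emb e z)} := by
    refine Nat.card_congr ⟨fun p => ⟨p.1.1, p.2.1, ?_⟩, fun x => ⟨(x.1, x.1 * emb e z), x.2.1, x.2.2, ?_⟩,
      fun p => ?_, fun x => rfl⟩
    · have h2 := ((inv _).1 p.2.1).1
      have h3 := p.2.2.1
      rw [← cancel _ _ _ h2 p.2.2.2] at h3
      exact h3
    · have h2 := ((inv _).1 x.2.1).1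
      rw [← mul_assoc, h2, one_mul]
    · apply Subtype.ext
      have h2 := ((inv _).1 p.2.1).1
      exact Prod.ext rfl (cancel _ _ _ h2 p.2.2.2)
  rw [h1, card_sub e (fun x => IsConj t x ∧ IsConj t (x * emb e z)), Nat.card_eq_fintype_card,
    Fintype.card_subtype, ← hm]
  · congr 1
    ext q
    simp only [Finset.mem_filter, Finset.mem_univ, true_and]
    rw [inv, inv, ← map_mul, ← map_mul, ← map_mul]
    constructor
    · rintro ⟨⟨a1, a2⟩, a3, a4⟩
      refine ⟨emb_inj e (by rw [a1, map_one]), ?_, emb_inj e (by rw [a3, map_one]), ?_⟩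
      · rintro rfl; exact a2 (map_one _)
      · intro h; exact a4 (by rw [h, map_one])
    · rintro ⟨a1, a2, a3, a4⟩
      refine ⟨⟨by rw [a1, map_one], fun h => a2 (emb_inj e (by rw [h, map_one]))⟩, by rw [a3, map_one],
        fun h => a4 (emb_inj e (by rw [h, map_one]))⟩
  · rintro x ⟨hx, hxz⟩
    have h2 := ((inv _).1 hx).1
    have h3 := ((inv _).1 hxz).1
    have hxi : x⁻¹ = x := inv_eq_of_mul_eq_one_left h2
    -- x inverts emb z
    have h4 : x * emb e z * x⁻¹ = (emb e z)⁻¹ := by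
      rw [hxi]
      apply eq_inv_of_mul_eq_one_left
      rw [← mul_assoc] at h3
      exact h3
    have h5 : x * (emb e z) ^ k * x⁻¹ = ((emb e z) ^ k)⁻¹ := by
      rw [← conj_pow, h4, inv_pow]
    rw [← map_pow, hk, emb_z0 e L.ht] at h5
    have h6 : t⁻¹ = t := inv_eq_of_mul_eq_one_left (sq_one_iff.2 L.ht).1
    rw [h6, mul_inv_eq_iff_eq_mul] at h5
    exact h5

theorem pairs_t (L : Loc t e) : Nat.card {p : G × G // IsConj t p.1 ∧ IsConj t p.2 ∧ p.1 * p.2 = t} = 30 := by
  have h := pairs L (z := z0) (k := 1) (pow_one _) cnt_t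
  rw [emb_z0 e L.ht] at h
  exact h
theorem pairs_u (L : Loc t e) : Nat.card {p : G × G // IsConj t p.1 ∧ IsConj t p.2 ∧
    p.1 * p.2 = emb e (z0 * u0)} = 6 := pairs L p3 cnt_u
theorem pairs_v (L : Loc t e) : Nat.card {p : G × G // IsConj t p.1 ∧ IsConj t p.2 ∧
    p.1 * p.2 = emb e (z0 * v0)} = 10 := pairs L p5 cnt_v
theorem pairs_v2 (L : Loc t e) : Nat.card {p : G × G // IsConj t p.1 ∧ IsConj t p.2 ∧
    p.1 * p.2 = emb e (z0 * (v0 * v0))} = 10 := pairs L p5' cnt_v2

end H94.J1
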