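import Mathlib
import Cfsg.Agent.Lib.H94.J1Loc2
import Cfsg.Agent.Lib.H94.PCol
import Cfsg.Agent.Lib.H78.Galois

/-! Simple groups with a 2-central involution whose centralizer is `2 × A₅`: eigenvalue multiplicities. -/

set_option autoImplicit false
set_option linter.unusedSectionVars false
open Subgroup Cfsg
open scoped ComplexConjugate

namespace H94.J1

universe u
variable {G : Type u} [Group G] [Finite G] {t : G} {e : centralizer ({t} : Set G) ≃* MP}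

theorem pow_mult {x : G} {n : ℕ} (hn : n ≠ 0) (hx : x ^ n = 1) {χ : G → ℂ} (hχ : IsCharacter G χ) {z : ℂ}
    (hz : z ^ n = 1) : ∃ m : ℕ, ∑ k ∈ Finset.range n, χ (x ^ k) * z ^ k = n * m := by
  classical
  obtain ⟨d, ρ, rfl⟩ := hχ
  obtain ⟨b, μ, -, h2, h3⟩ := H4.Eigen.exists_eigen ρ hn hx
  refine ⟨(Finset.univ.filter fun i => μ i * z = 1).card, ?_⟩
  have h4 : ∀ k : ℕ, ρ.character (x ^ k) * z ^ k = ∑ i, (μ i * z) ^ k := by
    intro k
    rw [h3, Finset.sum_mul]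
    exact Finset.sum_congr rfl fun i _ => by rw [mul_pow]
  simp only [h4]
  rw [Finset.sum_comm]
  have h5 : ∀ i, ∑ k ∈ Finset.range n, (μ i * z) ^ k = if μ i * z = 1 then (n : ℂ) else 0 := by
    intro i
    split_ifs with h
    · simp [h]
    · have h6 := geom_sum_mul (μ i * z) n
      have h7 : (μ i * z) ^ n = 1 := by rw [mul_pow, h2, hz, one_mul]
      rw [h7, sub_self] at h6
      rcases mul_eq_zero.1 h6 with h8 | h8
      · exact h8
      · exact absurd (sub_eq_zero.1 h8) h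
  simp only [h5]
  rw [← Finset.sum_filter, Finset.sum_const, nsmul_eq_mul, mul_comm]

set_option maxRecDepth 100000

theorem cf {χ : IrrCharacter G} {a b : G} (h : IsConj a b) : (χ : G → ℂ) a = (χ : G → ℂ) b :=
  H18.CharBasic.classFunction_isConj (H18.CharBasic.isClassFunction_of_isCharacter
    (H18.CharBasic.isCharacter_of_isIrr χ.2)) h

theorem cfe {χ : IrrCharacter G} {a b : MP} (h : ∃ r : MP, r * a * r⁻¹ = b) :
    (χ : G → ℂ) (emb e b) = (χ : G → ℂ) (emb e a) := (cf (conj_emb e h)).symm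

theorem k1 : (z0 * v0) ^ 1 = z0 * v0 := pow_one _
theorem k2 : (z0 * v0) ^ 2 = v0 * v0 := by decide +kernel
theorem k3 : s1 * (z0 * (v0 * v0)) * s1⁻¹ = (z0 * v0) ^ 3 := by decide +kernel
theorem k4 : s1 * v0 * s1⁻¹ = (z0 * v0) ^ 4 := by decide +kernel
theorem k6 : (z0 * v0) ^ 6 = v0 := by decide +kernel
theorem k7 : (z0 * v0) ^ 7 = z0 * (v0 * v0) := by decide +kernel
theorem k8 : s1 * (v0 * v0) * s1⁻¹ = (z0 * v0) ^ 8 := by decide +kernel
theorem k9 : s1 * (z0 * v0) * s1⁻¹ = (z0 * v0) ^ 9 := by decide +kernel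
theorem k10 : (z0 * v0) ^ 10 = 1 := by decide +kernel
theorem j1 : (z0 * u0) ^ 1 = z0 * u0 := pow_one _
theorem j2 : s0 * u0 * s0⁻¹ = (z0 * u0) ^ 2 := by decide +kernel
theorem j4 : (z0 * u0) ^ 4 = u0 := by decide +kernel
theorem j5 : s0 * (z0 * u0) * s0⁻¹ = (z0 * u0) ^ 5 := by decide +kernel
theorem j6 : (z0 * u0) ^ 6 = 1 := by decide +kernel

theorem five_data (L : Loc t e) (χ : IrrCharacter G) {z : ℂ} (hz : z ^ 5 = 1) : ∃ m m' : ℕ,
    (χ : G → ℂ) 1 + (χ : G → ℂ) (emb e v0) * (z + z ^ 4) + (χ : G → ℂ) (emb e (v0 * v0)) * (z ^ 2 + z ^ 3) =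
      5 * (m + m') ∧
    (χ : G → ℂ) t + (χ : G → ℂ) (emb e (z0 * v0)) * (z + z ^ 4) +
      (χ : G → ℂ) (emb e (z0 * (v0 * v0))) * (z ^ 2 + z ^ 3) = 5 * (m - m') := by
  have hx : (emb e (z0 * v0)) ^ 10 = 1 := by rw [← map_pow, k10, map_one]
  have hch := H18.CharBasic.isCharacter_of_isIrr χ.2
  obtain ⟨m, hm⟩ := pow_mult (n := 10) (by norm_num) hx hch (z := z) (by
    rw [show (10 : ℕ) = 5 * 2 from rfl, pow_mul, hz, one_pow])
  obtain ⟨m', hm'⟩ := pow_mult (n := 10) (by norm_num) hx hch (z := -z) (by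
    rw [show (10 : ℕ) = 2 * 5 from rfl, pow_mul, neg_sq, ← pow_mul, show 2 * 5 = 5 * 2 from rfl, pow_mul, hz, one_pow])
  refine ⟨m, m', ?_⟩
  simp only [Finset.sum_range_succ, Finset.sum_range_zero, zero_add, ← map_pow] at hm hm'
  rw [k1, k2, k6, k7, p5, emb_z0 e L.ht, cfe ⟨s1, k3⟩, cfe ⟨s1, k4⟩, cfe ⟨s1, k8⟩, cfe ⟨s1, k9⟩, pow_zero, map_one]
    at hm hm'
  have h6 : z ^ 6 = z := by linear_combination z * hz
  have h7 : z ^ 7 = z ^ 2 := by linear_combination z ^ 2 * hz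
  have h8 : z ^ 8 = z ^ 3 := by linear_combination z ^ 3 * hz
  have h9 : z ^ 9 = z ^ 4 := by linear_combination z ^ 4 * hz
  have e1 : (-z) ^ 1 = -z := by ring
  have e2 : (-z) ^ 2 = z ^ 2 := by ring
  have e3 : (-z) ^ 3 = -z ^ 3 := by ring
  have e4 : (-z) ^ 4 = z ^ 4 := by ring
  have e5 : (-z) ^ 5 = -z ^ 5 := by ring
  have e6 : (-z) ^ 6 = z ^ 6 := by ring
  have e7 : (-z) ^ 7 = -z ^ 7 := by ring
  have e8 : (-z) ^ 8 = z ^ 8 := by ring
  have e9 : (-z) ^ 9 = -z ^ 9 := by ring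
  rw [e1, e2, e3, e4, e5, e6, e7, e8, e9, h6, h7, h8, h9, hz] at hm'
  rw [h6, h7, h8, h9, hz] at hm
  push_cast at hm hm'
  constructor
  · linear_combination (1/2 : ℂ) * hm + (1/2 : ℂ) * hm'
  · linear_combination (1/2 : ℂ) * hm - (1/2 : ℂ) * hm'

theorem three_data (L : Loc t e) (χ : IrrCharacter G) {z : ℂ} (hz : z ^ 3 = 1) : ∃ m m' : ℕ,
    (χ : G → ℂ) 1 + (χ : G → ℂ) (emb e u0) * (z + z ^ 2) = 3 * (m + m') ∧
    (χ : G → ℂ) t + (χ : G → ℂ) (emb e (z0 * u0)) * (z + z ^ 2) = 3 * (m - m') := by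
  have hx : (emb e (z0 * u0)) ^ 6 = 1 := by rw [← map_pow, j6, map_one]
  have hch := H18.CharBasic.isCharacter_of_isIrr χ.2
  obtain ⟨m, hm⟩ := pow_mult (n := 6) (by norm_num) hx hch (z := z) (by
    rw [show (6 : ℕ) = 3 * 2 from rfl, pow_mul, hz, one_pow])
  obtain ⟨m', hm'⟩ := pow_mult (n := 6) (by norm_num) hx hch (z := -z) (by
    rw [show (6 : ℕ) = 2 * 3 from rfl, pow_mul, neg_sq, ← pow_mul, show 2 * 3 = 3 * 2 from rfl, pow_mul, hz, one_pow])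
  refine ⟨m, m', ?_⟩
  simp only [Finset.sum_range_succ, Finset.sum_range_zero, zero_add, ← map_pow] at hm hm'
  rw [j1, j4, p3, emb_z0 e L.ht, cfe ⟨s0, j2⟩, cfe ⟨s0, j5⟩, pow_zero, map_one] at hm hm'
  have h4 : z ^ 4 = z := by linear_combination z * hz
  have h5 : z ^ 5 = z ^ 2 := by linear_combination z ^ 2 * hz
  have e1 : (-z) ^ 1 = -z := by ring
  have e2 : (-z) ^ 2 = z ^ 2 := by ring
  have e3 : (-z) ^ 3 = -z ^ 3 := by ring
  have e4 : (-z) ^ 4 = z ^ 4 := by ring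
  have e5 : (-z) ^ 5 = -z ^ 5 := by ring
  rw [e1, e2, e3, e4, e5, h4, h5, hz] at hm'
  rw [h4, h5, hz] at hm
  push_cast at hm hm'
  constructor
  · linear_combination (1/2 : ℂ) * hm + (1/2 : ℂ) * hm'
  · linear_combination (1/2 : ℂ) * hm - (1/2 : ℂ) * hm'

end H94.J1
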