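import Mathlib
import Cfsg.Agent.Lib.H94.J1Eig

/-! Simple groups with a 2-central involution whose centralizer is `2 × A₅`: the four columns. -/

set_option autoImplicit false
set_option linter.unusedSectionVars false
open Subgroup Cfsg
open scoped ComplexConjugate

namespace H94.J1

universe u
variable {G : Type u} [Group G] [Finite G] {t : G} {e : centralizer ({t} : Set G) ≃* MP}

noncomputable def eta : ℂ := Complex.exp (2 * Real.pi * Complex.I / (5 : ℕ))
noncomputable def om : ℂ := eta + eta ^ 4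
noncomputable def om' : ℂ := eta ^ 2 + eta ^ 3

theorem eta_prim : IsPrimitiveRoot eta 5 := Complex.isPrimitiveRoot_exp 5 (by norm_num)
theorem eta_pow : eta ^ 5 = 1 := eta_prim.pow_eq_one
theorem eta_sum : 1 + eta + eta ^ 2 + eta ^ 3 + eta ^ 4 = 0 := by
  have := eta_prim.geom_sum_eq_zero (by norm_num)
  simp only [Finset.sum_range_succ, Finset.sum_range_zero, zero_add, pow_zero, pow_one] at this
  exact this
theorem om_add : om + om' = -1 := by unfold om om'; linear_combination eta_sum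
theorem om_mul : om * om' = -1 := by
  unfold om om'
  linear_combination eta_sum + (eta + eta ^ 2) * eta_pow
theorem om_diff : (om - om') ^ 2 = 5 := by
  linear_combination (om + om' - 1) * om_add - 4 * om_mul
theorem om_ne : om - om' ≠ 0 := fun h => by
  have := om_diff
  rw [h] at this; norm_num at this

/-- integrality of the columns -/
theorem exists_cols (L : Loc t e) (χ : IrrCharacter G) : ∃ e0 e1 e2 f0 f1 : ℤ,
    (χ : G → ℂ) t = e0 + 2 * e1 + 2 * e2 ∧ (χ : G → ℂ) (emb e (z0 * v0)) = e0 + om * e1 + om' * e2 ∧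
    (χ : G → ℂ) (emb e (z0 * (v0 * v0))) = e0 + om' * e1 + om * e2 ∧ (χ : G → ℂ) t = f0 + 2 * f1 ∧
    (χ : G → ℂ) (emb e (z0 * u0)) = f0 - f1 := by
  obtain ⟨a, a', -, ha⟩ := five_data L χ (z := 1) (by norm_num)
  obtain ⟨b, b', -, hb⟩ := five_data L χ (z := eta) eta_pow
  obtain ⟨c, c', -, hc⟩ := five_data L χ (z := eta ^ 2) (by rw [← pow_mul, mul_comm, pow_mul, eta_pow, one_pow])
  have hθ := Complex.isPrimitiveRoot_exp 3 (by norm_num)
  obtain ⟨f, f', -, hf⟩ := three_data L χ (z := 1) (by norm_num)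
  obtain ⟨g, g', -, hg⟩ := three_data L χ (z := Complex.exp (2 * Real.pi * Complex.I / (3 : ℕ))) hθ.pow_eq_one
  have hsum := hθ.geom_sum_eq_zero (by norm_num)
  simp only [Finset.sum_range_succ, Finset.sum_range_zero, zero_add, pow_zero, pow_one] at hsum
  have hq : Complex.exp (2 * Real.pi * Complex.I / (3 : ℕ)) + Complex.exp (2 * Real.pi * Complex.I / (3 : ℕ)) ^ 2 = -1 := by
    linear_combination hsum
  rw [hq] at hg
  have e1 : eta ^ 2 + (eta ^ 2) ^ 4 = om' := by
    unfold om'; linear_combination eta ^ 3 * eta_pow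
  have e2 : (eta ^ 2) ^ 2 + (eta ^ 2) ^ 3 = om := by
    unfold om; linear_combination eta * eta_pow
  rw [e1, e2] at hc
  have e3 : eta + eta ^ 4 = om := rfl
  have e4 : eta ^ 2 + eta ^ 3 = om' := rfl
  rw [e3, e4] at hb
  generalize (χ : G → ℂ) t = T at *
  generalize (χ : G → ℂ) (emb e (z0 * v0)) = V at *
  generalize (χ : G → ℂ) (emb e (z0 * (v0 * v0))) = V' at *
  generalize (χ : G → ℂ) (emb e (z0 * u0)) = U at *
  have o1 := om_add
  have o2 := om_mul
  have ho : om' = -1 - om := by linear_combination o1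
  have ho2 : om ^ 2 = 1 - om := by rw [ho] at o2; linear_combination -o2
  refine ⟨a - a', b - b', c - c', f - f', g - g', ?_, ?_, ?_, ?_, ?_⟩
  · push_cast
    rw [ho] at hb hc
    linear_combination (1/5 : ℂ) * ha + (2/5 : ℂ) * hb + (2/5 : ℂ) * hc
  · push_cast
    rw [ho] at hb hc ⊢
    linear_combination (1/5 : ℂ) * ha + (1/5 : ℂ) * om * hb + (1/5 : ℂ) * (-1 - om) * hc - (2/5 : ℂ) * (V - V') * ho2
  · push_cast
    rw [ho] at hb hc ⊢
    linear_combination (1/5 : ℂ) * ha + (1/5 : ℂ) * (-1 - om) * hb + (1/5 : ℂ) * om * hc + (2/5 : ℂ) * (V - V') * ho2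
  · push_cast
    linear_combination (1/3 : ℂ) * hf + (2/3 : ℂ) * hg
  · push_cast
    linear_combination (1/3 : ℂ) * hf - (1/3 : ℂ) * hg

end H94.J1
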