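import Mathlib

/-! Finite arithmetic checks for the order of the first Janko group. -/

set_option autoImplicit false

namespace H94.J1

def al5 (a : ℤ) : Bool := decide (13 ≤ a) || decide (a ≤ -35)
def al3 (a : ℤ) : Bool := decide (11 ≤ a) || decide (a ≤ -21)

def good7 (a b R : ℤ) : Bool :=
  let s := a + b
  let P := a * b
  let n := 57600 * (P * R)
  let d := s * (25 * R - 9 * P)
  decide (n % d ≠ 0) || decide (n = 175560 * d) ||
    (decide (n = 189000 * d) && ((decide (a = -35) && decide (b = 21)) || (decide (a = 21) && decide (b = -35))))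

def ok7 (a b : ℤ) : Bool :=
  !(al5 a) || !(al5 b) ||
    (let s := a + b
     let P := a * b
     let den := 125 * (s - 1) - 2 * P
     let num := 27 * P * (s - 1)
     decide (num % den ≠ 0) || (List.range 252).all fun j =>
       let k : ℤ := 8 * (j : ℤ) - 1005
       !(al3 k) || !(al3 (-s - k)) || !(decide (k * (-s - k) = num / den)) || good7 a b (num / den))

def all7 : Bool := (List.range 251).all fun i => (List.range 251).all fun j =>
  ok7 (8 * (i : ℤ) - 1003) (8 * (j : ℤ) - 1003)

set_option maxRecDepth 100000 in
theorem all7_eq : all7 = true := by decide +kernel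

def ok8 (p q : ℤ) : Bool :=
  let x1 := 1 - 2 * p
  let x4 := p - 1 - q
  let a := p * q
  let b := x1 * x4
  decide (x4 = 0) || decide (125 * (a * x4) + 28 * (b * q) + 108 * (x1 * a) + 27 * (b * p) ≠ 2 * (a * b)) ||
    decide (-14 < p ∧ p < 10) || !(al3 q)

def all8 : Bool := (List.range 126).all fun i => (List.range 252).all fun j =>
  ok8 (8 * (i : ℤ) - 502) (8 * (j : ℤ) - 1005)

set_option maxRecDepth 100000 in
theorem all8_eq : all8 = true := by decide +kernel

end H94.J1
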