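import Mathlib
import Cfsg.Agent.Lib.H94.J1Chk

/-! Arithmetic for the order of the first Janko group. -/

set_option autoImplicit false

namespace H94.J1

theorem use7 {a b k y : ℤ} {g : ℕ} (h1 : a % 8 = 5) (h2 : b % 8 = 5) (h4 : k % 8 = 3)
    (b1 : 13 ≤ a ∨ a ≤ -35) (b2 : 13 ≤ b ∨ b ≤ -35) (b4 : 11 ≤ k ∨ k ≤ -21) (b5 : 11 ≤ y ∨ y ≤ -21)
    (ra : -1003 ≤ a ∧ a ≤ 1003) (rb : -1003 ≤ b ∧ b ≤ 1003) (rk : -1003 ≤ k ∧ k ≤ 1003)
    (hs : a + b + k + y = 0)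
    (key1 : (k * y) * (125 * (a + b - 1) - 2 * (a * b)) = 27 * (a * b) * (a + b - 1))
    (key2 : (g : ℤ) * ((a + b) * (25 * (k * y) - 9 * (a * b))) = 57600 * ((a * b) * (k * y))) :
    g = 175560 ∨ (g = 189000 ∧ ((a = -35 ∧ b = 21) ∨ (a = 21 ∧ b = -35))) := by
  have h := all7_eq
  unfold all7 at h
  rw [List.all_eq_true] at h
  have h := h ((a + 1003) / 8).toNat (List.mem_range.2 (by omega))
  rw [List.all_eq_true] at h
  have h := h ((b + 1003) / 8).toNat (List.mem_range.2 (by omega))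
  have ea : (8 * ((((a + 1003) / 8).toNat : ℕ) : ℤ) - 1003) = a := by
    rw [Int.toNat_of_nonneg (by omega)]; omega
  have eb : (8 * ((((b + 1003) / 8).toNat : ℕ) : ℤ) - 1003) = b := by
    rw [Int.toNat_of_nonneg (by omega)]; omega
  rw [ea, eb] at h
  have al_a : al5 a = true := by
    unfold al5; rw [Bool.or_eq_true, decide_eq_true_eq, decide_eq_true_eq]; exact b1
  have al_b : al5 b = true := by
    unfold al5; rw [Bool.or_eq_true, decide_eq_true_eq, decide_eq_true_eq]; exact b2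
  have al_k : al3 k = true := by
    unfold al3; rw [Bool.or_eq_true, decide_eq_true_eq, decide_eq_true_eq]; exact b4
  have ey : -(a + b) - k = y := by omega
  have al_y : al3 y = true := by
    unfold al3; rw [Bool.or_eq_true, decide_eq_true_eq, decide_eq_true_eq]; exact b5
  unfold ok7 at h
  rw [al_a, al_b] at h
  simp only [Bool.not_true, Bool.false_or] at h
  have hP : a * b ≠ 0 := by
    apply mul_ne_zero <;> omega
  have hR : k * y ≠ 0 := by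
    apply mul_ne_zero <;> omega
  have hden : 125 * (a + b - 1) - 2 * (a * b) ≠ 0 := by
    intro hd
    rw [hd, mul_zero] at key1
    have : a + b - 1 ≠ 0 := by omega
    have h3 : 27 * (a * b) * (a + b - 1) ≠ 0 := mul_ne_zero (mul_ne_zero (by norm_num) hP) this
    exact h3 key1.symm
  have hq : 27 * (a * b) * (a + b - 1) / (125 * (a + b - 1) - 2 * (a * b)) = k * y := by
    rw [← key1, Int.mul_ediv_cancel _ hden]
  have hm : 27 * (a * b) * (a + b - 1) % (125 * (a + b - 1) - 2 * (a * b)) = 0 := by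
    rw [← key1, Int.mul_emod_left]
  rw [hq, hm] at h
  simp only [ne_eq, not_true_eq_false, decide_false, Bool.false_or] at h
  rw [List.all_eq_true] at h
  have h := h ((k + 1005) / 8).toNat (List.mem_range.2 (by omega))
  have ek : (8 * ((((k + 1005) / 8).toNat : ℕ) : ℤ) - 1005) = k := by
    rw [Int.toNat_of_nonneg (by omega)]; omega
  rw [ek, ey, al_k, al_y] at h
  simp only [Bool.not_true, Bool.false_or, decide_true] at h
  unfold good7 at h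
  simp only at h
  rw [← key2] at h
  have hd : (a + b) * (25 * (k * y) - 9 * (a * b)) ≠ 0 := by
    intro hd
    rw [hd, mul_zero] at key2
    exact mul_ne_zero (by norm_num) (mul_ne_zero hP hR) key2.symm
  rw [Int.mul_emod_left] at h
  simp only [ne_eq, not_true_eq_false, decide_false, Bool.false_or, Bool.or_eq_true, decide_eq_true_eq,
    Bool.and_eq_true] at h
  rcases h with h | ⟨h, h'⟩
  · left
    exact_mod_cast mul_right_cancel₀ hd h
  · right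
    exact ⟨by exact_mod_cast mul_right_cancel₀ hd h, h'⟩

theorem use8 {p q x1 x4 : ℤ} (h2 : p % 8 = 2) (h3 : q % 8 = 3) (b2 : 10 ≤ p ∨ p ≤ -14)
    (b3 : 11 ≤ q ∨ q ≤ -21) (e1 : x1 = 1 - 2 * p) (e4 : x4 = p - 1 - q) (h4 : x4 ≠ 0)
    (r1 : -1003 ≤ x1 ∧ x1 ≤ 1003) (rq : -1003 ≤ q ∧ q ≤ 1003)
    (key : 125 * (p * q * x4) + 28 * (x1 * x4 * q) + 108 * (x1 * (p * q)) + 27 * (x1 * x4 * p) =
      2 * (p * q * (x1 * x4))) : False := by
  have h := all8_eq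
  unfold all8 at h
  rw [List.all_eq_true] at h
  have h := h ((p + 502) / 8).toNat (List.mem_range.2 (by omega))
  rw [List.all_eq_true] at h
  have h := h ((q + 1005) / 8).toNat (List.mem_range.2 (by omega))
  have ea : (8 * ((((p + 502) / 8).toNat : ℕ) : ℤ) - 502) = p := by
    rw [Int.toNat_of_nonneg (by omega)]; omega
  have eb : (8 * ((((q + 1005) / 8).toNat : ℕ) : ℤ) - 1005) = q := by
    rw [Int.toNat_of_nonneg (by omega)]; omega
  rw [ea, eb] at h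
  have al_q : al3 q = true := by
    unfold al3; rw [Bool.or_eq_true, decide_eq_true_eq, decide_eq_true_eq]; exact b3
  unfold ok8 at h
  simp only at h
  rw [← e1, ← e4, al_q, key, decide_eq_false h4] at h
  simp only [ne_eq, not_true_eq_false, decide_false, Bool.false_or, Bool.not_true, Bool.or_false,
    decide_eq_true_eq] at h
  omega

theorem neg_inv_lb {x m : ℤ} (hm : 0 < m) (h : x ≤ -m) : (-1/(m : ℚ)) ≤ 1 / (x : ℚ) := by
  have h1 : (m : ℚ) ≤ ((-x : ℤ) : ℚ) := by exact_mod_cast (by omega : m ≤ -x)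
  have h0 : (0 : ℚ) < m := by exact_mod_cast hm
  have h2 := one_div_le_one_div_of_le h0 h1
  have h3 : 1 / (((-x : ℤ) : ℚ)) = -(1 / (x : ℚ)) := by push_cast; rw [div_neg]
  rw [h3] at h2
  have h4 : (-1/(m : ℚ)) = -(1 / m) := by ring
  rw [h4]; linarith

theorem pos_inv {x : ℤ} (h : 0 < x) : (0 : ℚ) < 1 / (x : ℚ) := by
  have : (0 : ℚ) < x := by exact_mod_cast h
  positivity

theorem neg_inv {x : ℤ} (h : x < 0) : 1 / (x : ℚ) < 0 := by
  have : (x : ℚ) < 0 := by exact_mod_cast h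
  exact one_div_neg.2 this

theorem inv_ub {x m : ℤ} (hm : 0 < m) (h : m ≤ x) : 1 / (x : ℚ) ≤ 1 / (m : ℚ) := by
  have h0 : (0 : ℚ) < m := by exact_mod_cast hm
  exact one_div_le_one_div_of_le h0 (by exact_mod_cast h)

theorem inv_lb {x : ℤ} (h : 11 ≤ x ∨ x ≤ -21) : (-1/21 : ℚ) ≤ 1 / (x : ℚ) := by
  rcases h with h | h
  · have := pos_inv (x := x) (by omega)
    linarith
  · exact_mod_cast neg_inv_lb (m := 21) (by norm_num) h

theorem range_of_sq {x : ℤ} {g : ℕ} (h : x ^ 2 ≤ g) (hg : g ≤ 1008000) : -1003 ≤ x ∧ x ≤ 1003 := by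
  have h1 : x ^ 2 ≤ 1008000 := h.trans (by exact_mod_cast hg)
  constructor <;> nlinarith

theorem g_le {g : ℕ} (hg : 0 < g) (h : (1 : ℚ) / 70 ≤ 14400 / g) : g ≤ 1008000 := by
  have hg' : (0 : ℚ) < g := by exact_mod_cast hg
  rw [le_div_iff₀ hg'] at h
  have : (g : ℚ) ≤ 1008000 := by linarith
  exact_mod_cast this

theorem cfg7 {x1 x2 x3 x4 x5 : ℤ} {g : ℕ} (hg : 0 < g) (h1 : x1 + x2 + x3 = 1) (h2 : x1 + x2 + x4 + x5 = 0)
    (m1 : x1 % 8 = 5) (m2 : x2 % 8 = 5) (m4 : x4 % 8 = 3)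
    (b1 : 13 ≤ x1 ∨ x1 ≤ -35) (b2 : 13 ≤ x2 ∨ x2 ≤ -35) (b3 : 7 ≤ x3 ∨ x3 ≤ -9) (b4 : 11 ≤ x4 ∨ x4 ≤ -21)
    (b5 : 11 ≤ x5 ∨ x5 ≤ -21) (s1 : x1 ^ 2 ≤ g) (s2 : x2 ^ 2 ≤ g) (s4 : x4 ^ 2 ≤ g)
    (e1 : -1 + 25 * (1 / (x1 : ℚ)) + 25 * (1 / (x2 : ℚ)) + 1 / (x3 : ℚ) = -6 * (14400 / g))
    (e2 : 25 * (1 / (x1 : ℚ)) + 25 * (1 / (x2 : ℚ)) + 9 * (1 / (x4 : ℚ)) + 9 * (1 / (x5 : ℚ)) = 4 * (14400 / g)) :
    g = 175560 ∨ (g = 189000 ∧ ((x1 = -35 ∧ x2 = 21) ∨ (x1 = 21 ∧ x2 = -35))) := by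
  have hK : (1 : ℚ) / 70 ≤ 14400 / g := by
    have l4 := inv_lb b4
    have l5 := inv_lb b5
    rcases b3 with b3 | b3
    · have l3 := inv_ub (m := 7) (x := x3) (by norm_num) b3
      push_cast at l3
      have : 11 ≤ x4 ∨ 11 ≤ x5 := by omega
      rcases this with h | h
      · have := pos_inv (x := x4) (by omega)
        linarith
      · have := pos_inv (x := x5) (by omega)
        linarith
    · have l3 := neg_inv (x := x3) (by omega)
      linarith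
  have hg1 := g_le hg hK
  have r1 := range_of_sq s1 hg1
  have r2 := range_of_sq s2 hg1
  have r4 := range_of_sq s4 hg1
  have n1 : (x1 : ℚ) ≠ 0 := by exact_mod_cast (by omega : x1 ≠ 0)
  have n2 : (x2 : ℚ) ≠ 0 := by exact_mod_cast (by omega : x2 ≠ 0)
  have n3 : (x3 : ℚ) ≠ 0 := by exact_mod_cast (by omega : x3 ≠ 0)
  have n4 : (x4 : ℚ) ≠ 0 := by exact_mod_cast (by omega : x4 ≠ 0)
  have n5 : (x5 : ℚ) ≠ 0 := by exact_mod_cast (by omega : x5 ≠ 0)
  have ng : (g : ℚ) ≠ 0 := by exact_mod_cast hg.ne'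
  have q1 : (x3 : ℚ) = 1 - x1 - x2 := by
    have : x3 = 1 - x1 - x2 := by omega
    rw [this]; push_cast; ring
  have q2 : (x5 : ℚ) = -x1 - x2 - x4 := by
    have : x5 = -x1 - x2 - x4 := by omega
    rw [this]; push_cast; ring
  have i1 := mul_one_div_cancel n1
  have i2 := mul_one_div_cancel n2
  have i3 := mul_one_div_cancel n3
  have i4 := mul_one_div_cancel n4
  have i5 := mul_one_div_cancel n5
  have ig := mul_one_div_cancel ng
  have hKe : (14400 : ℚ) / g = 14400 * (1 / g) := by ring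
  rw [hKe] at e1 e2
  generalize (1 : ℚ) / x1 = j1 at *
  generalize (1 : ℚ) / x2 = j2 at *
  generalize (1 : ℚ) / x3 = j3 at *
  generalize (1 : ℚ) / x4 = j4 at *
  generalize (1 : ℚ) / x5 = j5 at *
  generalize (1 : ℚ) / g = jg at *
  have hs0 : x1 + x2 ≠ 0 := by omega
  have hs : ((x1 : ℚ) + x2) ≠ 0 := by exact_mod_cast hs0
  have E : 125 * j1 + 125 * j2 + 2 * j3 + 27 * j4 + 27 * j5 = 2 := by linarith
  have A : 125 * (x1 * x2 * x3 * x4 * x5 * j1) + 125 * (x1 * x2 * x3 * x4 * x5 * j2) + 2 * (x1 * x2 * x3 * x4 * x5 * j3)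
      + 27 * (x1 * x2 * x3 * x4 * x5 * j4) + 27 * (x1 * x2 * x3 * x4 * x5 * j5) = 2 * ((x1 : ℚ) * x2 * x3 * x4 * x5) := by
    linear_combination ((x1 : ℚ) * x2 * x3 * x4 * x5) * E
  have B1 : (x1 * x2 * x3 * x4 * x5 * j1 : ℚ) = x2 * x3 * x4 * x5 := by linear_combination ((x2 : ℚ) * x3 * x4 * x5) * i1
  have B2 : (x1 * x2 * x3 * x4 * x5 * j2 : ℚ) = x1 * x3 * x4 * x5 := by linear_combination ((x1 : ℚ) * x3 * x4 * x5) * i2
  have B3 : (x1 * x2 * x3 * x4 * x5 * j3 : ℚ) = x1 * x2 * x4 * x5 := by linear_combination ((x1 : ℚ) * x2 * x4 * x5) * i3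
  have B4 : (x1 * x2 * x3 * x4 * x5 * j4 : ℚ) = x1 * x2 * x3 * x5 := by linear_combination ((x1 : ℚ) * x2 * x3 * x5) * i4
  have B5 : (x1 * x2 * x3 * x4 * x5 * j5 : ℚ) = x1 * x2 * x3 * x4 := by linear_combination ((x1 : ℚ) * x2 * x3 * x4) * i5
  rw [B1, B2, B3, B4, B5] at A
  have key1 : ((x4 : ℚ) * x5) * (125 * (x1 + x2 - 1) - 2 * (x1 * x2)) = 27 * (x1 * x2) * (x1 + x2 - 1) := by
    apply mul_left_cancel₀ hs
    rw [q1] at A
    have q5 : (x4 : ℚ) + x5 = -(x1 + x2) := by rw [q2]; ring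
    linear_combination (-1 : ℚ) * A + 27 * x1 * x2 * (1 - x1 - x2) * q5
  have key2 : (g : ℚ) * ((x1 + x2) * (25 * (x4 * x5) - 9 * (x1 * x2))) = 57600 * ((x1 * x2) * (x4 * x5)) := by
    have q5 : (x4 : ℚ) + x5 = -(x1 + x2) := by rw [q2]; ring
    have C := congrArg (fun z => (g : ℚ) * x1 * x2 * x4 * x5 * z) e2
    linear_combination C - 25 * (g : ℚ) * x2 * x4 * x5 * i1 - 25 * (g : ℚ) * x1 * x4 * x5 * i2
      - 9 * (g : ℚ) * x1 * x2 * x5 * i4 - 9 * (g : ℚ) * x1 * x2 * x4 * i5 - 9 * (g : ℚ) * x1 * x2 * q5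
      + 57600 * (x1 * x2 * x4 * x5 : ℚ) * ig
  exact use7 m1 m2 m4 b1 b2 b4 b5 r1 r2 r4 (by omega) (by exact_mod_cast key1) (by exact_mod_cast key2)

theorem cfg8 {x1 p x4 q : ℤ} {g : ℕ} (hg : 0 < g) (h1 : x1 + p + p = 1) (h2 : x1 + p + x4 + q = 0)
    (m2 : p % 8 = 2) (m5 : q % 8 = 3)
    (b2 : 10 ≤ p ∨ p ≤ -14) (b4 : x4 ≠ 0) (b5 : 11 ≤ q ∨ q ≤ -21)
    (s1 : x1 ^ 2 ≤ g) (s5 : q ^ 2 ≤ g)
    (e1 : -1 + 25 * (1 / (x1 : ℚ)) + 4 * (1 / (p : ℚ)) + 4 * (1 / (p : ℚ)) = -6 * (14400 / g))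
    (e2 : 25 * (1 / (x1 : ℚ)) + 4 * (1 / (p : ℚ)) + 36 * (1 / (x4 : ℚ)) + 9 * (1 / (q : ℚ)) = 4 * (14400 / g)) :
    False := by
  have hK : (1 : ℚ) / 70 ≤ 14400 / g := by
    rcases b2 with b2 | b2
    · have l1 := neg_inv (x := x1) (by omega)
      have l2 := inv_ub (m := 10) (x := p) (by norm_num) b2
      push_cast at l2
      linarith
    · have l1 := inv_ub (m := 29) (x := x1) (by norm_num) (by omega)
      push_cast at l1
      have l2 := neg_inv (x := p) (by omega)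
      linarith
  have hg1 := g_le hg hK
  have r1 := range_of_sq s1 hg1
  have r5 := range_of_sq s5 hg1
  have n1 : (x1 : ℚ) ≠ 0 := by exact_mod_cast (by omega : x1 ≠ 0)
  have n2 : (p : ℚ) ≠ 0 := by exact_mod_cast (by omega : p ≠ 0)
  have n4 : (x4 : ℚ) ≠ 0 := by exact_mod_cast b4
  have n5 : (q : ℚ) ≠ 0 := by exact_mod_cast (by omega : q ≠ 0)
  have i1 := mul_one_div_cancel n1
  have i2 := mul_one_div_cancel n2
  have i4 := mul_one_div_cancel n4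
  have i5 := mul_one_div_cancel n5
  have E : 125 * (1 / (x1 : ℚ)) + 28 * (1 / (p : ℚ)) + 108 * (1 / (x4 : ℚ)) + 27 * (1 / (q : ℚ)) = 2 := by linarith
  generalize (1 : ℚ) / x1 = j1 at *
  generalize (1 : ℚ) / p = j2 at *
  generalize (1 : ℚ) / x4 = j4 at *
  generalize (1 : ℚ) / q = j5 at *
  have key : 125 * ((p : ℚ) * q * x4) + 28 * (x1 * x4 * q) + 108 * (x1 * (p * q)) + 27 * (x1 * x4 * p) =
      2 * (p * q * (x1 * x4)) := by
    linear_combination ((x1 : ℚ) * p * x4 * q) * E - 125 * (p : ℚ) * q * x4 * i1 - 28 * (x1 : ℚ) * x4 * q * i2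
      - 108 * (x1 : ℚ) * p * q * i4 - 27 * (x1 : ℚ) * x4 * p * i5
  exact use8 m2 m5 b2 b5 (by omega) (by omega) b4 r1 r5 (by exact_mod_cast key)

end H94.J1
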