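import Mathlib
import Cfsg.Agent.Lib.H94.Pick
import Cfsg.Agent.Lib.H94.J1Arith

/-! The lattice argument for the order of the first Janko group. -/

set_option autoImplicit false
set_option linter.unusedSectionVars false

namespace H94.J1

open H94.Pick

variable {ι : Type*} [Fintype ι] [DecidableEq ι]

structure Lat (o : ι) (n T b d2 d3 d4 : ι → ℤ) (g : ℕ) (π : ι → ι) : Prop where
  T_eq : ∀ i, T i = 3 * d2 i + 3 * d3 i - b i + 4 * d4 i
  bb : ∑ i, b i ^ 2 = 4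
  d22 : ∑ i, d2 i ^ 2 = 4
  d33 : ∑ i, d3 i ^ 2 = 4
  d44 : ∑ i, d4 i ^ 2 = 2
  b2 : ∑ i, b i * d2 i = 2
  b3 : ∑ i, b i * d3 i = 2
  b4 : ∑ i, b i * d4 i = 0
  d23 : ∑ i, d2 i * d3 i = 2
  d24 : ∑ i, d2 i * d4 i = 0
  d34 : ∑ i, d3 i * d4 i = 0
  bo : b o = -1
  d2o : d2 o = 0
  d3o : d3 o = 0
  no : n o = 1
  npos : ∀ i, 0 < n i
  bn : ∑ i, b i * n i = 0
  d2n : ∑ i, d2 i * n i = 0
  d3n : ∑ i, d3 i * n i = 0
  d4n : ∑ i, d4 i * n i = 0
  Db : ∑ i, (b i : ℚ) * ((T i : ℚ) ^ 2 / n i) = -6 * (14400 / g)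
  D2 : ∑ i, (d2 i : ℚ) * ((T i : ℚ) ^ 2 / n i) = 4 * (14400 / g)
  D4 : ∑ i, (d4 i : ℚ) * ((T i : ℚ) ^ 2 / n i) = 0
  cong : ∀ i, (8 : ℤ) ∣ n i - T i
  lt : ∀ i, i ≠ o → T i < n i
  ge : ∀ i, 0 ≤ n i + 7 * T i
  sq : ∀ i, n i ^ 2 ≤ g
  gpos : 0 < g
  pn : ∀ i, n (π i) = n i
  pb : ∀ i, b (π i) = b i
  p2 : ∀ i, d2 (π i) = d3 i
  p3 : ∀ i, d3 (π i) = d2 i

/-- sums against a function supported on four indices -/
theorem sum4 {R : Type*} [CommRing R] {f F : ι → R} {a b c e : ι} (hab : a ≠ b) (hac : a ≠ c) (hae : a ≠ e)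
    (hbc : b ≠ c) (hbe : b ≠ e) (hce : c ≠ e) (hz : ∀ i, i ≠ a → i ≠ b → i ≠ c → i ≠ e → f i = 0) :
    ∑ i, f i * F i = f a * F a + f b * F b + f c * F c + f e * F e := by
  have h1 : ∑ i, f i * F i = ∑ i ∈ ({a, b, c, e} : Finset ι), f i * F i := by
    symm
    apply Finset.sum_subset (Finset.subset_univ _)
    intro i _ hi
    simp only [Finset.mem_insert, Finset.mem_singleton, not_or] at hi
    rw [hz i hi.1 hi.2.1 hi.2.2.1 hi.2.2.2, zero_mul]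
  rw [h1, Finset.sum_insert (by simp [hab, hac, hae]), Finset.sum_insert (by simp [hbc, hbe]),
    Finset.sum_insert (by simp [hce]), Finset.sum_singleton]
  ring

theorem sum2 {R : Type*} [CommRing R] {f F : ι → R} {a b : ι} (hab : a ≠ b)
    (hz : ∀ i, i ≠ a → i ≠ b → f i = 0) :
    ∑ i, f i * F i = f a * F a + f b * F b := by
  have h1 : ∑ i, f i * F i = ∑ i ∈ ({a, b} : Finset ι), f i * F i := by
    symm
    apply Finset.sum_subset (Finset.subset_univ _)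
    intro i _ hi
    simp only [Finset.mem_insert, Finset.mem_singleton, not_or] at hi
    rw [hz i hi.1 hi.2, zero_mul]
  rw [h1, Finset.sum_insert (by simp [hab]), Finset.sum_singleton]

theorem one_cases {z : ℤ} (h : z ^ 2 = 1) : z = 1 ∨ z = -1 := by
  have h1 : (z - 1) * (z + 1) = 0 := by linear_combination h
  rcases mul_eq_zero.1 h1 with h2 | h2
  · left; omega
  · right; omega

variable {o : ι} {n T b d2 d3 d4 : ι → ℤ} {g : ℕ} {π : ι → ι}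

namespace Lat

variable (h : Lat o n T b d2 d3 d4 g π)
include h

/-- `n_i ≠ 0` in `ℚ` -/
theorem nq (i : ι) : (n i : ℚ) ≠ 0 := by exact_mod_cast (h.npos i).ne'

/-- a column of norm 4 orthogonal to the degrees has no entry 2 -/
theorem le_one {f : ι → ℤ} (hf : ∑ i, f i ^ 2 = 4) (hn : ∑ i, f i * n i = 0) (i : ι) : f i = 0 ∨ f i = 1 ∨ f i = -1 := by
  rcases four hf with ⟨a, -, h1, h2⟩ | ⟨a, b, c, e, hF, h1, h2, h3, h4⟩
  · exfalso
    have h3 : ∑ i, f i * n i = f a * n a := by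
      apply Finset.sum_eq_single a
      · intro j _ hj
        rw [h2 j (Finset.mem_univ _) hj, zero_mul]
      · intro hc; exact absurd (Finset.mem_univ _) hc
    rw [h3] at hn
    rcases mul_eq_zero.1 hn with h4 | h4
    · rw [h4] at h1; norm_num at h1
    · exact (h.npos a).ne' h4
  · by_cases ha : i = a
    · rw [ha]; exact Or.inr (one_cases h1)
    · by_cases hb : i = b
      · rw [hb]; exact Or.inr (one_cases h2)
      · by_cases hc : i = c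
        · rw [hc]; exact Or.inr (one_cases h3)
        · by_cases he : i = e
          · rw [he]; exact Or.inr (one_cases h4)
          · exact Or.inl (hF.hz i (Finset.mem_univ _) ha hb hc he)

theorem supp4 (i : ι) (hi : b i ≠ 0 ∨ d2 i ≠ 0 ∨ d3 i ≠ 0) : d4 i = 0 := by
  obtain ⟨p, q, -, -, hpq, hp, hq, hz⟩ := two h.d44
  have hz' : ∀ i, i ≠ p → i ≠ q → d4 i = 0 := fun i => hz i (Finset.mem_univ _)
  have hzq : ∀ i, i ≠ p → i ≠ q → (d4 i : ℚ) = 0 := fun i h1 h2 => by rw [hz' i h1 h2]; simp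
  have e1 := h.d4n
  rw [sum2 hpq hz'] at e1
  have np := h.npos p
  have nq := h.npos q
  have hpq' : d4 q = -d4 p ∧ n q = n p := by
    rcases one_cases hp with h1 | h1 <;> rcases one_cases hq with h2 | h2 <;> rw [h1, h2] at e1 ⊢ <;>
      constructor <;> omega
  have hb : b p = b q := by
    have e2 := h.b4
    simp only [mul_comm (b _)] at e2
    rw [sum2 hpq hz', hpq'.1] at e2
    rcases one_cases hp with h1 | h1 <;> rw [h1] at e2 <;> omega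
  have h2 : d2 p = d2 q := by
    have e2 := h.d24
    simp only [mul_comm (d2 _)] at e2
    rw [sum2 hpq hz', hpq'.1] at e2
    rcases one_cases hp with h1 | h1 <;> rw [h1] at e2 <;> omega
  have h3 : d3 p = d3 q := by
    have e2 := h.d34
    simp only [mul_comm (d3 _)] at e2
    rw [sum2 hpq hz', hpq'.1] at e2
    rcases one_cases hp with h1 | h1 <;> rw [h1] at e2 <;> omega
  have e3 := h.D4
  rw [sum2 hpq hzq, hpq'.1, hpq'.2] at e3
  have hn0 := h.nq p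
  have e4 : (T p : ℚ) ^ 2 = (T q : ℚ) ^ 2 := by
    have hd : (d4 p : ℚ) ≠ 0 := by
      intro h0
      have : d4 p = 0 := by exact_mod_cast h0
      rw [this] at hp; norm_num at hp
    have e5 : (d4 p : ℚ) * (((T p : ℚ) ^ 2 - (T q : ℚ) ^ 2) / n p) = 0 := by
      rw [← e3]; push_cast; ring
    rcases mul_eq_zero.1 e5 with h0 | h0
    · exact absurd h0 hd
    · rcases div_eq_zero_iff.1 h0 with h0 | h0
      · linarith
      · exact absurd h0 hn0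
  have e5 : T p ^ 2 = T q ^ 2 := by exact_mod_cast e4
  have tp := h.T_eq p
  have tq := h.T_eq q
  rw [← hb, ← h2, ← h3, hpq'.1] at tq
  have e6 : (T p - T q) * (T p + T q) = 0 := by ring_nf; ring_nf at e5; omega
  have e7 : T p + T q = 0 := by
    rcases mul_eq_zero.1 e6 with h0 | h0
    · exfalso
      rcases one_cases hp with h1 | h1 <;> rw [h1] at tp tq <;> omega
    · exact h0
  have lb : b p ^ 2 ≤ 3 ∨ p = o := by
    by_cases hpo : p = o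
    · exact Or.inr hpo
    · left
      have h1 := Finset.add_sum_erase Finset.univ (fun i => b i ^ 2) (Finset.mem_univ o)
      have h4 := Finset.single_le_sum (f := fun i => b i ^ 2) (s := Finset.univ.erase o)
        (fun i _ => sq_nonneg _) (Finset.mem_erase.2 ⟨hpo, Finset.mem_univ p⟩)
      simp only [h.bo, h.bb] at h1 h4
      linarith
  have l2 := h.le_one h.d22 h.d2n p
  have l3 := h.le_one h.d33 h.d3n p
  have hbp : b p = 0 := by
    rcases lb with lb | lb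
    · have h8 : -1 ≤ b p ∧ b p ≤ 1 := by constructor <;> nlinarith
      omega
    · rw [lb] at e7 tp tq
      rw [h.bo, h.d2o, h.d3o] at tp tq
      omega
  have h23 : d3 p = -d2 p := by omega
  have h2p : d2 p = 0 := by
    by_contra hne
    have h8 : d2 p ^ 2 = 1 := by rcases l2 with h9 | h9 | h9 <;> [exact absurd h9 hne; (rw [h9]; norm_num); (rw [h9]; norm_num)]
    have h9 : ∑ i, (d2 i - d3 i) ^ 2 = 4 := by
      have : ∑ i, (d2 i - d3 i) ^ 2 = ∑ i, d2 i ^ 2 + ∑ i, d3 i ^ 2 - 2 * ∑ i, d2 i * d3 i := by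
        rw [Finset.mul_sum, ← Finset.sum_add_distrib, ← Finset.sum_sub_distrib]
        exact Finset.sum_congr rfl fun i _ => by ring
      rw [this, h.d22, h.d33, h.d23]; norm_num
    have h10 : ∑ i ∈ ({p, q} : Finset ι), (d2 i - d3 i) ^ 2 ≤ ∑ i, (d2 i - d3 i) ^ 2 :=
      Finset.sum_le_sum_of_subset_of_nonneg (Finset.subset_univ _) fun i _ _ => sq_nonneg _
    rw [Finset.sum_pair hpq, ← h2, ← h3, h23, h9] at h10
    nlinarith
  have h3p : d3 p = 0 := by rw [h23, h2p]; rfl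
  by_contra hne
  have hi' : i = p ∨ i = q := by
    by_contra hcon
    push Not at hcon
    exact hne (hz' i hcon.1 hcon.2)
  rcases hi' with rfl | rfl
  · rcases hi with h0 | h0 | h0
    · exact h0 hbp
    · exact h0 h2p
    · exact h0 h3p
  · rcases hi with h0 | h0 | h0
    · exact h0 (by rw [← hb]; exact hbp)
    · exact h0 (by rw [← h2]; exact h2p)
    · exact h0 (by rw [← h3]; exact h3p)

theorem T_of (i : ι) (hi : b i ≠ 0 ∨ d2 i ≠ 0 ∨ d3 i ≠ 0) : T i = 3 * d2 i + 3 * d3 i - b i := by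
  rw [h.T_eq, h.supp4 i hi]; ring

theorem b_le (i : ι) (hi : i ≠ o) : b i = 0 ∨ b i = 1 ∨ b i = -1 := by
  have h1 := Finset.add_sum_erase Finset.univ (fun i => b i ^ 2) (Finset.mem_univ o)
  have h4 := Finset.single_le_sum (f := fun i => b i ^ 2) (s := Finset.univ.erase o)
    (fun i _ => sq_nonneg _) (Finset.mem_erase.2 ⟨hi, Finset.mem_univ i⟩)
  simp only [h.bo, h.bb] at h1 h4
  have lb : b i ^ 2 ≤ 3 := by linarith
  have h8 : -1 ≤ b i ∧ b i ≤ 1 := by constructor <;> nlinarith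
  omega

theorem sqx {i : ι} {s : ℤ} (hs : s ^ 2 = 1) : (s * n i) ^ 2 ≤ (g : ℤ) := by
  rw [mul_pow, hs, one_mul]; exact h.sq i

theorem c5 {i : ι} (hi : i ≠ o) {s : ℤ} (hs : s ^ 2 = 1) (hT : T i = 5 * s) :
    (s * n i) % 8 = 5 ∧ (13 ≤ s * n i ∨ s * n i ≤ -35) := by
  have h1 := h.cong i
  have h2 := h.lt i hi
  have h3 := h.ge i
  rw [hT] at h1 h2 h3
  rcases one_cases hs with h4 | h4 <;> rw [h4] at h1 h2 h3 ⊢ <;> constructor <;> omega

theorem c3 {i : ι} (hi : i ≠ o) {s : ℤ} (hs : s ^ 2 = 1) (hT : T i = 3 * s) :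
    (s * n i) % 8 = 3 ∧ (11 ≤ s * n i ∨ s * n i ≤ -21) := by
  have h1 := h.cong i
  have h2 := h.lt i hi
  have h3 := h.ge i
  rw [hT] at h1 h2 h3
  rcases one_cases hs with h4 | h4 <;> rw [h4] at h1 h2 h3 ⊢ <;> constructor <;> omega

theorem c2 {i : ι} (hi : i ≠ o) {s : ℤ} (hs : s ^ 2 = 1) (hT : T i = 2 * s) :
    (s * n i) % 8 = 2 ∧ (10 ≤ s * n i ∨ s * n i ≤ -14) := by
  have h1 := h.cong i
  have h2 := h.lt i hi
  have h3 := h.ge i
  rw [hT] at h1 h2 h3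
  rcases one_cases hs with h4 | h4 <;> rw [h4] at h1 h2 h3 ⊢ <;> constructor <;> omega

theorem c1 {i : ι} (hi : i ≠ o) {s : ℤ} (hs : s ^ 2 = 1) (hT : T i = -s) :
    (7 ≤ s * n i ∨ s * n i ≤ -9) := by
  have h1 := h.cong i
  have h2 := h.lt i hi
  have h3 := h.ge i
  rw [hT] at h1 h2 h3
  rcases one_cases hs with h4 | h4 <;> rw [h4] at h1 h2 h3 ⊢ <;> omega

theorem term {i : ι} {s m : ℤ} (hs : s ^ 2 = 1) (hT : T i = m * s) :
    (s : ℚ) * ((T i : ℚ) ^ 2 / n i) = (m : ℚ) ^ 2 * (1 / ((s * n i : ℤ) : ℚ)) := by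
  have hn := h.nq i
  rw [hT]
  rcases one_cases hs with h4 | h4 <;> rw [h4] <;> push_cast <;> field_simp

end Lat

/-- the conclusion -/
def Concl (n b d2 d3 d4 : ι → ℤ) (g : ℕ) (π : ι → ι) : Prop :=
  g = 175560 ∨ (g = 189000 ∧ ∃ i, π i = i ∧ n i = 35 ∧ b i = -1 ∧ d2 i = -1 ∧ d3 i = -1 ∧ d4 i = 0)

/-- the situation of the main case distinction -/
structure Sit (o : ι) (n T b d2 d3 d4 : ι → ℤ) (g : ℕ) (π : ι → ι) (a1 a2 a3 a4 c : ι) : Prop where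
  L : Lat o n T b d2 d3 d4 g π
  o1 : a1 ≠ o
  o2 : a2 ≠ o
  o3 : a3 ≠ o
  o4 : a4 ≠ o
  oc : c ≠ o
  h12 : a1 ≠ a2
  h13 : a1 ≠ a3
  h14 : a1 ≠ a4
  h23 : a2 ≠ a3
  h24 : a2 ≠ a4
  h34 : a3 ≠ a4
  hc1 : c ≠ a1
  hc2 : c ≠ a2
  hc3 : c ≠ a3
  hc4 : c ≠ a4
  q1 : b a1 ^ 2 = 1
  q2 : b a2 ^ 2 = 1
  q3 : d2 a3 ^ 2 = 1
  q4 : d2 a4 ^ 2 = 1
  qc : b c ^ 2 = 1
  e1 : d2 a1 = b a1
  e2 : d2 a2 = b a2
  bz : ∀ i, i ≠ o → i ≠ a1 → i ≠ a2 → i ≠ c → b i = 0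
  dz : ∀ i, i ≠ a1 → i ≠ a2 → i ≠ a3 → i ≠ a4 → d2 i = 0

namespace Sit
variable {a1 a2 a3 a4 c : ι} (h : Sit o n T b d2 d3 d4 g π a1 a2 a3 a4 c)
include h

theorem sb (F : ι → ℤ) : ∑ i, b i * F i = b o * F o + b a1 * F a1 + b a2 * F a2 + b c * F c :=
  sum4 h.o1.symm h.o2.symm h.oc.symm h.h12 h.hc1.symm h.hc2.symm h.bz

theorem sbq (F : ι → ℚ) : ∑ i, (b i : ℚ) * F i = b o * F o + b a1 * F a1 + b a2 * F a2 + b c * F c :=
  sum4 (f := fun i => (b i : ℚ)) h.o1.symm h.o2.symm h.oc.symm h.h12 h.hc1.symm h.hc2.symm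
    (fun i x1 x2 x3 x4 => by rw [h.bz i x1 x2 x3 x4]; simp)

theorem sd (F : ι → ℤ) : ∑ i, d2 i * F i = d2 a1 * F a1 + d2 a2 * F a2 + d2 a3 * F a3 + d2 a4 * F a4 :=
  sum4 h.h12 h.h13 h.h14 h.h23 h.h24 h.h34 h.dz

theorem sdq (F : ι → ℚ) : ∑ i, (d2 i : ℚ) * F i = d2 a1 * F a1 + d2 a2 * F a2 + d2 a3 * F a3 + d2 a4 * F a4 :=
  sum4 (f := fun i => (d2 i : ℚ)) h.h12 h.h13 h.h14 h.h23 h.h24 h.h34
    (fun i x1 x2 x3 x4 => by rw [h.dz i x1 x2 x3 x4]; simp)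

theorem z3 : b a3 = 0 := h.bz a3 h.o3 h.h13.symm h.h23.symm h.hc3.symm
theorem z4 : b a4 = 0 := h.bz a4 h.o4 h.h14.symm h.h24.symm h.hc4.symm
theorem zc : d2 c = 0 := h.dz c h.hc1 h.hc2 h.hc3 h.hc4

theorem swap12 : Sit o n T b d2 d3 d4 g π a2 a1 a3 a4 c :=
  { L := h.L, o1 := h.o2, o2 := h.o1, o3 := h.o3, o4 := h.o4, oc := h.oc, h12 := h.h12.symm, h13 := h.h23,
    h14 := h.h24, h23 := h.h13, h24 := h.h14, h34 := h.h34, hc1 := h.hc2, hc2 := h.hc1, hc3 := h.hc3,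
    hc4 := h.hc4, q1 := h.q2, q2 := h.q1, q3 := h.q3, q4 := h.q4, qc := h.qc, e1 := h.e2, e2 := h.e1,
    bz := fun i x0 x1 x2 x3 => h.bz i x0 x2 x1 x3, dz := fun i x1 x2 x3 x4 => h.dz i x2 x1 x3 x4 }

theorem swap34 : Sit o n T b d2 d3 d4 g π a1 a2 a4 a3 c :=
  { L := h.L, o1 := h.o1, o2 := h.o2, o3 := h.o4, o4 := h.o3, oc := h.oc, h12 := h.h12, h13 := h.h14,
    h14 := h.h13, h23 := h.h24, h24 := h.h23, h34 := h.h34.symm, hc1 := h.hc1, hc2 := h.hc2, hc3 := h.hc4,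
    hc4 := h.hc3, q1 := h.q1, q2 := h.q2, q3 := h.q4, q4 := h.q3, qc := h.qc, e1 := h.e1, e2 := h.e2,
    bz := h.bz, dz := fun i x1 x2 x3 x4 => h.dz i x1 x2 x4 x3 }

theorem n1 : b a1 ≠ 0 := fun hh => by have := h.q1; rw [hh] at this; norm_num at this
theorem n2 : b a2 ≠ 0 := fun hh => by have := h.q2; rw [hh] at this; norm_num at this
theorem n3 : d2 a3 ≠ 0 := fun hh => by have := h.q3; rw [hh] at this; norm_num at this
theorem n4 : d2 a4 ≠ 0 := fun hh => by have := h.q4; rw [hh] at this; norm_num at this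
theorem nc : b c ≠ 0 := fun hh => by have := h.qc; rw [hh] at this; norm_num at this

/-- the two equations and the two rational equations -/
theorem eqs : b a1 * n a1 + b a2 * n a2 + b c * n c = 1 ∧
    b a1 * n a1 + b a2 * n a2 + d2 a3 * n a3 + d2 a4 * n a4 = 0 := by
  have x1 := h.L.bn
  rw [h.sb, h.L.bo, h.L.no] at x1
  have x2 := h.L.d2n
  rw [h.sd, h.e1, h.e2] at x2
  exact ⟨by linarith, x2⟩

theorem final7 (w1 : d3 a1 = b a1) (w2 : d3 a2 = b a2) (w3 : d3 a3 = 0) (w4 : d3 a4 = 0) (wc : d3 c = 0) :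
    Concl n b d2 d3 d4 g π := by
  have T1 : T a1 = 5 * b a1 := by rw [h.L.T_of a1 (Or.inl h.n1), w1, h.e1]; ring
  have T2 : T a2 = 5 * b a2 := by rw [h.L.T_of a2 (Or.inl h.n2), w2, h.e2]; ring
  have T3 : T a3 = 3 * d2 a3 := by rw [h.L.T_of a3 (Or.inr (Or.inl h.n3)), w3, h.z3]; ring
  have T4 : T a4 = 3 * d2 a4 := by rw [h.L.T_of a4 (Or.inr (Or.inl h.n4)), w4, h.z4]; ring
  have Tc : T c = -b c := by rw [h.L.T_of c (Or.inl h.nc), wc, h.zc]; ring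
  have To : T o = 1 := by
    rw [h.L.T_of o (Or.inl (by rw [h.L.bo]; norm_num)), h.L.bo, h.L.d2o, h.L.d3o]; norm_num
  obtain ⟨E1, E2⟩ := h.eqs
  have F1 := h.L.Db
  rw [h.sbq, h.L.term h.q1 T1, h.L.term h.q2 T2, h.L.term h.qc (m := -1) (by rw [Tc]; ring), h.L.bo, To, h.L.no] at F1
  have F2 := h.L.D2
  rw [h.sdq, h.e1, h.e2, h.L.term h.q1 T1, h.L.term h.q2 T2, h.L.term h.q3 T3, h.L.term h.q4 T4] at F2
  obtain ⟨m1, r1⟩ := h.L.c5 h.o1 h.q1 T1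
  obtain ⟨m2, r2⟩ := h.L.c5 h.o2 h.q2 T2
  obtain ⟨m3, r3⟩ := h.L.c3 h.o3 h.q3 T3
  obtain ⟨m4, r4⟩ := h.L.c3 h.o4 h.q4 T4
  have rc := h.L.c1 h.oc h.qc Tc
  have key := cfg7 h.L.gpos E1 E2 m1 m2 m3 r1 r2 rc r3 r4 (h.L.sqx h.q1) (h.L.sqx h.q2) (h.L.sqx h.q3)
    (by rw [← F1]; push_cast; ring) (by rw [← F2]; push_cast; ring)
  have fin : ∀ {x y : ι}, Sit o n T b d2 d3 d4 g π x y a3 a4 c → d3 x = b x → b x * n x = -35 → b y * n y = 21 →
      ∃ i, π i = i ∧ n i = 35 ∧ b i = -1 ∧ d2 i = -1 ∧ d3 i = -1 ∧ d4 i = 0 := by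
    intro x y hS hd hx hy
    have px := hS.L.npos x
    have py := hS.L.npos y
    have pc := hS.L.npos c
    have bx : b x = -1 := by
      rcases one_cases hS.q1 with h1 | h1
      · rw [h1] at hx; omega
      · exact h1
    have nx : n x = 35 := by rw [bx] at hx; omega
    have ny : n y = 21 := by rcases one_cases hS.q2 with h1 | h1 <;> rw [h1] at hy <;> omega
    have ec := hS.eqs.1
    rw [hx, hy] at ec
    have nc' : n c = 15 := by rcases one_cases hS.qc with h1 | h1 <;> rw [h1] at ec <;> omega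
    refine ⟨x, ?_, nx, bx, by rw [hS.e1, bx], by rw [hd, bx], hS.L.supp4 x (Or.inl hS.n1)⟩
    have hb := hS.L.pb x
    have hn := hS.L.pn x
    by_contra hne
    have hne2 : π x ≠ y := fun hh => by rw [hh, ny, nx] at hn; norm_num at hn
    have hne3 : π x ≠ c := fun hh => by rw [hh, nc', nx] at hn; norm_num at hn
    have hne4 : π x ≠ o := fun hh => by rw [hh, hS.L.no, nx] at hn; norm_num at hn
    rw [hS.bz (π x) hne4 hne hne2 hne3, bx] at hb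
    norm_num at hb
  rcases key with key | ⟨key, ⟨k1, k2⟩ | ⟨k1, k2⟩⟩
  · exact Or.inl key
  · exact Or.inr ⟨key, fin h w1 k1 k2⟩
  · exact Or.inr ⟨key, fin h.swap12 w2 k2 k1⟩

theorem final8 (w1 : d3 a1 = b a1) (w2 : d3 a2 = 0) (w3 : d3 a3 = d2 a3) (w4 : d3 a4 = 0) (wc : d3 c = b c) :
    False := by
  have T1 : T a1 = 5 * b a1 := by rw [h.L.T_of a1 (Or.inl h.n1), w1, h.e1]; ring
  have T2 : T a2 = 2 * b a2 := by rw [h.L.T_of a2 (Or.inl h.n2), w2, h.e2]; ring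
  have T3 : T a3 = 6 * d2 a3 := by rw [h.L.T_of a3 (Or.inr (Or.inl h.n3)), w3, h.z3]; ring
  have T4 : T a4 = 3 * d2 a4 := by rw [h.L.T_of a4 (Or.inr (Or.inl h.n4)), w4, h.z4]; ring
  have Tc : T c = 2 * b c := by rw [h.L.T_of c (Or.inl h.nc), wc, h.zc]; ring
  have To : T o = 1 := by
    rw [h.L.T_of o (Or.inl (by rw [h.L.bo]; norm_num)), h.L.bo, h.L.d2o, h.L.d3o]; norm_num
  -- Galois
  have hπ : π a2 = c := by
    have y1 := h.L.pb a2
    have y2 := h.L.p2 a2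
    have y3 := h.L.p3 a2
    have y4 := h.L.pn a2
    by_contra hne
    have z1 : π a2 ≠ a1 := fun hh => by rw [hh, h.e1, w2] at y2; exact h.n1 y2
    have z2 : π a2 ≠ a2 := fun hh => by rw [hh, h.e2, w2] at y2; exact h.n2 y2
    have z3 : π a2 ≠ o := fun hh => by rw [hh, h.L.d3o, h.e2] at y3; exact h.n2 y3.symm
    rw [h.bz (π a2) z3 z1 z2 hne] at y1
    exact h.n2 y1.symm
  have eb : b c = b a2 := by rw [← hπ]; exact h.L.pb a2
  have en : n c = n a2 := by rw [← hπ]; exact h.L.pn a2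
  obtain ⟨E1, E2⟩ := h.eqs
  rw [eb, en] at E1
  have F1 := h.L.Db
  rw [h.sbq, h.L.term h.q1 T1, h.L.term h.q2 T2, h.L.term h.qc Tc, h.L.bo, To, h.L.no, eb, en] at F1
  have F2 := h.L.D2
  rw [h.sdq, h.e1, h.e2, h.L.term h.q1 T1, h.L.term h.q2 T2, h.L.term h.q3 T3, h.L.term h.q4 T4] at F2
  obtain ⟨m2, r2⟩ := h.L.c2 h.o2 h.q2 T2
  obtain ⟨m4, r4⟩ := h.L.c3 h.o4 h.q4 T4
  exact cfg8 h.L.gpos E1 E2 m2 m4 r2 (mul_ne_zero h.n3 (h.L.npos a3).ne') r4 (h.L.sqx h.q1) (h.L.sqx h.q4)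
    (by rw [← F1]; push_cast; ring) (by rw [← F2]; push_cast; ring)

end Sit

theorem uu {β δ : ℤ} (hb : β ^ 2 = 1) (hd : δ = 0 ∨ δ = 1 ∨ δ = -1) :
    (β * δ = 0 ∧ δ = 0 ∧ δ ^ 2 = 0) ∨ (β * δ = 1 ∧ δ = β ∧ δ ^ 2 = 1) ∨ (β * δ = -1 ∧ δ = -β ∧ δ ^ 2 = 1) := by
  rcases one_cases hb with rfl | rfl <;> rcases hd with rfl | rfl | rfl <;> norm_num

namespace Sit
variable {a1 a2 a3 a4 c : ι} (h : Sit o n T b d2 d3 d4 g π a1 a2 a3 a4 c)
include h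

theorem concl : Concl n b d2 d3 d4 g π := by
  have l3 := h.L.le_one h.L.d33 h.L.d3n
  have hb3 := h.L.b3
  rw [h.sb, h.L.d3o] at hb3
  have h23 := h.L.d23
  rw [h.sd, h.e1, h.e2] at h23
  have nm : d3 a1 ^ 2 + d3 a2 ^ 2 + d3 a3 ^ 2 + d3 a4 ^ 2 + d3 c ^ 2 ≤ 4 := by
    have h1 : ∑ i ∈ ({a1, a2, a3, a4, c} : Finset ι), d3 i ^ 2 ≤ ∑ i, d3 i ^ 2 :=
      Finset.sum_le_sum_of_subset_of_nonneg (Finset.subset_univ _) fun i _ _ => sq_nonneg _
    rw [Finset.sum_insert (by simp [h.h12, h.h13, h.h14, h.hc1.symm]),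
      Finset.sum_insert (by simp [h.h23, h.h24, h.hc2.symm]),
      Finset.sum_insert (by simp [h.h34, h.hc3.symm]), Finset.sum_insert (by simp [h.hc4.symm]),
      Finset.sum_singleton, h.L.d33] at h1
    linarith
  -- the case where d3 is supported on a1..a4 with opposite relative sign
  have A2 : ∀ {x y : ι}, Sit o n T b d2 d3 d4 g π a1 a2 x y c → d3 a1 = b a1 → d3 a2 = b a2 → d3 x = d2 x →
      d3 y = -d2 y → d3 c = 0 → False := by
    intro x y hS w1 w2 w3 w4 wc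
    have hz : ∀ i, i ≠ a1 → i ≠ a2 → i ≠ x → i ≠ y → d3 i = 0 := by
      intro i i1 i2 i3 i4
      have h1 : ∑ i ∈ ({i, a1, a2, x, y} : Finset ι), d3 i ^ 2 ≤ ∑ i, d3 i ^ 2 :=
        Finset.sum_le_sum_of_subset_of_nonneg (Finset.subset_univ _) fun i _ _ => sq_nonneg _
      rw [Finset.sum_insert (by simp [i1, i2, i3, i4]), Finset.sum_insert (by simp [hS.h12, hS.h13, hS.h14]),
        Finset.sum_insert (by simp [hS.h23, hS.h24]), Finset.sum_insert (by simp [hS.h34]),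
        Finset.sum_singleton, hS.L.d33, w1, w2, w3, w4] at h1
      have := hS.q1; have := hS.q2; have := hS.q3; have := hS.q4
      have : d3 i ^ 2 = 0 := by nlinarith [sq_nonneg (d3 i)]
      exact pow_eq_zero_iff two_ne_zero |>.1 this
    have e3 := hS.L.d3n
    rw [sum4 hS.h12 hS.h13 hS.h14 hS.h23 hS.h24 hS.h34 hz, w1, w2, w3, w4] at e3
    have e2 := hS.eqs.2
    have e4 : d2 y * n y = 0 := by linarith
    exact mul_ne_zero hS.n4 (hS.L.npos y).ne' e4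
  rcases uu h.q1 (l3 a1) with ⟨x1, y1, z1⟩ | ⟨x1, y1, z1⟩ | ⟨x1, y1, z1⟩ <;>
    rcases uu h.q2 (l3 a2) with ⟨x2, y2, z2⟩ | ⟨x2, y2, z2⟩ | ⟨x2, y2, z2⟩ <;>
    rcases uu h.qc (l3 c) with ⟨xc, yc, zc⟩ | ⟨xc, yc, zc⟩ | ⟨xc, yc, zc⟩ <;>
    rw [x1, x2, xc] at hb3 <;> first | (exfalso; omega) | skip
  · -- u1 = 0, u2 = 1, uc = 1
    rcases uu h.q3 (l3 a3) with ⟨x3, y3, z3⟩ | ⟨x3, y3, z3⟩ | ⟨x3, y3, z3⟩ <;>
      rcases uu h.q4 (l3 a4) with ⟨x4, y4, z4⟩ | ⟨x4, y4, z4⟩ | ⟨x4, y4, z4⟩ <;>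
      rw [x1, x2, x3, x4] at h23 <;> first | (exfalso; omega) | skip
    · exact (h.swap12.swap34.final8 y2 y1 y4 y3 yc).elim
    · exact (h.swap12.final8 y2 y1 y3 y4 yc).elim
  · -- u1 = 1, u2 = 0, uc = 1
    rcases uu h.q3 (l3 a3) with ⟨x3, y3, z3⟩ | ⟨x3, y3, z3⟩ | ⟨x3, y3, z3⟩ <;>
      rcases uu h.q4 (l3 a4) with ⟨x4, y4, z4⟩ | ⟨x4, y4, z4⟩ | ⟨x4, y4, z4⟩ <;>
      rw [x1, x2, x3, x4] at h23 <;> first | (exfalso; omega) | skip
    · exact (h.swap34.final8 y1 y2 y4 y3 yc).elim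
    · exact (h.final8 y1 y2 y3 y4 yc).elim
  · -- u1 = u2 = 1, uc = 0
    rcases uu h.q3 (l3 a3) with ⟨x3, y3, z3⟩ | ⟨x3, y3, z3⟩ | ⟨x3, y3, z3⟩ <;>
      rcases uu h.q4 (l3 a4) with ⟨x4, y4, z4⟩ | ⟨x4, y4, z4⟩ | ⟨x4, y4, z4⟩ <;>
      rw [x1, x2, x3, x4] at h23 <;> first | (exfalso; omega) | skip
    · exact h.final7 y1 y2 y3 y4 yc
    · exact (A2 h y1 y2 y3 y4 yc).elim
    · exact (A2 h.swap34 y1 y2 y4 y3 yc).elim

end Sit

theorem mkSit (h : Lat o n T b d2 d3 d4 g π) {x1 x2 x3 x4 : ι} (hF : Four Finset.univ d2 x1 x2 x3 x4)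
    (q1 : d2 x1 ^ 2 = 1) (q2 : d2 x2 ^ 2 = 1) (q3 : d2 x3 ^ 2 = 1) (q4 : d2 x4 ^ 2 = 1)
    (e1 : b x1 = d2 x1) (e2 : b x2 = d2 x2) (e3 : b x3 = 0) (e4 : b x4 = 0) :
    ∃ c, Sit o n T b d2 d3 d4 g π x1 x2 x3 x4 c := by
  have ne : ∀ {x : ι}, d2 x ^ 2 = 1 → x ≠ o := by
    rintro x hx rfl
    rw [h.d2o] at hx; norm_num at hx
  have s1 := Finset.add_sum_erase Finset.univ (fun i => b i ^ 2) (Finset.mem_univ o)
  have m1 : x1 ∈ Finset.univ.erase o := Finset.mem_erase.2 ⟨ne q1, Finset.mem_univ _⟩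
  have s2 := Finset.add_sum_erase (Finset.univ.erase o) (fun i => b i ^ 2) m1
  have m2 : x2 ∈ (Finset.univ.erase o).erase x1 :=
    Finset.mem_erase.2 ⟨hF.hab.symm, Finset.mem_erase.2 ⟨ne q2, Finset.mem_univ _⟩⟩
  have s3 := Finset.add_sum_erase ((Finset.univ.erase o).erase x1) (fun i => b i ^ 2) m2
  simp only [h.bo, h.bb, e1, e2, q1, q2] at s1 s2 s3
  obtain ⟨c, hc, hc0, hc1, hc2⟩ := step (s := ((Finset.univ.erase o).erase x1).erase x2) (f := b) (k := 1)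
    (by linarith) (by norm_num)
  have hcq : b c ^ 2 = 1 := sq_le_three (by linarith) hc0
  simp only [Finset.mem_erase, Finset.mem_univ, and_true] at hc
  rw [hcq] at hc2
  have bz : ∀ i, i ≠ o → i ≠ x1 → i ≠ x2 → i ≠ c → b i = 0 := by
    intro i i0 i1 i2 ic
    refine eq_zero_of_sum (s := (((Finset.univ.erase o).erase x1).erase x2).erase c) (by rw [hc2]; norm_num) ?_
    simp only [Finset.mem_erase, Finset.mem_univ, and_true]
    exact ⟨ic, i2, i1, i0⟩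
  exact ⟨c,
    { L := h
      o1 := ne q1
      o2 := ne q2
      o3 := ne q3
      o4 := ne q4
      oc := hc.2.2
      h12 := hF.hab
      h13 := hF.hac
      h14 := hF.hae
      h23 := hF.hbc
      h24 := hF.hbe
      h34 := hF.hce
      hc1 := hc.2.1
      hc2 := hc.1
      hc3 := fun hh => hc0 (by rw [hh]; exact e3)
      hc4 := fun hh => hc0 (by rw [hh]; exact e4)
      q1 := by rw [e1]; exact q1
      q2 := by rw [e2]; exact q2
      q3 := q3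
      q4 := q4
      qc := hcq
      e1 := e1.symm
      e2 := e2.symm
      bz := bz
      dz := fun i => hF.hz i (Finset.mem_univ _) }⟩

theorem Lat.concl (h : Lat o n T b d2 d3 d4 g π) : Concl n b d2 d3 d4 g π := by
  rcases four h.d22 with ⟨a, -, h1, -⟩ | ⟨a1, a2, a3, a4, hF, q1, q2, q3, q4⟩
  · exfalso
    rcases h.le_one h.d22 h.d2n a with h2 | h2 | h2 <;> rw [h2] at h1 <;> norm_num at h1
  · have ne : ∀ {x : ι}, d2 x ^ 2 = 1 → x ≠ o := by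
      rintro x hx rfl
      rw [h.d2o] at hx; norm_num at hx
    have hs : d2 a1 * b a1 + d2 a2 * b a2 + d2 a3 * b a3 + d2 a4 * b a4 = 2 := by
      have := h.b2
      simp only [mul_comm (b _)] at this
      rw [sum4 hF.hab hF.hac hF.hae hF.hbc hF.hbe hF.hce (fun i => hF.hz i (Finset.mem_univ _))] at this
      exact this
    have nm : b o ^ 2 + b a1 ^ 2 + b a2 ^ 2 + b a3 ^ 2 + b a4 ^ 2 ≤ 4 := by
      have h1 : ∑ i ∈ ({o, a1, a2, a3, a4} : Finset ι), b i ^ 2 ≤ ∑ i, b i ^ 2 :=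
        Finset.sum_le_sum_of_subset_of_nonneg (Finset.subset_univ _) fun i _ _ => sq_nonneg _
      rw [Finset.sum_insert (by simp [(ne q1).symm, (ne q2).symm, (ne q3).symm, (ne q4).symm]),
        Finset.sum_insert (by simp [hF.hab, hF.hac, hF.hae]),
        Finset.sum_insert (by simp [hF.hbc, hF.hbe]), Finset.sum_insert (by simp [hF.hce]),
        Finset.sum_singleton, h.bb] at h1
      linarith
    rw [h.bo] at nm
    rcases uu q1 (h.b_le a1 (ne q1)) with ⟨x1, y1, z1⟩ | ⟨x1, y1, z1⟩ | ⟨x1, y1, z1⟩ <;>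
      rcases uu q2 (h.b_le a2 (ne q2)) with ⟨x2, y2, z2⟩ | ⟨x2, y2, z2⟩ | ⟨x2, y2, z2⟩ <;>
      rw [x1, x2] at hs <;> rw [z1, z2] at nm <;>
      rcases uu q3 (h.b_le a3 (ne q3)) with ⟨x3, y3, z3⟩ | ⟨x3, y3, z3⟩ | ⟨x3, y3, z3⟩ <;>
      rcases uu q4 (h.b_le a4 (ne q4)) with ⟨x4, y4, z4⟩ | ⟨x4, y4, z4⟩ | ⟨x4, y4, z4⟩ <;>
      rw [x3, x4] at hs <;> rw [z3, z4] at nm <;> first | (exfalso; omega) | skip
    · -- a3, a4
      obtain ⟨c, hS⟩ := mkSit h (hF.s23.s12.s34.s23) q3 q4 q1 q2 y3 y4 y1 y2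
      exact hS.concl
    · obtain ⟨c, hS⟩ := mkSit h (hF.s12.s34.s23) q2 q4 q1 q3 y2 y4 y1 y3
      exact hS.concl
    · obtain ⟨c, hS⟩ := mkSit h (hF.s12.s23) q2 q3 q1 q4 y2 y3 y1 y4
      exact hS.concl
    · obtain ⟨c, hS⟩ := mkSit h (hF.s34.s23) q1 q4 q2 q3 y1 y4 y2 y3
      exact hS.concl
    · obtain ⟨c, hS⟩ := mkSit h hF.s23 q1 q3 q2 q4 y1 y3 y2 y4
      exact hS.concl
    · obtain ⟨c, hS⟩ := mkSit h hF q1 q2 q3 q4 y1 y2 y3 y4
      exact hS.concl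

end H94.J1
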