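import Mathlib
import Cfsg.Agent.Lib.H94.J1Cols
import Cfsg.Agent.Lib.H94.J1Lat

/-! Simple groups with a 2-central involution whose centralizer is `2 × A₅`: orthogonality relations. -/

set_option autoImplicit false
set_option linter.unusedSectionVars false
open Subgroup Cfsg
open scoped ComplexConjugate

namespace H94.J1

universe u
variable {G : Type u} [Group G] [Finite G] {t : G} {e : centralizer ({t} : Set G) ≃* MP}

/-- the four integer columns -/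
structure Cols (e : centralizer ({t} : Set G) ≃* MP) (e0 e1 e2 f0 f1 : IrrCharacter G → ℤ) : Prop where
  L : Loc t e
  ht : ∀ χ : IrrCharacter G, (χ : G → ℂ) t = ((e0 χ + 2 * e1 χ + 2 * e2 χ : ℤ) : ℂ)
  hv : ∀ χ : IrrCharacter G, (χ : G → ℂ) (emb e (z0 * v0)) = e0 χ + om * e1 χ + om' * e2 χ
  hv2 : ∀ χ : IrrCharacter G, (χ : G → ℂ) (emb e (z0 * (v0 * v0))) = e0 χ + om' * e1 χ + om * e2 χ
  ht' : ∀ χ, e0 χ + 2 * e1 χ + 2 * e2 χ = f0 χ + 2 * f1 χ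
  hu : ∀ χ : IrrCharacter G, (χ : G → ℂ) (emb e (z0 * u0)) = ((f0 χ - f1 χ : ℤ) : ℂ)

theorem exists_Cols (L : Loc t e) : ∃ e0 e1 e2 f0 f1 : IrrCharacter G → ℤ, Cols e e0 e1 e2 f0 f1 := by
  choose e0 e1 e2 f0 f1 h using exists_cols L
  refine ⟨e0, e1, e2, f0, f1, L, fun χ => ?_, fun χ => (h χ).2.1, fun χ => (h χ).2.2.1, fun χ => ?_, fun χ => ?_⟩
  · rw [(h χ).1]; push_cast; ring
  · have h1 := (h χ).1.symm.trans (h χ).2.2.2.1
    exact_mod_cast h1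
  · rw [(h χ).2.2.2.2]; push_cast; ring

/-- a real element -/
theorem conj_val {χ : IrrCharacter G} {x : G} (h : IsConj x x⁻¹) : conj ((χ : G → ℂ) x) = (χ : G → ℂ) x := by
  rw [← H94.PCol.char_pow_inv (H18.CharBasic.isCharacter_of_isIrr χ.2) x]
  exact (cf h).symm

theorem real_v : IsConj (emb e (z0 * v0)) (emb e (z0 * v0))⁻¹ := real_of zs1_inv
theorem real_v2 : IsConj (emb e (z0 * (v0 * v0))) (emb e (z0 * (v0 * v0)))⁻¹ := real_of zs1_inv'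

section
variable [Fintype (IrrCharacter G)]

theorem co (a : G) {b : G} (hb : IsConj b b⁻¹) (h : ¬ IsConj a b) :
    ∑ χ : IrrCharacter G, (χ : G → ℂ) a * (χ : G → ℂ) b = 0 := by
  classical
  have h1 := H18.CharInd.column_orthogonality a b
  rw [if_neg h] at h1
  rw [← h1]
  exact Finset.sum_congr rfl fun χ _ => by rw [conj_val hb]

theorem co_self {b : G} (hb : IsConj b b⁻¹) :
    ∑ χ : IrrCharacter G, (χ : G → ℂ) b * (χ : G → ℂ) b = Nat.card (centralizer ({b} : Set G)) := by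
  classical
  have h1 := H18.CharInd.column_orthogonality b b
  rw [if_pos (IsConj.refl b)] at h1
  rw [← h1]
  exact Finset.sum_congr rfl fun χ _ => by rw [conj_val hb]

/-- structure constants -/
theorem cm {a c : G} (hc : IsConj c c⁻¹) (ha : Nat.card (centralizer ({a} : Set G)) = 120) {m : ℕ}
    (hm : Nat.card {p : G × G // IsConj a p.1 ∧ IsConj a p.2 ∧ p.1 * p.2 = c} = m) :
    ∑ χ : IrrCharacter G, (χ : G → ℂ) a * (χ : G → ℂ) a * (χ : G → ℂ) c / (charDegree (χ : G → ℂ) : ℂ) =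
      m * (14400 / (Nat.card G : ℂ)) := by
  let _ := Fintype.ofFinite G
  have h1 := H18.CharCentral.class_mult a a c
  have ea : (Nat.card {x : G // IsConj a x} : ℂ) * Nat.card (centralizer ({a} : Set G)) = Nat.card G := by
    exact_mod_cast H18.CharInd.card_isConj_mul_card_centralizer a
  rw [ha] at ea
  rw [hm] at h1
  have hg : (Nat.card G : ℂ) ≠ 0 := by exact_mod_cast Nat.card_pos.ne'
  have h2 : ∑ χ : IrrCharacter G, (χ : G → ℂ) a * (χ : G → ℂ) a * (χ : G → ℂ) c / (charDegree (χ : G → ℂ) : ℂ) =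
      ∑ χ : IrrCharacter G, (χ : G → ℂ) a * (χ : G → ℂ) a * conj ((χ : G → ℂ) c) / (χ : G → ℂ) 1 :=
    Finset.sum_congr rfl fun χ _ => by rw [conj_val hc, H82.Deg.coe_charDegree' χ]
  rw [← h2] at h1
  generalize ∑ χ : IrrCharacter G, (χ : G → ℂ) a * (χ : G → ℂ) a * (χ : G → ℂ) c / (charDegree (χ : G → ℂ) : ℂ) = S at *
  generalize (Nat.card {x : G // IsConj a x} : ℂ) = k at *
  rw [h1]
  field_simp
  rw [← ea]
  push_cast
  ring

end

namespace Cols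
variable {e0 e1 e2 f0 f1 : IrrCharacter G → ℤ} (h : Cols e e0 e1 e2 f0 f1)
include h

theorem hW (χ : IrrCharacter G) : (χ : G → ℂ) (emb e (z0 * v0)) + (χ : G → ℂ) (emb e (z0 * (v0 * v0))) =
    ((2 * e0 χ - e1 χ - e2 χ : ℤ) : ℂ) := by
  rw [h.hv, h.hv2]; push_cast
  linear_combination ((e1 χ : ℂ) + e2 χ) * om_add

theorem hN (χ : IrrCharacter G) : (χ : G → ℂ) (emb e (z0 * v0)) - (χ : G → ℂ) (emb e (z0 * (v0 * v0))) =
    (om - om') * ((e1 χ - e2 χ : ℤ) : ℂ) := by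
  rw [h.hv, h.hv2]; push_cast; ring

variable [Fintype (IrrCharacter G)]

theorem tt : ∑ χ, (e0 χ + 2 * e1 χ + 2 * e2 χ) ^ 2 = 120 := by
  rw [H59.Cols3.orth_self h.ht, card_cent e]; rfl

theorem uu' : ∑ χ, (f0 χ - f1 χ) ^ 2 = 6 := by
  rw [H59.Cols3.orth_self h.hu, cent_zu h.L]; rfl

theorem tu : ∑ χ, (e0 χ + 2 * e1 χ + 2 * e2 χ) * (f0 χ - f1 χ) = 0 := H59.Cols3.orth h.ht h.hu (nc_t_u h.L)

/-- an integer column orthogonal to `v` and `v²` -/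
theorem aw {a : G} {va : IrrCharacter G → ℤ} (ha : ∀ χ : IrrCharacter G, (χ : G → ℂ) a = va χ)
    (h1 : ¬ IsConj a (emb e (z0 * v0))) (h2 : ¬ IsConj a (emb e (z0 * (v0 * v0)))) :
    ∑ χ, va χ * (2 * e0 χ - e1 χ - e2 χ) = 0 ∧ ∑ χ, va χ * (e1 χ - e2 χ) = 0 := by
  have c1 := co a real_v h1
  have c2 := co a real_v2 h2
  constructor
  · have : ((∑ χ, va χ * (2 * e0 χ - e1 χ - e2 χ) : ℤ) : ℂ) = 0 := by
      rw [← add_zero (0 : ℂ)]
      nth_rewrite 1 [← c1]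
      rw [← c2, ← Finset.sum_add_distrib, Int.cast_sum]
      refine Finset.sum_congr rfl fun χ _ => ?_
      rw [Int.cast_mul, ← h.hW χ, ha χ]; ring
    exact_mod_cast this
  · have : (om - om') * ((∑ χ, va χ * (e1 χ - e2 χ) : ℤ) : ℂ) = 0 := by
      rw [← sub_zero (0 : ℂ)]
      nth_rewrite 1 [← c1]
      rw [← c2, ← Finset.sum_sub_distrib, Int.cast_sum, Finset.mul_sum]
      refine Finset.sum_congr rfl fun χ _ => ?_
      rw [Int.cast_mul, ha χ]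
      linear_combination -(va χ : ℂ) * h.hN χ
    rcases mul_eq_zero.1 this with h3 | h3
    · exact absurd h3 om_ne
    · exact_mod_cast h3

theorem vv : ∑ χ, (2 * e0 χ - e1 χ - e2 χ) ^ 2 = 20 ∧ ∑ χ, (e1 χ - e2 χ) ^ 2 = 4 ∧
    ∑ χ, (2 * e0 χ - e1 χ - e2 χ) * (e1 χ - e2 χ) = 0 := by
  have c1 := co_self (G := G) (real_v (e := e))
  have c2 := co_self (G := G) (real_v2 (e := e))
  have c3 := co (emb e (z0 * v0)) real_v2 (nc_v_v2 h.L)
  rw [cent_zv h.L] at c1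
  rw [cent_zv2 h.L] at c2
  push_cast at c1 c2
  refine ⟨?_, ?_, ?_⟩
  · have : ((∑ χ, (2 * e0 χ - e1 χ - e2 χ) ^ 2 : ℤ) : ℂ) = 20 := by
      have h1 : ((∑ χ, (2 * e0 χ - e1 χ - e2 χ) ^ 2 : ℤ) : ℂ) =
          ∑ χ : IrrCharacter G, (χ : G → ℂ) (emb e (z0 * v0)) * (χ : G → ℂ) (emb e (z0 * v0)) +
          ∑ χ : IrrCharacter G, (χ : G → ℂ) (emb e (z0 * (v0 * v0))) * (χ : G → ℂ) (emb e (z0 * (v0 * v0))) +
          2 * ∑ χ : IrrCharacter G, (χ : G → ℂ) (emb e (z0 * v0)) * (χ : G → ℂ) (emb e (z0 * (v0 * v0))) := by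
        rw [Finset.mul_sum, ← Finset.sum_add_distrib, ← Finset.sum_add_distrib, Int.cast_sum]
        refine Finset.sum_congr rfl fun χ _ => ?_
        rw [Int.cast_pow, ← h.hW χ]; ring
      rw [h1, c1, c2, c3]; norm_num
    exact_mod_cast this
  · have : (om - om') ^ 2 * ((∑ χ, (e1 χ - e2 χ) ^ 2 : ℤ) : ℂ) = 20 := by
      have h1 : (om - om') ^ 2 * ((∑ χ, (e1 χ - e2 χ) ^ 2 : ℤ) : ℂ) =
          ∑ χ : IrrCharacter G, (χ : G → ℂ) (emb e (z0 * v0)) * (χ : G → ℂ) (emb e (z0 * v0)) +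
          ∑ χ : IrrCharacter G, (χ : G → ℂ) (emb e (z0 * (v0 * v0))) * (χ : G → ℂ) (emb e (z0 * (v0 * v0))) -
          2 * ∑ χ : IrrCharacter G, (χ : G → ℂ) (emb e (z0 * v0)) * (χ : G → ℂ) (emb e (z0 * (v0 * v0))) := by
        rw [Finset.mul_sum, ← Finset.sum_add_distrib, ← Finset.sum_sub_distrib, Int.cast_sum, Finset.mul_sum]
        refine Finset.sum_congr rfl fun χ _ => ?_
        rw [Int.cast_pow, ← mul_pow, ← h.hN χ]; ring
      rw [h1, c1, c2, c3]; norm_num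
    rw [om_diff] at this
    have h2 : ((∑ χ, (e1 χ - e2 χ) ^ 2 : ℤ) : ℂ) = 4 := by linear_combination (1/5 : ℂ) * this
    exact_mod_cast h2
  · have : (om - om') * ((∑ χ, (2 * e0 χ - e1 χ - e2 χ) * (e1 χ - e2 χ) : ℤ) : ℂ) = 0 := by
      have h1 : (om - om') * ((∑ χ, (2 * e0 χ - e1 χ - e2 χ) * (e1 χ - e2 χ) : ℤ) : ℂ) =
          ∑ χ : IrrCharacter G, (χ : G → ℂ) (emb e (z0 * v0)) * (χ : G → ℂ) (emb e (z0 * v0)) -
          ∑ χ : IrrCharacter G, (χ : G → ℂ) (emb e (z0 * (v0 * v0))) * (χ : G → ℂ) (emb e (z0 * (v0 * v0))) := by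
        rw [← Finset.sum_sub_distrib, Int.cast_sum, Finset.mul_sum]
        refine Finset.sum_congr rfl fun χ _ => ?_
        rw [Int.cast_mul, ← h.hW χ]
        linear_combination -((χ : G → ℂ) (emb e (z0 * v0)) + (χ : G → ℂ) (emb e (z0 * (v0 * v0)))) * h.hN χ
      rw [h1, c1, c2]; norm_num
    rcases mul_eq_zero.1 this with h3 | h3
    · exact absurd h3 om_ne
    · exact_mod_cast h3

/-- structure constant sums -/
theorem dW : ∑ χ : IrrCharacter G, ((2 * e0 χ - e1 χ - e2 χ : ℤ) : ℚ) *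
      (((e0 χ + 2 * e1 χ + 2 * e2 χ : ℤ) : ℚ) ^ 2 / ((charDegree (χ : G → ℂ) : ℤ) : ℚ)) = 20 * (14400 / Nat.card G) ∧
    ∑ χ : IrrCharacter G, ((e1 χ - e2 χ : ℤ) : ℚ) *
      (((e0 χ + 2 * e1 χ + 2 * e2 χ : ℤ) : ℚ) ^ 2 / ((charDegree (χ : G → ℂ) : ℤ) : ℚ)) = 0 := by
  have c1 := cm real_v (card_cent e) (pairs_v h.L)
  have c2 := cm real_v2 (card_cent e) (pairs_v2 h.L)
  constructor
  · have : ((∑ χ : IrrCharacter G, ((2 * e0 χ - e1 χ - e2 χ : ℤ) : ℚ) *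
      (((e0 χ + 2 * e1 χ + 2 * e2 χ : ℤ) : ℚ) ^ 2 / ((charDegree (χ : G → ℂ) : ℤ) : ℚ)) : ℚ) : ℂ) =
        ((20 * (14400 / Nat.card G) : ℚ) : ℂ) := by
      have h1 : ((20 * (14400 / Nat.card G) : ℚ) : ℂ) = ((10 : ℕ) : ℂ) * (14400 / (Nat.card G : ℂ)) +
          ((10 : ℕ) : ℂ) * (14400 / (Nat.card G : ℂ)) := by push_cast; ring
      rw [h1]
      nth_rewrite 1 [← c1]
      rw [← c2, ← Finset.sum_add_distrib, Rat.cast_sum]
      refine Finset.sum_congr rfl fun χ _ => ?_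
      have h2 := h.hW χ
      have h3 := h.ht χ
      rw [Rat.cast_mul, Rat.cast_div, Rat.cast_pow, Rat.cast_intCast, Rat.cast_intCast, Rat.cast_intCast, ← h2, ← h3]
      push_cast
      ring
    exact_mod_cast this
  · have : (om - om') * ((∑ χ : IrrCharacter G, ((e1 χ - e2 χ : ℤ) : ℚ) *
      (((e0 χ + 2 * e1 χ + 2 * e2 χ : ℤ) : ℚ) ^ 2 / ((charDegree (χ : G → ℂ) : ℤ) : ℚ)) : ℚ) : ℂ) = 0 := by
      have h1 : (0 : ℂ) = ((10 : ℕ) : ℂ) * (14400 / (Nat.card G : ℂ)) -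
          ((10 : ℕ) : ℂ) * (14400 / (Nat.card G : ℂ)) := by ring
      rw [h1]
      nth_rewrite 1 [← c1]
      rw [← c2, ← Finset.sum_sub_distrib, Rat.cast_sum, Finset.mul_sum]
      refine Finset.sum_congr rfl fun χ _ => ?_
      have h2 := h.hN χ
      have h3 := h.ht χ
      rw [Rat.cast_mul, Rat.cast_div, Rat.cast_pow, Rat.cast_intCast, Rat.cast_intCast, Rat.cast_intCast, ← h3,
        ← mul_assoc, ← h2]
      push_cast
      ring
    rcases mul_eq_zero.1 this with h3 | h3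
    · exact absurd h3 om_ne
    · exact_mod_cast h3

theorem dT : ∑ χ : IrrCharacter G, ((e0 χ + 2 * e1 χ + 2 * e2 χ : ℤ) : ℚ) *
      (((e0 χ + 2 * e1 χ + 2 * e2 χ : ℤ) : ℚ) ^ 2 / ((charDegree (χ : G → ℂ) : ℤ) : ℚ)) = 30 * (14400 / Nat.card G) ∧
    ∑ χ : IrrCharacter G, ((f0 χ - f1 χ : ℤ) : ℚ) *
      (((e0 χ + 2 * e1 χ + 2 * e2 χ : ℤ) : ℚ) ^ 2 / ((charDegree (χ : G → ℂ) : ℤ) : ℚ)) = 6 * (14400 / Nat.card G) := by
  have hg : (Nat.card G : ℚ) ≠ 0 := by exact_mod_cast Nat.card_pos.ne'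
  constructor
  · have h1 := H59.Cols3.class_mult h.ht h.ht h.ht
    rw [pairs_t h.L, card_cent e] at h1
    have h2 : ∑ χ : IrrCharacter G, ((e0 χ + 2 * e1 χ + 2 * e2 χ : ℤ) : ℚ) *
      (((e0 χ + 2 * e1 χ + 2 * e2 χ : ℤ) : ℚ) ^ 2 / ((charDegree (χ : G → ℂ) : ℤ) : ℚ)) =
      ∑ χ : IrrCharacter G, (((e0 χ + 2 * e1 χ + 2 * e2 χ : ℤ) : ℚ) * ((e0 χ + 2 * e1 χ + 2 * e2 χ : ℤ) : ℚ) *
        ((e0 χ + 2 * e1 χ + 2 * e2 χ : ℤ) : ℚ)) / charDegree (χ : G → ℂ) :=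
      Finset.sum_congr rfl fun χ _ => by push_cast; ring
    rw [h2, ← mul_div_assoc, eq_div_iff hg, mul_comm, ← h1]
    norm_num
  · have h1 := H59.Cols3.class_mult h.ht h.ht h.hu
    rw [pairs_u h.L, card_cent e] at h1
    have h2 : ∑ χ : IrrCharacter G, ((f0 χ - f1 χ : ℤ) : ℚ) *
      (((e0 χ + 2 * e1 χ + 2 * e2 χ : ℤ) : ℚ) ^ 2 / ((charDegree (χ : G → ℂ) : ℤ) : ℚ)) =
      ∑ χ : IrrCharacter G, (((e0 χ + 2 * e1 χ + 2 * e2 χ : ℤ) : ℚ) * ((e0 χ + 2 * e1 χ + 2 * e2 χ : ℤ) : ℚ) *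
        ((f0 χ - f1 χ : ℤ) : ℚ)) / charDegree (χ : G → ℂ) :=
      Finset.sum_congr rfl fun χ _ => by push_cast; ring
    rw [h2, ← mul_div_assoc, eq_div_iff hg, mul_comm, ← h1]
    norm_num

end Cols

end H94.J1
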