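import Mathlib
import Cfsg.Agent.Lib.H94.J1Char
import Cfsg.Agent.Lib.H94.PFix

/-! Simple groups with a 2-central involution whose centralizer is `2 × A₅` have order 175560. -/

set_option autoImplicit false
set_option linter.unusedSectionVars false
open Subgroup Cfsg
open scoped ComplexConjugate

namespace H94.J1

universe u
variable {G : Type u} [Group G] [Finite G] {t : G} {e : centralizer ({t} : Set G) ≃* MP}

/-- fixed space dimensions of subgroups of the model -/
theorem exists_dims (e : centralizer ({t} : Set G) ≃* MP) (χ : IrrCharacter G) : ∃ d : Subgroup MP → ℕ,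
    (∀ D : Subgroup MP, ∀ [Fintype D], ∑ q : D, (χ : G → ℂ) (emb e q) = (Nat.card D : ℂ) * d D) ∧
    (∀ D E : Subgroup MP, D ≤ E → d E ≤ d D) := by
  obtain ⟨n, ρ, hρ, h⟩ := χ.2
  refine ⟨fun D => Module.finrank ℂ (PFix.fix (ρ.comp (emb e)) D), fun D _ => ?_, fun D E hDE => ?_⟩
  · rw [← PFix.card_mul_finrank (ρ.comp (emb e)) D]
    exact Finset.sum_congr rfl fun q _ => by rw [← h]; rfl
  · exact Submodule.finrank_mono (PFix.fix_anti _ hDE)

instance : DecidablePred (· ∈ HE) := fun q => inferInstanceAs (Decidable (q.2.1 4 = 4 ∧ q * q = 1))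
instance : DecidablePred (· ∈ HA) := fun q => inferInstanceAs (Decidable (q.2.1 4 = 4))

theorem card_HE : Nat.card HE = 8 := by
  rw [Nat.card_eq_fintype_card, Fintype.card_subtype]
  have : (Finset.univ.filter fun q : MP => q ∈ HE) =
      insert 1 (Finset.univ.filter fun q : MP => (q.2.1 4 = 4 ∧ q * q = 1) ∧ q ≠ 1) := by
    ext q
    simp only [Finset.mem_filter, Finset.mem_univ, true_and, Finset.mem_insert]
    constructor
    · intro h
      by_cases h1 : q = 1
      · exact Or.inl h1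
      · exact Or.inr ⟨h, h1⟩
    · rintro (rfl | h)
      · exact HE.one_mem
      · exact h.1
  rw [this, Finset.card_insert_of_notMem (by simp), HE_card]

theorem emb_inv_conj (L : Loc t e) {q : MP} (h : q * q = 1) (h1 : q ≠ 1) : IsConj t (emb e q) :=
  L.conj _ ((emb_order e).2 ⟨h, h1⟩)

theorem sum_HE (L : Loc t e) (χ : IrrCharacter G) : ∑ q : HE, (χ : G → ℂ) (emb e q) =
    (χ : G → ℂ) 1 + 7 * (χ : G → ℂ) t := by
  have h1 : ∑ q : HE, (χ : G → ℂ) (emb e q) =
      ∑ q ∈ Finset.univ.filter (fun q : MP => q ∈ HE), (χ : G → ℂ) (emb e q) := by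
    rw [← Finset.sum_subtype (Finset.univ.filter fun q : MP => q ∈ HE) (by simp) (fun q => (χ : G → ℂ) (emb e q))]
  have h2 : (Finset.univ.filter fun q : MP => q ∈ HE) =
      insert 1 (Finset.univ.filter fun q : MP => (q.2.1 4 = 4 ∧ q * q = 1) ∧ q ≠ 1) := by
    ext q
    simp only [Finset.mem_filter, Finset.mem_univ, true_and, Finset.mem_insert]
    constructor
    · intro h
      by_cases h1 : q = 1
      · exact Or.inl h1
      · exact Or.inr ⟨h, h1⟩
    · rintro (rfl | h)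
      · exact HE.one_mem
      · exact h.1
  rw [h1, h2, Finset.sum_insert (by simp), map_one]
  congr 1
  rw [Finset.sum_congr rfl (g := fun _ => (χ : G → ℂ) t), Finset.sum_const, HE_card, nsmul_eq_mul]
  · norm_num
  · intro q hq
    rw [Finset.mem_filter] at hq
    exact (cf (emb_inv_conj L hq.2.1.2 hq.2.2)).symm

theorem sum_fib (s : Finset MP) (f : MP → ℂ) (F : Fin 6 → ℂ) (h : ∀ q ∈ s, f q = F (ci q)) :
    ∑ q ∈ s, f q = ∑ i, ((s.filter fun q => ci q = i).card : ℂ) * F i := by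
  rw [← Finset.sum_fiberwise s ci f]
  refine Finset.sum_congr rfl fun i _ => ?_
  rw [Finset.sum_congr rfl (g := fun _ => F i), Finset.sum_const, nsmul_eq_mul]
  intro q hq
  rw [Finset.mem_filter] at hq
  rw [h q hq.1, hq.2]

/-- class values through `ci` -/
theorem val_ci (L : Loc t e) (χ : IrrCharacter G) {A C : ℂ} (h1 : (χ : G → ℂ) (emb e v0) = A)
    (h2 : (χ : G → ℂ) (emb e (v0 * v0)) = A) (h3 : (χ : G → ℂ) (emb e (z0 * v0)) = C)
    (h4 : (χ : G → ℂ) (emb e (z0 * (v0 * v0))) = C) (q : MP) :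
    (χ : G → ℂ) (emb e q) = ![(χ : G → ℂ) 1, (χ : G → ℂ) t, (χ : G → ℂ) (emb e u0),
      (χ : G → ℂ) (emb e (z0 * u0)), A, C] (ci q) := by
  have key : ∀ i : Fin 6, ci q = i → (χ : G → ℂ) (emb e q) = ![(χ : G → ℂ) 1, (χ : G → ℂ) t,
      (χ : G → ℂ) (emb e u0), (χ : G → ℂ) (emb e (z0 * u0)), A, C] i := by
    intro i hi
    fin_cases i
    · rw [ci0 q hi, map_one]; rfl
    · obtain ⟨a, b⟩ := ci1 q hi
      exact (cf (emb_inv_conj L a b)).symm
    · exact cfe ((cls3 q).2 (ci2 q hi))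
    · exact cfe ((cls6 q).2 (ci3 q hi))
    · rcases (cls5 q).2 (ci4 q hi) with h | h
      · exact (cfe h).trans h1
      · exact (cfe h).trans h2
    · rcases (cls10 q).2 (ci5 q hi) with h | h
      · exact (cfe h).trans h3
      · exact (cfe h).trans h4
  exact key _ rfl

/-- the case of order 189000 -/
theorem elim (L : Loc t e) (χ : IrrCharacter G) (hn : (χ : G → ℂ) 1 = 35) (ht : (χ : G → ℂ) t = -5)
    (hv : (χ : G → ℂ) (emb e (z0 * v0)) = 0)
    (hv2 : (χ : G → ℂ) (emb e (z0 * (v0 * v0))) = 0)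
    (hg : (χ : G → ℂ) (emb e v0) = (χ : G → ℂ) (emb e (v0 * v0))) : False := by
  obtain ⟨d, hd, hmono⟩ := exists_dims e χ
  have h0 : d HE = 0 := by
    have h1 := hd HE
    rw [sum_HE L χ, hn, ht, card_HE] at h1
    have : (8 : ℂ) * (d HE : ℂ) = 0 := by rw [← Nat.cast_ofNat (R := ℂ), ← h1]; norm_num
    rcases mul_eq_zero.1 this with h2 | h2
    · norm_num at h2
    · exact_mod_cast h2
  have hA : d HA = 0 := Nat.le_zero.1 (h0 ▸ hmono HE HA HE_le)
  have hT : d ⊤ = 0 := Nat.le_zero.1 (h0 ▸ hmono HE ⊤ le_top)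
  have hval := val_ci L χ (A := (χ : G → ℂ) (emb e v0)) (C := 0) rfl hg.symm hv hv2
  have sA := hd HA
  rw [hA, Nat.cast_zero, mul_zero] at sA
  have sA' : ∑ q : HA, (χ : G → ℂ) (emb e q) =
      ∑ q ∈ Finset.univ.filter (fun q : MP => q ∈ HA), (χ : G → ℂ) (emb e q) := by
    rw [← Finset.sum_subtype (Finset.univ.filter fun q : MP => q ∈ HA) (by simp) (fun q => (χ : G → ℂ) (emb e q))]
  rw [sA', sum_fib _ _ _ (fun q _ => hval q)] at sA
  have cA : ∀ i : Fin 6, ((Finset.univ.filter fun q : MP => q ∈ HA).filter fun q => ci q = i).card =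
      ![1, 7, 8, 8, 0, 0] i := by
    intro i
    rw [← HA_card i, Finset.filter_filter]
    rfl
  let _ : Fintype (⊤ : Subgroup MP) := Fintype.ofFinite _
  have sT := hd ⊤
  rw [hT, Nat.cast_zero, mul_zero] at sT
  have sT' : ∑ q : (⊤ : Subgroup MP), (χ : G → ℂ) (emb e q) = ∑ q : MP, (χ : G → ℂ) (emb e q) := by
    exact Fintype.sum_equiv (Subgroup.topEquiv (G := MP)).toEquiv _ _ (fun q => rfl)
  rw [sT', sum_fib _ _ _ (fun q _ => hval q)] at sT
  simp only [cA, Fin.sum_univ_six] at sA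
  simp only [ci_card, Fin.sum_univ_six] at sT
  simp [hn, ht] at sA sT
  obtain ⟨m, m', a1, a2⟩ := five_data L χ eta_pow
  have e3 : eta + eta ^ 4 = om := rfl
  have e4 : eta ^ 2 + eta ^ 3 = om' := rfl
  rw [e3, e4, hv, hv2, ht] at a2
  rw [e3, e4, ← hg, hn] at a1
  have hA5 : (χ : G → ℂ) (emb e v0) = 5 := by linear_combination (1/24 : ℂ) * sT - (20/192 : ℂ) * sA
  rw [hA5] at a1
  have b1 : (m : ℂ) + m' = 6 := by linear_combination (-1/5 : ℂ) * a1 + om_add
  have b2 : (m : ℂ) - m' = -1 := by linear_combination (-1/5 : ℂ) * a2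
  have b3 : (2 : ℂ) * m = 5 := by linear_combination b1 + b2
  have b4 : 2 * m = 5 := by exact_mod_cast b3
  omega

end H94.J1
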