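import Mathlib
import Cfsg.Agent.Lib.H94.J1Fin

/-! Simple groups with a 2-central involution whose centralizer is `2 × A₅` have order 175560. -/

set_option autoImplicit false
set_option linter.unusedSectionVars false
open Subgroup Cfsg H94.M11
open scoped ComplexConjugate

namespace H94.J1

universe u
variable {G : Type u} [Group G] [Finite G] {t : G} {e : centralizer ({t} : Set G) ≃* MP}

theorem not_comm' (e : centralizer ({t} : Set G) ≃* MP) : ¬ IsMulCommutative G := by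
  intro h
  have h1 : emb e u0 * emb e s0 = emb e s0 * emb e u0 := h.is_comm.comm _ _
  rw [← map_mul, ← map_mul] at h1
  exact absurd (emb_inj e h1) (by decide +kernel)

/-- the exponent for the Galois automorphism -/
theorem exists_k {n : ℕ} (hn : n ≠ 0) (h10 : 10 ∣ n) : ∃ k : ℕ, Nat.Coprime k n ∧ k % 10 = 7 := by
  have : NeZero n := ⟨hn⟩
  obtain ⟨u, hu⟩ := ZMod.unitsMap_surjective h10 (ZMod.unitOfCoprime 7 (by norm_num : Nat.Coprime 7 10))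
  refine ⟨(u : ZMod n).val, ZMod.val_coe_unit_coprime u, ?_⟩
  have h1 : (((u : ZMod n).val : ℕ) : ZMod 10) = (7 : ℕ) := by
    have h2 := congrArg (fun v : (ZMod 10)ˣ => (v : ZMod 10)) hu
    simp only [ZMod.unitsMap_val, ZMod.coe_unitOfCoprime] at h2
    rw [← h2]
    exact ZMod.natCast_val _
  exact (ZMod.natCast_eq_natCast_iff _ _ _).1 h1

theorem pow_mod_of {q : MP} {n : ℕ} (h : q ^ n = 1) (k : ℕ) : q ^ k = q ^ (k % n) := by
  conv_lhs => rw [← Nat.div_add_mod k n, pow_add, pow_mul, h, one_pow, one_mul]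

theorem k7' : s1 * (z0 * v0) * s1⁻¹ = (z0 * (v0 * v0)) ^ 7 := by decide +kernel
theorem k10' : (z0 * (v0 * v0)) ^ 10 = 1 := by decide +kernel

section gal
variable {k : ℕ} (hk : Nat.Coprime k (Nat.card G)) (hk7 : k % 10 = 7)

theorem gal_val (χ : IrrCharacter G) (q : MP) : (H78.Galois.powIrr hk χ : G → ℂ) (emb e q) =
    (χ : G → ℂ) (emb e (q ^ k)) := by
  rw [H78.Galois.powIrr_apply, map_pow]

include hk7

theorem gal_t (L : Loc t e) (χ : IrrCharacter G) : (H78.Galois.powIrr hk χ : G → ℂ) t = (χ : G → ℂ) t := by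
  have h1 := gal_val (e := e) hk χ z0
  rw [pow_mod_of (n := 2) (by rw [pow_two]; exact z0_sq) k, show k % 2 = 1 by omega, pow_one, emb_z0 e L.ht] at h1
  exact h1

theorem gal_v (χ : IrrCharacter G) : (H78.Galois.powIrr hk χ : G → ℂ) (emb e (z0 * v0)) =
    (χ : G → ℂ) (emb e (z0 * (v0 * v0))) := by
  rw [gal_val, pow_mod_of k10 k, hk7, k7]

theorem gal_v2 (χ : IrrCharacter G) : (H78.Galois.powIrr hk χ : G → ℂ) (emb e (z0 * (v0 * v0))) =
    (χ : G → ℂ) (emb e (z0 * v0)) := by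
  rw [gal_val, pow_mod_of k10' k, hk7, cfe ⟨s1, k7'⟩]

theorem gal_a (χ : IrrCharacter G) : (H78.Galois.powIrr hk χ : G → ℂ) (emb e v0) =
    (χ : G → ℂ) (emb e (v0 * v0)) := by
  rw [gal_val, pow_mod_of v0_pow k, show k % 5 = 2 by omega, pow_two]

theorem gal_u (h6 : 6 ∣ Nat.card G) (χ : IrrCharacter G) : (H78.Galois.powIrr hk χ : G → ℂ) (emb e (z0 * u0)) =
    (χ : G → ℂ) (emb e (z0 * u0)) := by
  have h3 : Nat.Coprime k 3 := hk.coprime_dvd_right ((by norm_num : 3 ∣ 6).trans h6)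
  have h3' : k % 3 ≠ 0 := by
    intro h
    have := Nat.dvd_gcd (Nat.dvd_of_mod_eq_zero h) (dvd_refl 3)
    rw [h3] at this
    norm_num at this
  have : k % 6 = 1 ∨ k % 6 = 5 := by omega
  rw [gal_val, pow_mod_of j6 k]
  rcases this with h | h <;> rw [h]
  · rw [pow_one]
  · rw [cfe ⟨s0, j5⟩]

end gal

namespace Cols
variable {e0 e1 e2 f0 f1 : IrrCharacter G → ℤ} (h : Cols e e0 e1 e2 f0 f1)
include h

/-- values on a character with prescribed values -/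
theorem eq_of {χ ψ : IrrCharacter G} (ht : (χ : G → ℂ) t = (ψ : G → ℂ) t)
    (hu : (χ : G → ℂ) (emb e (z0 * u0)) = (ψ : G → ℂ) (emb e (z0 * u0)))
    (hv : (χ : G → ℂ) (emb e (z0 * v0)) = (ψ : G → ℂ) (emb e (z0 * (v0 * v0))))
    (hv2 : (χ : G → ℂ) (emb e (z0 * (v0 * v0))) = (ψ : G → ℂ) (emb e (z0 * v0))) :
    e0 χ = e0 ψ ∧ e1 χ = e2 ψ ∧ e2 χ = e1 ψ ∧ f1 χ = f1 ψ := by
  have a1 := h.ht χ
  rw [ht, h.ht ψ] at a1
  have a1' : e0 ψ + 2 * e1 ψ + 2 * e2 ψ = e0 χ + 2 * e1 χ + 2 * e2 χ := by exact_mod_cast a1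
  have a2 := h.hu χ
  rw [hu, h.hu ψ] at a2
  have a2' : f0 ψ - f1 ψ = f0 χ - f1 χ := by exact_mod_cast a2
  have a3 := h.hW χ
  rw [hv, hv2, add_comm, h.hW ψ] at a3
  have a3' : 2 * e0 ψ - e1 ψ - e2 ψ = 2 * e0 χ - e1 χ - e2 χ := by exact_mod_cast a3
  have a4 := h.hN χ
  rw [hv, hv2, ← neg_sub, h.hN ψ] at a4
  have a4' : ((e1 χ - e2 χ : ℤ) : ℂ) = ((-(e1 ψ - e2 ψ) : ℤ) : ℂ) := by
    apply mul_left_cancel₀ om_ne
    rw [← a4]; push_cast; ring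
  have a5 : e1 χ - e2 χ = -(e1 ψ - e2 ψ) := by exact_mod_cast a4'
  have b1 := h.ht' χ
  have b2 := h.ht' ψ
  omega

theorem triv_vals : e0 (triv G) = 1 ∧ e1 (triv G) = 0 ∧ e2 (triv G) = 0 ∧ f1 (triv G) = 0 := by
  have a1 := h.ht (triv G)
  rw [triv_apply] at a1
  have a1' : 1 = e0 (triv G) + 2 * e1 (triv G) + 2 * e2 (triv G) := by exact_mod_cast a1
  have a2 := h.hu (triv G)
  rw [triv_apply] at a2
  have a2' : 1 = f0 (triv G) - f1 (triv G) := by exact_mod_cast a2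
  have a3 := h.hW (triv G)
  rw [triv_apply, triv_apply] at a3
  have a3' : 1 + 1 = 2 * e0 (triv G) - e1 (triv G) - e2 (triv G) := by exact_mod_cast a3
  have a4 := h.hN (triv G)
  rw [triv_apply, triv_apply, sub_self] at a4
  have a4' : e1 (triv G) - e2 (triv G) = 0 := by
    rcases mul_eq_zero.1 a4.symm with h3 | h3
    · exact absurd h3 om_ne
    · exact_mod_cast h3
  have b1 := h.ht' (triv G)
  omega

variable [Fintype (IrrCharacter G)]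

/-- Gram matrix in terms of the basis `T, U, W, N` -/
theorem gram {α β : ℤ} {f g : IrrCharacter G → ℤ} {x1 x2 x3 x4 y1 y2 y3 y4 : ℤ}
    (hf : ∀ χ, α * f χ = x1 * (e0 χ + 2 * e1 χ + 2 * e2 χ) + x2 * (f0 χ - f1 χ) + x3 * (2 * e0 χ - e1 χ - e2 χ) +
      x4 * (e1 χ - e2 χ))
    (hg : ∀ χ, β * g χ = y1 * (e0 χ + 2 * e1 χ + 2 * e2 χ) + y2 * (f0 χ - f1 χ) + y3 * (2 * e0 χ - e1 χ - e2 χ) +
      y4 * (e1 χ - e2 χ)) :
    α * β * ∑ χ, f χ * g χ = 120 * (x1 * y1) + 6 * (x2 * y2) + 20 * (x3 * y3) + 4 * (x4 * y4) := by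
  obtain ⟨ww, nn, wn⟩ := h.vv
  obtain ⟨tw, tn⟩ := h.aw h.ht (nc_t_v h.L) (nc_t_v2 h.L)
  obtain ⟨uw, un⟩ := h.aw h.hu nc_u_v nc_u_v2
  have e : α * β * ∑ χ, f χ * g χ =
      x1 * y1 * ∑ χ, (e0 χ + 2 * e1 χ + 2 * e2 χ) ^ 2 + x2 * y2 * ∑ χ, (f0 χ - f1 χ) ^ 2 +
      x3 * y3 * ∑ χ, (2 * e0 χ - e1 χ - e2 χ) ^ 2 + x4 * y4 * ∑ χ, (e1 χ - e2 χ) ^ 2 +
      (x1 * y2 + x2 * y1) * ∑ χ, (e0 χ + 2 * e1 χ + 2 * e2 χ) * (f0 χ - f1 χ) +
      (x1 * y3 + x3 * y1) * ∑ χ, (e0 χ + 2 * e1 χ + 2 * e2 χ) * (2 * e0 χ - e1 χ - e2 χ) +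
      (x1 * y4 + x4 * y1) * ∑ χ, (e0 χ + 2 * e1 χ + 2 * e2 χ) * (e1 χ - e2 χ) +
      (x2 * y3 + x3 * y2) * ∑ χ, (f0 χ - f1 χ) * (2 * e0 χ - e1 χ - e2 χ) +
      (x2 * y4 + x4 * y2) * ∑ χ, (f0 χ - f1 χ) * (e1 χ - e2 χ) +
      (x3 * y4 + x4 * y3) * ∑ χ, (2 * e0 χ - e1 χ - e2 χ) * (e1 χ - e2 χ) := by
    simp only [Finset.mul_sum, ← Finset.sum_add_distrib]
    refine Finset.sum_congr rfl fun χ _ => ?_
    have : α * β * (f χ * g χ) = (α * f χ) * (β * g χ) := by ring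
    rw [this, hf χ, hg χ]
    ring
  rw [e, h.tt, h.uu', ww, nn, h.tu, tw, tn, uw, un, wn]
  ring

/-- orthogonality to the degrees -/
theorem lin {α : ℤ} {f : IrrCharacter G → ℤ} {x1 x2 x3 x4 : ℤ} (hα : α ≠ 0)
    (hf : ∀ χ, α * f χ = x1 * (e0 χ + 2 * e1 χ + 2 * e2 χ) + x2 * (f0 χ - f1 χ) + x3 * (2 * e0 χ - e1 χ - e2 χ) +
      x4 * (e1 χ - e2 χ)) :
    ∑ χ : IrrCharacter G, f χ * (charDegree (χ : G → ℂ) : ℤ) = 0 := by
  have ht1 : t ≠ 1 := (sq_one_iff.2 h.L.ht).2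
  have hu1 : emb e (z0 * u0) ≠ 1 := fun hh => absurd (emb_inj e (hh.trans (map_one _).symm)) (by decide +kernel)
  have hv1 : emb e (z0 * v0) ≠ 1 := fun hh => absurd (emb_inj e (hh.trans (map_one _).symm)) (by decide +kernel)
  have hv21 : emb e (z0 * (v0 * v0)) ≠ 1 := fun hh =>
    absurd (emb_inj e (hh.trans (map_one _).symm)) (by decide +kernel)
  have c1 := H59.Cols3.orth_one h.ht ht1
  have c2 := H59.Cols3.orth_one h.hu hu1
  obtain ⟨c3, c4⟩ := h.aw (a := 1) (va := fun χ => (charDegree (χ : G → ℂ) : ℤ))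
    (fun χ => by rw [← H82.Deg.coe_charDegree' χ]; simp)
    (fun hh => hv1 (isConj_one_right.1 hh)) (fun hh => hv21 (isConj_one_right.1 hh))
  have e : α * ∑ χ : IrrCharacter G, f χ * (charDegree (χ : G → ℂ) : ℤ) =
      x1 * ∑ χ : IrrCharacter G, (e0 χ + 2 * e1 χ + 2 * e2 χ) * (charDegree (χ : G → ℂ) : ℤ) +
      x2 * ∑ χ : IrrCharacter G, (f0 χ - f1 χ) * (charDegree (χ : G → ℂ) : ℤ) +
      x3 * ∑ χ : IrrCharacter G, (charDegree (χ : G → ℂ) : ℤ) * (2 * e0 χ - e1 χ - e2 χ) +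
      x4 * ∑ χ : IrrCharacter G, (charDegree (χ : G → ℂ) : ℤ) * (e1 χ - e2 χ) := by
    simp only [Finset.mul_sum, ← Finset.sum_add_distrib]
    refine Finset.sum_congr rfl fun χ _ => ?_
    rw [← mul_assoc, hf χ]
    ring
  rw [c1, c2, c3, c4] at e
  have : α * ∑ χ : IrrCharacter G, f χ * (charDegree (χ : G → ℂ) : ℤ) = 0 := by rw [e]; ring
  exact (mul_eq_zero.1 this).resolve_left hα

/-- structure constant sums -/
theorem dsum {α : ℤ} {f : IrrCharacter G → ℤ} {x1 x2 x3 x4 : ℤ}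
    (hf : ∀ χ, α * f χ = x1 * (e0 χ + 2 * e1 χ + 2 * e2 χ) + x2 * (f0 χ - f1 χ) + x3 * (2 * e0 χ - e1 χ - e2 χ) +
      x4 * (e1 χ - e2 χ)) :
    (α : ℚ) * ∑ χ : IrrCharacter G, (f χ : ℚ) *
      (((e0 χ + 2 * e1 χ + 2 * e2 χ : ℤ) : ℚ) ^ 2 / ((charDegree (χ : G → ℂ) : ℤ) : ℚ)) =
      (30 * x1 + 6 * x2 + 20 * x3) * (14400 / Nat.card G) := by
  obtain ⟨c3, c4⟩ := h.dW
  obtain ⟨c1, c2⟩ := h.dT
  have e : (α : ℚ) * ∑ χ : IrrCharacter G, (f χ : ℚ) *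
      (((e0 χ + 2 * e1 χ + 2 * e2 χ : ℤ) : ℚ) ^ 2 / ((charDegree (χ : G → ℂ) : ℤ) : ℚ)) =
      x1 * ∑ χ : IrrCharacter G, ((e0 χ + 2 * e1 χ + 2 * e2 χ : ℤ) : ℚ) *
      (((e0 χ + 2 * e1 χ + 2 * e2 χ : ℤ) : ℚ) ^ 2 / ((charDegree (χ : G → ℂ) : ℤ) : ℚ)) +
      x2 * ∑ χ : IrrCharacter G, ((f0 χ - f1 χ : ℤ) : ℚ) *
      (((e0 χ + 2 * e1 χ + 2 * e2 χ : ℤ) : ℚ) ^ 2 / ((charDegree (χ : G → ℂ) : ℤ) : ℚ)) +
      x3 * ∑ χ : IrrCharacter G, ((2 * e0 χ - e1 χ - e2 χ : ℤ) : ℚ) *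
      (((e0 χ + 2 * e1 χ + 2 * e2 χ : ℤ) : ℚ) ^ 2 / ((charDegree (χ : G → ℂ) : ℤ) : ℚ)) +
      x4 * ∑ χ : IrrCharacter G, ((e1 χ - e2 χ : ℤ) : ℚ) *
      (((e0 χ + 2 * e1 χ + 2 * e2 χ : ℤ) : ℚ) ^ 2 / ((charDegree (χ : G → ℂ) : ℤ) : ℚ)) := by
    simp only [Finset.mul_sum, ← Finset.sum_add_distrib]
    refine Finset.sum_congr rfl fun χ _ => ?_
    have h1 : (α : ℚ) * (f χ : ℚ) = ((x1 * (e0 χ + 2 * e1 χ + 2 * e2 χ) + x2 * (f0 χ - f1 χ) +
      x3 * (2 * e0 χ - e1 χ - e2 χ) + x4 * (e1 χ - e2 χ) : ℤ) : ℚ) := by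
      rw [← hf χ]; push_cast; ring
    rw [← mul_assoc, h1, Int.cast_add, Int.cast_add, Int.cast_add, Int.cast_mul, Int.cast_mul, Int.cast_mul,
      Int.cast_mul]
    ring
  rw [e, c1, c2, c3, c4]
  ring

end Cols

variable [IsSimpleGroup G] [Fintype (IrrCharacter G)]

/-- the bound from the kernel -/
theorem val_lt (L : Loc t e) {χ : IrrCharacter G} (hχ : χ ≠ triv G) {T : ℤ} (hT : (χ : G → ℂ) t = T) :
    T < (charDegree (χ : G → ℂ) : ℤ) := by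
  have h1 := sq_le χ hT
  have h2 : T ≠ (charDegree (χ : G → ℂ) : ℤ) := by
    intro h
    apply val_ne (not_comm' e) hχ (sq_one_iff.2 L.ht).2
    rw [hT, h, ← H82.Deg.coe_charDegree' χ]
    simp
  have h3 : (0 : ℤ) ≤ (charDegree (χ : G → ℂ) : ℤ) := Int.natCast_nonneg _
  have h4 : T ≤ (charDegree (χ : G → ℂ) : ℤ) := (abs_le_of_sq_le_sq' h1 h3).2
  omega

omit [IsSimpleGroup G] [Fintype (IrrCharacter G)] in
theorem val_E8 (L : Loc t e) (χ : IrrCharacter G) {T : ℤ} (hT : (χ : G → ℂ) t = T) :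
    ∃ m : ℕ, (charDegree (χ : G → ℂ) : ℤ) + 7 * T = 8 * m := by
  obtain ⟨d, hd, -⟩ := exists_dims e χ
  have h1 := hd HE
  rw [sum_HE L χ, card_HE, hT, ← H82.Deg.coe_charDegree' χ] at h1
  exact ⟨d HE, by exact_mod_cast h1⟩

omit [IsSimpleGroup G] in
theorem deg_sq_le (χ : IrrCharacter G) : (charDegree (χ : G → ℂ) : ℤ) ^ 2 ≤ (Nat.card G : ℤ) := by
  have h0 : ∀ χ : IrrCharacter G, (χ : G → ℂ) 1 = ((charDegree (χ : G → ℂ) : ℤ) : ℂ) := fun χ => by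
    rw [← H82.Deg.coe_charDegree' χ, Int.cast_natCast]
  have h1 := H59.Cols3.orth_self h0
  have h2 : Nat.card (centralizer ({(1 : G)} : Set G)) = Nat.card G := by
    have : centralizer ({(1 : G)} : Set G) = ⊤ := by
      rw [eq_top_iff]; intro g _; rw [mem_centralizer_singleton_iff]; simp
    rw [this, Subgroup.card_top]
  rw [h2] at h1
  rw [← h1]
  exact Finset.single_le_sum (f := fun χ : IrrCharacter G => (charDegree (χ : G → ℂ) : ℤ) ^ 2)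
    (fun i _ => sq_nonneg _) (Finset.mem_univ χ)

theorem lat {e0 e1 e2 f0 f1 : IrrCharacter G → ℤ} (h : Cols e e0 e1 e2 f0 f1) {k : ℕ}
    (hk : Nat.Coprime k (Nat.card G)) (hk7 : k % 10 = 7) (h6 : 6 ∣ Nat.card G) [DecidableEq (IrrCharacter G)] :
    Lat (triv G) (fun χ : IrrCharacter G => (charDegree (χ : G → ℂ) : ℤ))
      (fun χ => e0 χ + 2 * e1 χ + 2 * e2 χ) (fun χ => 2 * f1 χ - e0 χ - e1 χ - e2 χ)
      (fun χ => f1 χ - e2 χ) (fun χ => f1 χ - e1 χ) (fun χ => e1 χ + e2 χ - f1 χ) (Nat.card G)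
      (H78.Galois.powIrr hk) := by
  have gb : ∀ χ, 15 * (2 * f1 χ - e0 χ - e1 χ - e2 χ) = 1 * (e0 χ + 2 * e1 χ + 2 * e2 χ) + (-10) * (f0 χ - f1 χ) +
      (-3) * (2 * e0 χ - e1 χ - e2 χ) + 0 * (e1 χ - e2 χ) := fun χ => by have := h.ht' χ; linarith
  have g2 : ∀ χ, 30 * (f1 χ - e2 χ) = 4 * (e0 χ + 2 * e1 χ + 2 * e2 χ) + (-10) * (f0 χ - f1 χ) +
      3 * (2 * e0 χ - e1 χ - e2 χ) + 15 * (e1 χ - e2 χ) := fun χ => by have := h.ht' χ; linarith
  have g3 : ∀ χ, 30 * (f1 χ - e1 χ) = 4 * (e0 χ + 2 * e1 χ + 2 * e2 χ) + (-10) * (f0 χ - f1 χ) +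
      3 * (2 * e0 χ - e1 χ - e2 χ) + (-15) * (e1 χ - e2 χ) := fun χ => by have := h.ht' χ; linarith
  have g4 : ∀ χ, 15 * (e1 χ + e2 χ - f1 χ) = 1 * (e0 χ + 2 * e1 χ + 2 * e2 χ) + 5 * (f0 χ - f1 χ) +
      (-3) * (2 * e0 χ - e1 χ - e2 χ) + 0 * (e1 χ - e2 χ) := fun χ => by have := h.ht' χ; linarith
  obtain ⟨t0, t1, t2, t3⟩ := h.triv_vals
  have gal := fun χ => h.eq_of (gal_t hk hk7 h.L χ) (gal_u hk hk7 h6 χ) (gal_v hk hk7 χ) (gal_v2 hk hk7 χ)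
  have E8 := fun χ : IrrCharacter G => val_E8 h.L χ (h.ht χ)
  constructor
  · intro χ; ring
  · have := h.gram gb gb; simp only [← pow_two] at this; linarith
  · have := h.gram g2 g2; simp only [← pow_two] at this; linarith
  · have := h.gram g3 g3; simp only [← pow_two] at this; linarith
  · have := h.gram g4 g4; simp only [← pow_two] at this; linarith
  · have := h.gram gb g2; linarith
  · have := h.gram gb g3; linarith
  · have := h.gram gb g4; linarith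
  · have := h.gram g2 g3; linarith
  · have := h.gram g2 g4; linarith
  · have := h.gram g3 g4; linarith
  · simp only [t0, t1, t2, t3]; norm_num
  · simp only [t2, t3]; norm_num
  · simp only [t1, t3]; norm_num
  · rw [triv_deg]; norm_num
  · intro χ
    have := H82.Deg.charDegree_pos χ
    exact_mod_cast this
  · exact h.lin (by norm_num) gb
  · exact h.lin (by norm_num) g2
  · exact h.lin (by norm_num) g3
  · exact h.lin (by norm_num) g4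
  · have := h.dsum gb; push_cast at this ⊢; linarith
  · have := h.dsum g2; push_cast at this ⊢; linarith
  · have := h.dsum g4; push_cast at this ⊢; linarith
  · intro χ
    obtain ⟨m, hm⟩ := E8 χ
    omega
  · intro χ hχ
    exact val_lt h.L hχ (h.ht χ)
  · intro χ
    obtain ⟨m, hm⟩ := E8 χ
    omega
  · exact deg_sq_le
  · exact Nat.card_pos
  · intro χ
    have h1 : (H78.Galois.powIrr hk χ : G → ℂ) 1 = (χ : G → ℂ) 1 := by
      rw [H78.Galois.powIrr_apply, one_pow]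
    rw [← H82.Deg.coe_charDegree' χ, ← H82.Deg.coe_charDegree' (H78.Galois.powIrr hk χ)] at h1
    exact_mod_cast h1
  · intro χ
    obtain ⟨a, b, c, d⟩ := gal χ
    simp only [a, b, c, d]; ring
  · intro χ
    obtain ⟨a, b, c, d⟩ := gal χ
    simp only [c, d]
  · intro χ
    obtain ⟨a, b, c, d⟩ := gal χ
    simp only [b, d]

theorem order_eq (L : Loc t e) : Nat.card G = 175560 := by
  classical
  have h120 : 120 ∣ Nat.card G := by
    rw [← card_cent e]; exact Subgroup.card_subgroup_dvd_card _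
  obtain ⟨e0, e1, e2, f0, f1, h⟩ := exists_Cols L
  obtain ⟨k, hk, hk7⟩ := exists_k (n := Nat.card G) Nat.card_pos.ne' ((by norm_num : 10 ∣ 120).trans h120)
  rcases (lat h hk hk7 ((by norm_num : 6 ∣ 120).trans h120)).concl with h1 | ⟨h1, χ, c1, c2, c3, c4, c5, c6⟩
  · exact h1
  · exfalso
    change (charDegree (χ : G → ℂ) : ℤ) = 35 at c2
    change 2 * f1 χ - e0 χ - e1 χ - e2 χ = -1 at c3
    change f1 χ - e2 χ = -1 at c4
    change f1 χ - e1 χ = -1 at c5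
    change e1 χ + e2 χ - f1 χ = 0 at c6
    have hn : (χ : G → ℂ) 1 = 35 := by
      rw [← H82.Deg.coe_charDegree' χ]; exact_mod_cast c2
    have ht' := h.ht' χ
    have E0 : e0 χ = -1 := by omega
    have E1 : e1 χ = -1 := by omega
    have E2 : e2 χ = -1 := by omega
    have ht : (χ : G → ℂ) t = -5 := by rw [h.ht, E0, E1, E2]; norm_num
    have hv : (χ : G → ℂ) (emb e (z0 * v0)) = 0 := by
      rw [h.hv, E0, E1, E2]; push_cast; linear_combination -om_add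
    have hv2 : (χ : G → ℂ) (emb e (z0 * (v0 * v0))) = 0 := by
      rw [h.hv2, E0, E1, E2]; push_cast; linear_combination -om_add
    refine elim L χ hn ht hv hv2 ?_
    have := gal_a (e := e) hk hk7 χ
    rw [c1] at this
    exact this

end H94.J1
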