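import Mathlib

/-!
# S2987, piece SLB: offenders on the natural module of `SL(2,F)`
-/

set_option autoImplicit false
set_option linter.all false

namespace H94.BZ

open scoped MatrixGroups

/-- the shape of the semilinearity lemma -/
def Sls (F : Type*) [Field F] : Prop :=
  ∀ x : (Fin 2 → F) ≃+ (Fin 2 → F),
    (∀ g : SL(2, F), ∃ g' : SL(2, F), ∀ v, x ((g : Matrix (Fin 2) (Fin 2) F).mulVec v) =
      (g' : Matrix (Fin 2) (Fin 2) F).mulVec (x v)) →
    ∃ σ : F ≃+* F, ∀ (l : F) v, x (l • v) = σ l • x v

/-! ### the semilinearity lemma -/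

section sls

variable {F : Type*} [Field F]

/-- upper unipotent -/
def up (t : F) : SL(2, F) := ⟨!![1, t; 0, 1], by simp [Matrix.det_fin_two]⟩
/-- lower unipotent -/
def lo (t : F) : SL(2, F) := ⟨!![1, 0; t, 1], by simp [Matrix.det_fin_two]⟩

theorem up_mulVec (t : F) (v : Fin 2 → F) :
    ((up t : SL(2, F)) : Matrix (Fin 2) (Fin 2) F).mulVec v = ![v 0 + t * v 1, v 1] := by
  ext i
  fin_cases i <;> simp [up, Matrix.mulVec, dotProduct, Fin.sum_univ_two]

theorem lo_mulVec (t : F) (v : Fin 2 → F) :
    ((lo t : SL(2, F)) : Matrix (Fin 2) (Fin 2) F).mulVec v = ![v 0, t * v 0 + v 1] := by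
  ext i
  fin_cases i <;> simp [lo, Matrix.mulVec, dotProduct, Fin.sum_univ_two]

theorem comm_scalar (y : (Fin 2 → F) → (Fin 2 → F)) (hy : ∀ v w, y (v + w) = y v + y w)
    (hc : ∀ (g : SL(2, F)) v, y ((g : Matrix (Fin 2) (Fin 2) F).mulVec v) =
      (g : Matrix (Fin 2) (Fin 2) F).mulVec (y v)) : ∃ s : F, ∀ v, y v = s • v := by
  have h1 : ∀ a : F, (y ![a, 0]) 1 = 0 := by
    intro a
    have h := hc (up 1) ![a, 0]
    rw [up_mulVec, up_mulVec] at h
    have h2 := congrFun h 0
    simp at h2
    exact h2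
  have h2 : ∀ b : F, (y ![0, b]) 0 = 0 := by
    intro b
    have h := hc (lo 1) ![0, b]
    rw [lo_mulVec, lo_mulVec] at h
    have h2 := congrFun h 1
    simp at h2
    exact h2
  have hsplit : ∀ a b : F, y ![a, b] = y ![a, 0] + y ![0, b] := by
    intro a b
    rw [← hy]
    congr 1
    ext i; fin_cases i <;> simp
  have h3 : ∀ t b : F, (y ![t * b, 0]) 0 = t * (y ![0, b]) 1 := by
    intro t b
    have h := hc (up t) ![0, b]
    rw [up_mulVec, up_mulVec] at h
    have e := congrFun h 0
    simp only [Matrix.cons_val_zero, Matrix.cons_val_one, zero_add] at e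
    rw [hsplit] at e
    simpa [h2] using e
  refine ⟨(y ![0, 1]) 1, fun v => ?_⟩
  have hv : v = ![v 0, v 1] := by ext i; fin_cases i <;> rfl
  have e1 : (y ![v 0, 0]) 0 = v 0 * (y ![0, 1]) 1 := by
    have := h3 (v 0) 1
    rwa [mul_one] at this
  have e2 : (y ![0, v 1]) 1 = v 1 * (y ![0, 1]) 1 := by
    have h4 := h3 1 (v 1)
    have h5 := h3 (v 1) 1
    rw [one_mul, one_mul] at h4
    rw [mul_one] at h5
    rw [← h4, h5]
  conv_lhs => rw [hv, hsplit]
  ext i
  fin_cases i
  · simp [h2, e1, mul_comm]
  · simp [h1, e2, mul_comm]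

theorem sls [Fintype F] : Sls F := by
  classical
  intro x hx
  choose f hf using hx
  have hinj : Function.Injective f := by
    intro g g' h
    have h1 : ∀ v, (g : Matrix (Fin 2) (Fin 2) F).mulVec v = (g' : Matrix (Fin 2) (Fin 2) F).mulVec v := by
      intro v
      apply x.injective
      rw [hf, hf, h]
    apply Subtype.ext
    exact Matrix.ext_of_mulVec_single fun i => h1 _
  have hsurj : Function.Surjective f := Finite.surjective_of_injective hinj
  have hy : ∀ l : F, ∃ s : F, ∀ v, x (l • x.symm v) = s • v := by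
    intro l
    refine comm_scalar (fun v => x (l • x.symm v)) (fun v w => by simp [smul_add]) ?_
    intro g' v
    obtain ⟨g, rfl⟩ := hsurj g'
    have h1 : x.symm ((f g : Matrix (Fin 2) (Fin 2) F).mulVec v) =
        (g : Matrix (Fin 2) (Fin 2) F).mulVec (x.symm v) := by
      apply x.injective
      rw [x.apply_symm_apply, hf, x.apply_symm_apply]
    change x (l • x.symm _) = _
    rw [h1, ← Matrix.mulVec_smul, hf]
  choose s hs using hy
  have key : ∀ (l : F) v, x (l • v) = s l • x v := by
    intro l v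
    have := hs l (x v)
    rwa [x.symm_apply_apply] at this
  obtain ⟨v, hv⟩ : ∃ v : Fin 2 → F, x v ≠ 0 := by
    refine ⟨![1, 0], ?_⟩
    intro h
    have h1 : (![1, 0] : Fin 2 → F) = 0 := by
      apply x.injective; rw [h, map_zero]
    have := congrFun h1 0
    simp at this
  have huniq : ∀ a b : F, a • x v = b • x v → a = b := by
    intro a b h
    have h1 : (a - b) • x v = 0 := by rw [sub_smul, h, sub_self]
    rcases smul_eq_zero.1 h1 with h2 | h2
    · exact sub_eq_zero.1 h2
    · exact absurd h2 hv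
  let σ : F →+* F :=
    { toFun := s
      map_one' := huniq _ _ (by rw [← key, one_smul, one_smul])
      map_mul' := fun a b => huniq _ _ (by rw [← key, mul_smul, key, key, mul_smul])
      map_zero' := huniq _ _ (by rw [← key, zero_smul, zero_smul, map_zero])
      map_add' := fun a b => huniq _ _ (by rw [← key, add_smul, map_add, key, key, add_smul]) }
  exact ⟨RingEquiv.ofBijective σ ⟨σ.injective, Finite.surjective_of_injective σ.injective⟩, key⟩

end sls

/-! ### the offender lemma -/

section slb

variable {F : Type*} [Field F] [Fintype F]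

theorem charP_of_card {p n : ℕ} [hp : Fact p.Prime] (hF : Fintype.card F = p ^ n) : CharP F p := by
  have h0 : ((p : ℕ) : F) ^ n = 0 := by
    rw [← Nat.cast_pow, ← hF]; exact Nat.cast_card_eq_zero F
  have h1 : ((p : ℕ) : F) = 0 := by
    by_contra h
    exact pow_ne_zero n h h0
  obtain ⟨c, hc⟩ := CharP.exists F
  have h2 : c ∣ p := (CharP.cast_eq_zero_iff F c p).1 h1
  have h3 : c ≠ 1 := CharP.char_ne_one F c
  rcases (Nat.dvd_prime hp.out).1 h2 with h | h
  · exact absurd h h3
  · rw [← h]; exact hc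

theorem exists_compl {v₀ : Fin 2 → F} (hv : v₀ ≠ 0) : ∃ w : Fin 2 → F,
    (∀ v : Fin 2 → F, ∃ c d : F, v = c • w + d • v₀) ∧ ∀ c d : F, c • w + d • v₀ = 0 → c = 0 ∧ d = 0 := by
  by_cases h0 : v₀ 0 = 0
  · have h1 : v₀ 1 ≠ 0 := by
      intro h1; apply hv; ext i; fin_cases i
      · exact h0
      · exact h1
    refine ⟨![1, 0], fun v => ⟨v 0, v 1 / v₀ 1, ?_⟩, fun c d h => ?_⟩
    · ext i; fin_cases i
      · simp [h0]
      · simp [h1]
    · have e0 := congrFun h 0
      have e1 := congrFun h 1
      simp [h0] at e0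
      simp [h1] at e1
      exact ⟨e0, e1⟩
  · refine ⟨![0, 1], fun v => ⟨v 1 - v 0 / v₀ 0 * v₀ 1, v 0 / v₀ 0, ?_⟩, fun c d h => ?_⟩
    · ext i; fin_cases i
      · simp [h0]
      · simp
    · have e0 := congrFun h 0
      have e1 := congrFun h 1
      simp [h0] at e0
      simp [e0] at e1
      exact ⟨e1, e0⟩

theorem card_ringAut_le : Nat.card (RingAut F) ≤ Fintype.card F - 1 := by
  classical
  obtain ⟨g, hg⟩ := IsCyclic.exists_generator (α := Fˣ)
  have hinj : Function.Injective (fun τ : RingAut F => Units.map (τ : F →+* F).toMonoidHom g) := by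
    intro τ τ' h
    have h1 : τ (g : F) = τ' (g : F) := congrArg Units.val h
    ext y
    by_cases hy : y = 0
    · rw [hy, map_zero, map_zero]
    · obtain ⟨k, hk⟩ := Subgroup.mem_zpowers_iff.1 (hg (Units.mk0 y hy))
      have h2 : y = ((g ^ k : Fˣ) : F) := by rw [hk]; rfl
      rw [h2, Units.val_zpow_eq_zpow_val, map_zpow₀, map_zpow₀, h1]
  have h2 := Nat.card_le_card_of_injective _ hinj
  rwa [Nat.card_eq_fintype_card (α := Fˣ), Fintype.card_units] at h2

theorem slb {p n : ℕ} [hpf : Fact p.Prime] (hF : Fintype.card F = p ^ n)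
    (h4 : 4 ≤ Fintype.card F) {A : Type*} [Group A] [Finite A] (hAc : ∀ a b : A, a * b = b * a)
    (hAp : ∀ a : A, a ^ p = 1) (x : A → (Fin 2 → F) → (Fin 2 → F)) (hx1 : ∀ v, x 1 v = v)
    (hxm : ∀ a b v, x (a * b) v = x a (x b v)) (hxa : ∀ a v w, x a (v + w) = x a v + x a w)
    (hinj : ∀ a, (∀ v, x a v = v) → a = 1)
    (hnz : ∀ a (g : SL(2, F)), ∃ g' : SL(2, F), ∀ v, x a ((g : Matrix (Fin 2) (Fin 2) F).mulVec v) =
      (g' : Matrix (Fin 2) (Fin 2) F).mulVec (x a v))
    (hoff : Fintype.card F ^ 2 ≤ Nat.card A * Nat.card {v : Fin 2 → F // ∀ a, x a v = v})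
    (hne : ∃ a : A, a ≠ 1) : Nat.card A = Fintype.card F ∧
      (∀ a, ∃ g : SL(2, F), ∀ v, x a v = (g : Matrix (Fin 2) (Fin 2) F).mulVec v) ∧
      ∃ v₀ : Fin 2 → F, v₀ ≠ 0 ∧ ∀ v, (∀ a, x a v = v) ↔ ∃ l : F, v = l • v₀ := by
  classical
  have hp := hpf.out
  have hch : CharP F p := charP_of_card hF
  -- additive equivalences
  let xe : A → (Fin 2 → F) ≃+ (Fin 2 → F) := fun a =>
    { toFun := x a
      invFun := x a⁻¹
      left_inv := fun v => by rw [← hxm, inv_mul_cancel, hx1]
      right_inv := fun v => by rw [← hxm, mul_inv_cancel, hx1]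
      map_add' := hxa a }
  have hσ' : ∀ a, ∃ σ : F ≃+* F, ∀ (l : F) v, x a (l • v) = σ l • x a v := fun a => sls (xe a) (hnz a)
  choose σ hσ using hσ'
  have hx0 : ∀ a, x a 0 = 0 := fun a => (xe a).map_zero
  -- a common fixed vector
  obtain ⟨v₀, hv₀, hfix⟩ : ∃ v₀ : Fin 2 → F, v₀ ≠ 0 ∧ ∀ a, x a v₀ = v₀ := by
    let act : MulAction A (Fin 2 → F) :=
      { smul := fun a v => x a v
        one_smul := hx1
        mul_smul := hxm }
    have hpg : IsPGroup p A := fun a => ⟨1, by rw [pow_one]; exact hAp a⟩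
    have hcard : p ∣ Nat.card (Fin 2 → F) := by
      rw [Nat.card_eq_fintype_card, Fintype.card_fun, hF, Fintype.card_fin]
      have hn : n ≠ 0 := by
        rintro rfl
        rw [hF] at h4; norm_num at h4
      exact dvd_pow (dvd_pow_self p hn) (by norm_num)
    have h0 : (0 : Fin 2 → F) ∈ MulAction.fixedPoints A (Fin 2 → F) := fun a => hx0 a
    obtain ⟨v, hv, hv0⟩ := hpg.exists_fixed_point_of_prime_dvd_card_of_fixed_point (Fin 2 → F) hcard h0
    exact ⟨v, fun h => hv0 h.symm, hv⟩
  obtain ⟨w, hw1, hw2⟩ := exists_compl hv₀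
  have hσv : ∀ a l, x a (l • v₀) = σ a l • v₀ := fun a l => by rw [hσ, hfix]
  have hsm : ∀ a b : F, a • v₀ = b • v₀ → a = b := by
    intro a b h
    have h1 : (0 : F) • w + (a - b) • v₀ = 0 := by rw [zero_smul, zero_add, sub_smul, h, sub_self]
    exact sub_eq_zero.1 (hw2 _ _ h1).2
  have hmul : ∀ a b l, σ (a * b) l = σ a (σ b l) := by
    intro a b l
    apply hsm
    rw [← hσv, hxm, hσv, hσv]
  -- the linear elements
  have hlin : ∀ a, (∀ l, σ a l = l) → ∃ t : F, x a w = w + t • v₀ := by
    intro a ha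
    obtain ⟨α, β, hab⟩ := hw1 (x a w)
    have hk : ∀ k : ℕ, ∃ γ : F, x (a ^ k) w = α ^ k • w + γ • v₀ := by
      intro k
      induction k with
      | zero => exact ⟨0, by simp [hx1]⟩
      | succ k ih =>
        obtain ⟨γ, hγ⟩ := ih
        refine ⟨α ^ k * β + γ, ?_⟩
        rw [pow_succ', hxm, hγ, hxa, hσ, hσ, ha, ha, hab, hfix]
        rw [smul_add, smul_smul, smul_smul, pow_succ, add_smul]
        module
    obtain ⟨γ, hγ⟩ := hk p
    rw [hAp, hx1] at hγ
    have h1 : (α ^ p - 1) • w + γ • v₀ = 0 := by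
      rw [sub_smul, one_smul]
      have : α ^ p • w - w + γ • v₀ = (α ^ p • w + γ • v₀) - w := by module
      rw [this, ← hγ, sub_self]
    have h2 : α ^ p = 1 := sub_eq_zero.1 (hw2 _ _ h1).1
    have h3 : (α - 1) ^ p = 0 := by
      rw [sub_pow_char, h2, one_pow, sub_self]
    have h4 : α = 1 := sub_eq_zero.1 (pow_eq_zero_iff hp.ne_zero |>.1 h3)
    exact ⟨β, by rw [hab, h4, one_smul]⟩
  have hform : ∀ a, (∀ l, σ a l = l) → ∀ t : F, x a w = w + t • v₀ → ∀ c d : F,
      x a (c • w + d • v₀) = (c • w + d • v₀) + (c * t) • v₀ := by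
    intro a ha t ht c d
    rw [hxa, hσ, hσ, ha, ha, ht, hfix]
    module
  have hone : ∀ a, (∀ l, σ a l = l) → x a w = w → a = 1 := by
    intro a ha h
    apply hinj
    intro v
    obtain ⟨c, d, rfl⟩ := hw1 v
    rw [hform a ha 0 (by rw [h, zero_smul, add_zero]), mul_zero, zero_smul, add_zero]
  have hline : ∀ a, (∀ l, σ a l = l) → a ≠ 1 → ∀ v, x a v = v → ∃ l : F, v = l • v₀ := by
    intro a ha hne v hv
    obtain ⟨t, ht⟩ := hlin a ha
    obtain ⟨c, d, rfl⟩ := hw1 v
    rw [hform a ha t ht] at hv
    have h1 : (c * t) • v₀ = 0 := by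
      have := hv
      rwa [add_eq_left] at this
    have h2 : c * t = 0 := hsm _ _ (by rw [h1, zero_smul])
    have ht0 : t ≠ 0 := by
      intro h0
      exact hne (hone a ha (by rw [ht, h0, zero_smul, add_zero]))
    rcases mul_eq_zero.1 h2 with h | h
    · exact ⟨d, by rw [h, zero_smul, zero_add]⟩
    · exact absurd h ht0
  by_cases hall : ∀ a l, σ a l = l
  · -- linear case
    choose t ht using fun a => hlin a (hall a)
    have htinj : Function.Injective t := by
      intro a b hab
      have h1 : b⁻¹ * a = 1 := by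
        apply hone _ (hall _)
        rw [hxm, ht a, hab, ← ht b, ← hxm, inv_mul_cancel, hx1]
      rw [inv_mul_eq_one] at h1
      exact h1.symm
    have hle : Nat.card A ≤ Fintype.card F := by
      have := Nat.card_le_card_of_injective t htinj
      rwa [Nat.card_eq_fintype_card (α := F)] at this
    have hiff : ∀ v, (∀ a, x a v = v) ↔ ∃ l : F, v = l • v₀ := by
      intro v
      constructor
      · intro h
        obtain ⟨a, ha⟩ := hne
        exact hline a (hall a) ha v (h a)
      · rintro ⟨l, rfl⟩ a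
        rw [hσv, hall]
    have hFx : Nat.card {v : Fin 2 → F // ∀ a, x a v = v} = Fintype.card F := by
      rw [← Nat.card_eq_fintype_card (α := F)]
      refine (Nat.card_congr (Equiv.ofBijective (fun l : F => (⟨l • v₀, (hiff _).2 ⟨l, rfl⟩⟩ : {v : Fin 2 → F // ∀ a, x a v = v})) ⟨?_, ?_⟩)).symm
      · intro l l' h
        exact hsm _ _ (congrArg Subtype.val h)
      · rintro ⟨v, hv⟩
        obtain ⟨l, rfl⟩ := (hiff v).1 hv
        exact ⟨l, rfl⟩
    have hge : Fintype.card F ≤ Nat.card A := by
      rw [hFx, pow_two] at hoff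
      exact Nat.le_of_mul_le_mul_right hoff (by omega)
    refine ⟨le_antisymm hle hge, ?_, v₀, hv₀, hiff⟩
    intro a
    let L : (Fin 2 → F) →ₗ[F] (Fin 2 → F) :=
      { toFun := x a
        map_add' := hxa a
        map_smul' := fun l v => by rw [hσ, hall]; rfl }
    have hLk : ∀ k : ℕ, ∀ v, (L ^ k) v = x (a ^ k) v := by
      intro k
      induction k with
      | zero => intro v; rw [pow_zero, pow_zero, hx1]; rfl
      | succ k ih =>
        intro v
        rw [pow_succ', pow_succ', hxm, ← ih]; rfl
    have hLp : L ^ p = 1 := by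
      ext1 v
      ext1
      rw [LinearMap.comp_apply, hLk, hAp, hx1]; rfl
    have hdet : (LinearMap.toMatrix' L).det = 1 := by
      have h1 : (LinearMap.toMatrix' L) ^ p = 1 := by
        have h2 : LinearMap.toMatrixAlgEquiv' (L ^ p) = 1 := by rw [hLp, map_one]
        rw [map_pow] at h2
        exact h2
      have h3 : (LinearMap.toMatrix' L).det ^ p = 1 := by
        rw [← Matrix.det_pow, h1, Matrix.det_one]
      have h5 : ((LinearMap.toMatrix' L).det - 1) ^ p = 0 := by
        rw [sub_pow_char, h3, one_pow, sub_self]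
      exact sub_eq_zero.1 (pow_eq_zero_iff hp.ne_zero |>.1 h5)
    refine ⟨⟨LinearMap.toMatrix' L, hdet⟩, fun v => ?_⟩
    change x a v = (LinearMap.toMatrix' L).mulVec v
    rw [LinearMap.toMatrix'_mulVec]; rfl
  · exfalso
    push Not at hall
    obtain ⟨b, l, hbl⟩ := hall
    let Sg : A →* RingAut F :=
      { toFun := σ
        map_one' := by
          ext l
          apply hsm
          rw [← hσv, hx1]; rfl
        map_mul' := fun a c => by
          ext l
          exact hmul a c l }
    have hker : ∀ a, a ∈ Sg.ker ↔ ∀ l, σ a l = l := by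
      intro a
      rw [MonoidHom.mem_ker]
      constructor
      · intro h l
        have : σ a = 1 := h
        rw [this]; rfl
      · intro h
        ext l
        exact h l
    have hcA : Nat.card A ≤ (Fintype.card F - 1) * Nat.card Sg.ker := by
      haveI : Finite (RingAut F) :=
        Finite.of_injective (fun τ : RingAut F => (τ : F → F))
          (fun a b h => RingEquiv.ext (congrFun h))
      have h1 := Subgroup.card_mul_index Sg.ker
      rw [Subgroup.index_ker] at h1
      have h2 : Nat.card Sg.range ≤ Nat.card (RingAut F) :=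
        Nat.card_le_card_of_injective _ Subtype.val_injective
      rw [← h1, Nat.mul_comm]
      exact Nat.mul_le_mul_right _ (h2.trans card_ringAut_le)
    have hkill : ∀ e : F, (∀ a, x a (e • v₀) = e • v₀) → (∀ a, x a ((l * e) • v₀) = (l * e) • v₀) → e = 0 := by
      intro e h1 h2
      have h3 := h2 b
      rw [mul_smul, hσ, h1 b, smul_smul, smul_smul] at h3
      have h4 := hsm _ _ h3
      have h5 : (σ b l - l) * e = 0 := by rw [sub_mul, h4, sub_self]
      rcases mul_eq_zero.1 h5 with h | h
      · exact absurd (sub_eq_zero.1 h) hbl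
      · exact h
    have hkillv : ∀ v : Fin 2 → F, (∀ a, x a v = v) → (∀ a, x a (l • v) = l • v) → v = 0 := by
      intro v h1 h2
      have h3 := h2 b
      rw [hσ, h1 b] at h3
      have h5 : (σ b l - l) • v = 0 := by rw [sub_smul, h3, sub_self]
      rcases smul_eq_zero.1 h5 with h | h
      · exact absurd (sub_eq_zero.1 h) hbl
      · exact h
    have hsub : ∀ u v : Fin 2 → F, (∀ a, x a u = u) → (∀ a, x a v = v) → ∀ a, x a (u - v) = u - v := by
      intro u v hu hv a
      have := (xe a).map_sub u v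
      change x a (u - v) = x a u - x a v at this
      rw [this, hu, hv]
    have hVcard : Nat.card (Fin 2 → F) = Fintype.card F ^ 2 := by
      rw [Nat.card_eq_fintype_card, Fintype.card_fun, Fintype.card_fin]
    have hq1 : Nat.card {v : Fin 2 → F // ∀ a, x a v = v} ≤ Fintype.card F := by
      have hi : Function.Injective (fun uv : {v : Fin 2 → F // ∀ a, x a v = v} × {v : Fin 2 → F // ∀ a, x a v = v} =>
          uv.1.1 + l • uv.2.1) := by
        rintro ⟨⟨u, hu⟩, ⟨v, hv⟩⟩ ⟨⟨u', hu'⟩, ⟨v', hv'⟩⟩ h
        have h : u + l • v = u' + l • v' := h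
        have h1 : u' - u = l • (v - v') := by
          rw [smul_sub]
          have : u' = u + l • v - l • v' := by rw [h]; abel
          rw [this]; abel
        have h2 : v - v' = 0 := by
          apply hkillv _ (hsub v v' hv hv')
          rw [← h1]
          exact hsub u' u hu' hu
        have h3 : u' - u = 0 := by rw [h1, h2, smul_zero]
        rw [sub_eq_zero] at h2 h3
        subst h2; subst h3
        rfl
      have h2 := Nat.card_le_card_of_injective _ hi
      rw [Nat.card_prod, hVcard, ← pow_two] at h2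
      exact (Nat.pow_le_pow_iff_left (by norm_num)).1 h2
    by_cases hA0 : ∃ a ∈ Sg.ker, a ≠ 1
    · obtain ⟨a₀, ha₀, ha₀1⟩ := hA0
      -- fixed points lie on the line
      have hFl : ∀ v : {v : Fin 2 → F // ∀ a, x a v = v}, ∃ d : F, v.1 = d • v₀ :=
        fun v => hline a₀ ((hker a₀).1 ha₀) ha₀1 v.1 (v.2 a₀)
      choose d hd using hFl
      have hF2 : Nat.card {v : Fin 2 → F // ∀ a, x a v = v} * Nat.card {v : Fin 2 → F // ∀ a, x a v = v} ≤ Fintype.card F := by
        have hi : Function.Injective (fun uv : {v : Fin 2 → F // ∀ a, x a v = v} × {v : Fin 2 → F // ∀ a, x a v = v} =>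
            d uv.1 + l * d uv.2) := by
          rintro ⟨u, v⟩ ⟨u', v'⟩ h
          have h : d u + l * d v = d u' + l * d v' := h
          have e1 : l * (d v - d v') = d u' - d u := by linear_combination h
          have f1 : ∀ a, x a ((d v - d v') • v₀) = (d v - d v') • v₀ := by
            rw [sub_smul, ← hd, ← hd]; exact hsub _ _ v.2 v'.2
          have f2 : ∀ a, x a ((l * (d v - d v')) • v₀) = (l * (d v - d v')) • v₀ := by
            rw [e1, sub_smul, ← hd, ← hd]; exact hsub _ _ u'.2 u.2
          have h0 := hkill _ f1 f2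
          have h0' : d u' - d u = 0 := by rw [← e1, h0, mul_zero]
          have g1 : v = v' := Subtype.ext (by rw [hd, hd, sub_eq_zero.1 h0])
          have g2 : u = u' := Subtype.ext (by rw [hd, hd, sub_eq_zero.1 h0'])
          rw [g1, g2]
        have h2 := Nat.card_le_card_of_injective _ hi
        rwa [Nat.card_prod, Nat.card_eq_fintype_card (α := F)] at h2
      -- the parameters
      choose t ht using fun a : Sg.ker => hlin a.1 ((hker a.1).1 a.2)
      have ht1 : ∀ a c : Sg.ker, t (a * c) = t a + t c := by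
        intro a c
        apply hsm
        have h1 := ht (a * c)
        have h2 : x ((a * c : Sg.ker) : A) w = w + (t a + t c) • v₀ := by
          rw [Subgroup.coe_mul, hxm, ht c, hxa, hσv, (hker a.1).1 a.2, ht a]
          module
        rw [h1] at h2
        exact add_left_cancel h2
      have ht0 : ∀ a : Sg.ker, t a = 0 → a = 1 := by
        intro a ha
        apply Subtype.ext
        exact hone a.1 ((hker a.1).1 a.2) (by rw [ht a, ha, zero_smul, add_zero])
      have htinv : ∀ a : Sg.ker, t a⁻¹ = - t a := by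
        intro a
        have h1 := ht1 a⁻¹ a
        have h2 := ht1 1 1
        rw [mul_one] at h2
        have h3 : t (1 : Sg.ker) = 0 := by linear_combination -h2
        rw [inv_mul_cancel, h3] at h1
        linear_combination -h1
      obtain ⟨d₀, e₀, hb⟩ := hw1 (x b w)
      have hrel : ∀ s : Sg.ker, σ b (t s) = d₀ * t s := by
        intro s
        have h1 : x b (x s.1 w) = x s.1 (x b w) := by rw [← hxm, ← hxm, hAc]
        rw [ht s, hxa, hσv, hb, hform s.1 ((hker s.1).1 s.2) (t s) (ht s)] at h1
        exact hsm _ _ (add_left_cancel h1)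
      have hA2 : Nat.card Sg.ker * Nat.card Sg.ker ≤ Fintype.card F := by
        have hi : Function.Injective (fun ac : Sg.ker × Sg.ker => t ac.1 + l * t ac.2) := by
          rintro ⟨a, c⟩ ⟨a', c'⟩ h
          have h : t a + l * t c = t a' + l * t c' := h
          have e1 : t (a' * a⁻¹) = l * t (c * c'⁻¹) := by
            rw [ht1, ht1, htinv, htinv]; linear_combination -h
          have r1 := hrel (a' * a⁻¹)
          have r2 := hrel (c * c'⁻¹)
          rw [e1, map_mul, r2] at r1
          have h5 : (σ b l - l) * (d₀ * t (c * c'⁻¹)) = 0 := by linear_combination r1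
          have h6 : d₀ * t (c * c'⁻¹) = 0 := by
            rcases mul_eq_zero.1 h5 with h | h
            · exact absurd (sub_eq_zero.1 h) hbl
            · exact h
          rw [h6] at r2
          have h7 : t (c * c'⁻¹) = 0 := by
            apply (σ b).injective
            rw [r2, map_zero]
          have g1 := ht0 _ h7
          have g2 := ht0 (a' * a⁻¹) (by rw [e1, h7, mul_zero])
          rw [mul_inv_eq_one] at g1 g2
          rw [g1, g2]
        have h2 := Nat.card_le_card_of_injective _ hi
        rwa [Nat.card_prod, Nat.card_eq_fintype_card (α := F)] at h2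
      have h8 : (Nat.card Sg.ker * Nat.card {v : Fin 2 → F // ∀ a, x a v = v}) ^ 2 ≤ Fintype.card F ^ 2 := by
        have := Nat.mul_le_mul hA2 hF2
        calc (Nat.card Sg.ker * Nat.card {v : Fin 2 → F // ∀ a, x a v = v}) ^ 2
            = (Nat.card Sg.ker * Nat.card Sg.ker) * (Nat.card {v : Fin 2 → F // ∀ a, x a v = v} * Nat.card {v : Fin 2 → F // ∀ a, x a v = v}) := by ring
          _ ≤ Fintype.card F * Fintype.card F := this
          _ = Fintype.card F ^ 2 := by ring
      have h9 := (Nat.pow_le_pow_iff_left (by norm_num)).1 h8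
      have h10 : Nat.card A * Nat.card {v : Fin 2 → F // ∀ a, x a v = v} ≤ (Fintype.card F - 1) * Fintype.card F := by
        calc Nat.card A * Nat.card {v : Fin 2 → F // ∀ a, x a v = v}
            ≤ ((Fintype.card F - 1) * Nat.card Sg.ker) * Nat.card {v : Fin 2 → F // ∀ a, x a v = v} := Nat.mul_le_mul_right _ hcA
          _ = (Fintype.card F - 1) * (Nat.card Sg.ker * Nat.card {v : Fin 2 → F // ∀ a, x a v = v}) := by ring
          _ ≤ (Fintype.card F - 1) * Fintype.card F := Nat.mul_le_mul_left _ h9
      have h11 := hoff.trans h10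
      rw [pow_two] at h11
      have h12 := Nat.le_of_mul_le_mul_right h11 (by omega)
      omega
    · push Not at hA0
      have hk1 : Nat.card Sg.ker = 1 := by
        have : Sg.ker = ⊥ := by
          rw [Subgroup.eq_bot_iff_forall]; exact hA0
        rw [this]; exact Subgroup.card_bot
      rw [hk1, mul_one] at hcA
      have h10 := hoff.trans (Nat.mul_le_mul hcA hq1)
      rw [pow_two] at h10
      have h12 := Nat.le_of_mul_le_mul_right h10 (by omega)
      omega

end slb

end H94.BZ
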