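import Mathlib
import Cfsg.Agent.Lib.H10.J3Simple2
import Cfsg.Agent.Lib.H35.StemLevel
import Cfsg.Agent.Lib.H40.StemFinish

set_option autoImplicit false
set_option maxHeartbeats 1000000
set_option linter.all false

/-! Words in elements of 3.J3, computed with columns of 18-bit codes. -/

namespace H94.J3Word

open H10.BitPar H10.BitOrb H10.J3Data H10.J3Model H10.J3Comp H10.J3Order H10.J3Simple Cfsg.Spor H35.Stem
open scoped MatrixGroups commutatorElement

/-- the linear map with columns `c`, on codes -/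
def ap (c : List ℕ) : ℕ → ℕ := List.rec (motive := fun _ => ℕ → ℕ) (fun _ => 0)
  (fun a _ ih x => Nat.xor (cond (Nat.beq (Nat.mod x 2) 1) a 0) (ih (Nat.div x 2))) c

theorem ap_cons (a : ℕ) (c : List ℕ) (x : ℕ) :
    ap (a :: c) x = (cond (Nat.beq (x % 2) 1) a 0) ^^^ (ap c (x / 2)) := rfl

theorem ap_lt {n : ℕ} : ∀ (c : List ℕ) (h : ∀ a ∈ c, a < 2 ^ n) (x : ℕ), ap c x < 2 ^ n
  | [], _, x => Nat.two_pow_pos n
  | a :: c, h, x => by
    rw [ap_cons]
    apply Nat.xor_lt_two_pow
    · cases Nat.beq (x % 2) 1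
      · exact Nat.two_pow_pos n
      · exact h a List.mem_cons_self
    · exact ap_lt c (fun b hb => h b (List.mem_cons_of_mem _ hb)) _

theorem split_xor (x k : ℕ) : x * 2 ^ k = ((x % 2) * 2 ^ k) ^^^ ((x / 2) * 2 ^ (k + 1)) := by
  have h0 : x = (x % 2) ^^^ (2 * (x / 2)) := by
    rcases Nat.mod_two_eq_zero_or_one x with h | h
    · rw [h, Nat.zero_xor]; omega
    · rw [h]
      have h1 : (1 : ℕ) ^^^ (2 * (x / 2)) = Nat.bit true 0 ^^^ Nat.bit false (x / 2) := by
        rw [Nat.bit_false, Nat.bit_true]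
      rw [h1, Nat.xor_bit]
      simp [Nat.bit_val]
      omega
  have h1 : (x / 2) * 2 ^ (k + 1) = (2 * (x / 2)) <<< k := by rw [Nat.shiftLeft_eq, pow_succ]; ring
  rw [h1, ← Nat.shiftLeft_eq, ← Nat.shiftLeft_eq, ← Nat.shiftLeft_xor_distrib, ← h0]

theorem dec_zero {n : ℕ} {V : Type*} [AddCommGroup V] {dec : ℕ → V} (hc : Coding n dec) : dec 0 = 0 := by
  have h := hc.xor 0 0
  rw [Nat.xor_self] at h
  exact left_eq_add.1 h

theorem ap_spec {n : ℕ} {V : Type*} [AddCommGroup V] {dec : ℕ → V} (hc : Coding n dec) {T : V → V}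
    (hT : ∀ u v, T (u + v) = T u + T v) : ∀ (c : List ℕ) (k : ℕ),
    (∀ i < c.length, T (dec (2 ^ (k + i))) = dec (c.getD i 0)) → ∀ x < 2 ^ c.length, T (dec (x * 2 ^ k)) = dec (ap c x) := by
  have hT0 : T 0 = 0 := by
    have h := hT 0 0
    rw [add_zero] at h
    exact left_eq_add.1 h
  intro c
  induction c with
  | nil =>
    intro k _ x hx
    have hx0 : x = 0 := by simpa using hx
    rw [hx0, zero_mul, dec_zero hc, hT0]
    exact (dec_zero hc).symm
  | cons a c ih =>
    intro k h x hx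
    rw [split_xor x k, hc.xor, hT, ap_cons, hc.xor]
    have h2 := ih (k + 1) (fun i hi => by
      have h3 := h (i + 1) (by rw [List.length_cons]; omega)
      rw [List.getD_cons_succ] at h3
      rw [← h3]
      congr 3
      ring) (x / 2) (by
        rw [List.length_cons, pow_succ] at hx
        omega)
    rw [h2]
    congr 1
    have h4 := h 0 (by rw [List.length_cons]; omega)
    rw [List.getD_cons_zero, add_zero] at h4
    rcases Nat.mod_two_eq_zero_or_one x with h5 | h5
    · rw [h5, zero_mul, dec_zero hc, hT0]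
      exact (dec_zero hc).symm
    · rw [h5, one_mul, h4]
      rfl

/-- values of words in a group in any universe -/
def evU {X : Type} {P : Type*} [Group P] (f : X → P) (w : W X) : P :=
  (w.map fun a => bif a.2 then f a.1 else (f a.1)⁻¹).prod

theorem evU_cons {X : Type} {P : Type*} [Group P] (f : X → P) (a : X × Bool) (w : W X) :
    evU f (a :: w) = (bif a.2 then f a.1 else (f a.1)⁻¹) * evU f w := by simp [evU]

theorem evU_hom {X : Type} {P : Type*} [Group P] {Q : Type} [Group Q] (σ : P →* Q) (f : X → P) (w : W X) :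
    σ (evU f w) = ev (fun x => σ (f x)) w := by
  induction w with
  | nil => simp [evU]
  | cons a w ih =>
    rw [ev_cons, evU_cons, map_mul, ih]
    congr 1
    rcases a with ⟨x, b⟩
    cases b
    · exact map_inv σ (f x)
    · rfl

section

variable {F : Type*} [Field F] [Fintype F]

/-- `g` acts on codes with columns `c` -/
def RepA (ω : F) (g : threeJ3 F ω) (c : List ℕ) : Prop :=
  ∀ x < 2 ^ 18, ((g : GL F9 F) : Matrix F9 F9 F).mulVec (dec ω x) = dec ω (ap c x)

theorem repA_of_basis (hF : Fintype.card F = 4) {ω : F} (h : Good ω) {g : threeJ3 F ω} {c : List ℕ} (hl : c.length = 18)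
    (hb : ∀ i < 18, ((g : GL F9 F) : Matrix F9 F9 F).mulVec (dec ω (2 ^ i)) = dec ω (c.getD i 0)) : RepA ω g c := by
  intro x hx
  have h1 := ap_spec (coding hF h) (T := fun v => ((g : GL F9 F) : Matrix F9 F9 F).mulVec v)
    (fun u v => Matrix.mulVec_add _ _ _) c 0 (fun i hi => by
      rw [zero_add]; exact hb i (by omega)) x (by rw [hl]; exact hx)
  rw [pow_zero, mul_one] at h1
  exact h1

theorem RepA.inj (hF : Fintype.card F = 4) {ω : F} (h : Good ω) {g g' : threeJ3 F ω} {c : List ℕ} (hg : RepA ω g c)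
    (hg' : RepA ω g' c) : g = g' := by
  apply Subtype.ext
  apply toPerm_injective
  ext v : 1
  obtain ⟨x, hx, rfl⟩ := (coding hF h).surj v
  rw [toPerm_apply, toPerm_apply, hg x hx, hg' x hx]

/-- columns of a word in the generators -/
def sameC (w : List ℕ) (c : List ℕ) : Bool :=
  (w.all fun i => Nat.blt i 45) && Nat.beq c.length 18 && (List.range 18).all fun k => Nat.beq (runF (wordOps w) (Nat.pow 2 k)) (c.getD k 0)

theorem exists_letter (hF : Fintype.card F = 4) {ω : F} (h : Good ω) {w c : List ℕ} (hw : sameC w c = true) :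
    ∃ g : threeJ3 F ω, RepA ω g c := by
  rw [sameC, Bool.and_eq_true, Bool.and_eq_true, List.all_eq_true, List.all_eq_true] at hw
  obtain ⟨⟨h1, h2⟩, h3⟩ := hw
  obtain ⟨σ, ⟨m, hm, rfl⟩, hr⟩ := isRep_word hF h (w := w) (fun i hi => by simpa [Nat.blt] using h1 i hi)
  refine ⟨⟨m, hm⟩, repA_of_basis hF h (Nat.eq_of_beq_eq_true h2) ?_⟩
  intro i hi
  have h4 := hr (2 ^ i) (Nat.pow_lt_pow_right (by norm_num) hi)
  rw [toPerm_apply] at h4
  rw [← Nat.eq_of_beq_eq_true (h3 i (List.mem_range.2 hi))]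
  exact h4

/-- inverse columns -/
def invC (c ci : List ℕ) : Bool :=
  Nat.beq ci.length 18 && (List.range 18).all fun k => Nat.beq (ap c (ci.getD k 0)) (Nat.pow 2 k)

def ltC (c : List ℕ) : Bool := c.all fun a => Nat.blt a (Nat.pow 2 18)

theorem ltC_spec {c : List ℕ} (h : ltC c = true) : ∀ a ∈ c, a < 2 ^ 18 := by
  intro a ha
  have := List.all_eq_true.1 h a ha
  exact Nat.le_of_ble_eq_true this

theorem getD_lt {c : List ℕ} (h : ∀ a ∈ c, a < 2 ^ 18) (k : ℕ) : c.getD k 0 < 2 ^ 18 := by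
  rcases lt_or_ge k c.length with hk | hk
  · rw [List.getD_eq_getElem _ _ hk]; exact h _ (List.getElem_mem hk)
  · rw [List.getD_eq_default _ _ hk]; norm_num

theorem RepA.inv (hF : Fintype.card F = 4) {ω : F} (h : Good ω) {g : threeJ3 F ω} {c ci : List ℕ} (hg : RepA ω g c)
    (hlt : ltC ci = true) (hi : invC c ci = true) : RepA ω g⁻¹ ci := by
  rw [invC, Bool.and_eq_true, List.all_eq_true] at hi
  apply repA_of_basis hF h (Nat.eq_of_beq_eq_true hi.1)
  intro i hi'
  have h1 := Nat.eq_of_beq_eq_true (hi.2 i (List.mem_range.2 hi'))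
  have h2 := hg (ci.getD i 0) (getD_lt (ltC_spec hlt) i)
  rw [h1] at h2
  have h3 : toPerm F (g : GL F9 F) (dec ω (ci.getD i 0)) = dec ω (2 ^ i) := h2
  have h4 : toPerm F ((g⁻¹ : threeJ3 F ω) : GL F9 F) (dec ω (2 ^ i)) = dec ω (ci.getD i 0) := by
    rw [Subgroup.coe_inv, map_inv, ← h3]
    exact Equiv.symm_apply_apply _ _
  exact h4

/-- the columns of the letters -/
structure Cols {X : Type} (ω : F) (m : X → threeJ3 F ω) (cs ci : X → List ℕ) : Prop where
  rep : ∀ x, RepA ω (m x) (cs x)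
  repi : ∀ x, RepA ω (m x)⁻¹ (ci x)
  lt : ∀ x, ltC (cs x) = true
  lti : ∀ x, ltC (ci x) = true

end

/-- action of a word -/
def runW {X : Type} (cs ci : X → List ℕ) (w : W X) : ℕ → ℕ := List.rec (motive := fun _ => ℕ → ℕ) (fun x => x)
  (fun a _ ih x => ap (cond a.2 (cs a.1) (ci a.1)) (ih x)) w

/-- the word has columns `c` -/
def isW {X : Type} (cs ci : X → List ℕ) (w : W X) (c : List ℕ) : Bool :=
  Nat.beq c.length 18 && (List.range 18).all fun k => Nat.beq (runW cs ci w (Nat.pow 2 k)) (c.getD k 0)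

section

variable {F : Type*} [Field F] [Fintype F] {X : Type} {cs ci : X → List ℕ}

theorem Cols.run {ω : F} {m : X → threeJ3 F ω} (D : Cols ω m cs ci) : ∀ (w : W X) (x : ℕ), x < 2 ^ 18 →
    (((evU m w : threeJ3 F ω) : GL F9 F) : Matrix F9 F9 F).mulVec (dec ω x) = dec ω (runW cs ci w x) ∧
      runW cs ci w x < 2 ^ 18
  | [], x, hx => by
    refine ⟨?_, hx⟩
    show ((1 : GL F9 F) : Matrix F9 F9 F).mulVec (dec ω x) = dec ω x
    rw [Units.val_one, Matrix.one_mulVec]
  | a :: w, x, hx => by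
    obtain ⟨h1, h2⟩ := D.run w x hx
    have h3 : runW cs ci (a :: w) x = ap (cond a.2 (cs a.1) (ci a.1)) (runW cs ci w x) := rfl
    rw [h3, evU_cons, Subgroup.coe_mul, Units.val_mul, ← Matrix.mulVec_mulVec, h1]
    rcases a with ⟨y, b⟩
    cases b
    · exact ⟨D.repi y _ h2, ap_lt _ (ltC_spec (D.lti y)) _⟩
    · exact ⟨D.rep y _ h2, ap_lt _ (ltC_spec (D.lt y)) _⟩

theorem Cols.rep_word (hF : Fintype.card F = 4) {ω : F} (h : Good ω) {m : X → threeJ3 F ω} (D : Cols ω m cs ci)
    {w : W X} {c : List ℕ} (hw : isW cs ci w c = true) : RepA ω (evU m w) c := by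
  rw [isW, Bool.and_eq_true, List.all_eq_true] at hw
  apply repA_of_basis hF h (Nat.eq_of_beq_eq_true hw.1)
  intro i hi
  rw [(D.run w (2 ^ i) (Nat.pow_lt_pow_right (by norm_num) hi)).1]
  rw [← Nat.eq_of_beq_eq_true (hw.2 i (List.mem_range.2 hi))]
  rfl

/-- columns of the scalars -/
def c0 : List ℕ := (List.range 18).map fun k => Nat.pow 2 k
def c1 : List ℕ := (List.range 18).map fun k => runF sc (Nat.pow 2 k)
def c2 : List ℕ := (List.range 18).map fun k => runF sc (runF sc (Nat.pow 2 k))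

theorem lt_sc {x : ℕ} (hx : x < 2 ^ 18) : runF sc x < 2 ^ 18 := runF_lt (by decide +kernel) hx

theorem rep_c0 (hF : Fintype.card F = 4) {ω : F} (h : Good ω) : RepA ω (1 : threeJ3 F ω) c0 := by
  apply repA_of_basis hF h (by simp [c0])
  intro i hi
  show ((1 : GL F9 F) : Matrix F9 F9 F).mulVec _ = _
  rw [Units.val_one, Matrix.one_mulVec, c0, List.getD_eq_getElem _ _ (by simpa using hi)]
  simp

theorem smul_of {ω : F} {s : threeJ3 F ω} (hs : ((s : GL F9 F) : Matrix F9 F9 F) = Matrix.diagonal fun _ => ω) (v : F9 → F) :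
    ((s : GL F9 F) : Matrix F9 F9 F).mulVec v = ω • v := by
  rw [hs]; funext w; rw [Matrix.mulVec_diagonal]; rfl

theorem rep_c1 (hF : Fintype.card F = 4) {ω : F} (h : Good ω) {s : threeJ3 F ω}
    (hs : ((s : GL F9 F) : Matrix F9 F9 F) = Matrix.diagonal fun _ => ω) : RepA ω s c1 := by
  apply repA_of_basis hF h (by simp [c1])
  intro i hi
  have h2 : (2 : ℕ) ^ i < 2 ^ 18 := Nat.pow_lt_pow_right (by norm_num) hi
  have h3 := scRep hF h _ h2
  simp only at h3
  rw [smul_of hs, h3, c1, List.getD_eq_getElem _ _ (by simpa using hi)]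
  simp

theorem rep_c2 (hF : Fintype.card F = 4) {ω : F} (h : Good ω) {s : threeJ3 F ω}
    (hs : ((s : GL F9 F) : Matrix F9 F9 F) = Matrix.diagonal fun _ => ω) : RepA ω (s * s) c2 := by
  apply repA_of_basis hF h (by simp [c2])
  intro i hi
  have h2 : (2 : ℕ) ^ i < 2 ^ 18 := Nat.pow_lt_pow_right (by norm_num) hi
  have h3 := scRep hF h _ h2
  have h4 := scRep hF h _ (lt_sc h2)
  simp only at h3 h4
  rw [Subgroup.coe_mul, Units.val_mul, ← Matrix.mulVec_mulVec, smul_of hs, smul_of hs, h3, h4, c2,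
    List.getD_eq_getElem _ _ (by simpa using hi)]
  simp

/-- the word is a scalar -/
def isS (cs ci : X → List ℕ) (w : W X) : Bool := isW cs ci w c0 || (isW cs ci w c1 || isW cs ci w c2)

theorem Cols.center (hF : Fintype.card F = 4) {ω : F} (h : Good ω) {m : X → threeJ3 F ω} (D : Cols ω m cs ci)
    {w : W X} (hw : isS cs ci w = true) : evU m w ∈ Subgroup.center (threeJ3 F ω) := by
  obtain ⟨s, hs⟩ := exists_s hF h
  have hsc := s_center hs
  rw [isS, Bool.or_eq_true, Bool.or_eq_true] at hw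
  rcases hw with hw | hw | hw
  · rw [(D.rep_word hF h hw).inj hF h (rep_c0 hF h)]; exact one_mem _
  · rw [(D.rep_word hF h hw).inj hF h (rep_c1 hF h hs)]; exact hsc
  · rw [(D.rep_word hF h hw).inj hF h (rep_c2 hF h hs)]; exact mul_mem hsc hsc

/-- a word with an entry off the diagonal is not central -/
def notS (cs ci : X → List ℕ) (w : W X) (k j : ℕ) : Bool :=
  Nat.blt k 9 && (Nat.blt j 9 && (!(Nat.beq j k) &&
    ((runW cs ci w (Nat.pow 2 (2 * k))).testBit (2 * j) || (runW cs ci w (Nat.pow 2 (2 * k))).testBit (2 * j + 1))))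

theorem Cols.not_center (hF : Fintype.card F = 4) {ω : F} (h : Good ω) {m : X → threeJ3 F ω} (D : Cols ω m cs ci)
    {w : W X} {k j : ℕ} (hw : notS cs ci w k j = true) : evU m w ∉ Subgroup.center (threeJ3 F ω) := by
  intro hc
  rw [notS, Bool.and_eq_true, Bool.and_eq_true, Bool.and_eq_true, Bool.or_eq_true] at hw
  obtain ⟨h1, h2, h3, h4⟩ := hw
  have hk : k < 9 := Nat.le_of_ble_eq_true h1
  have hj : j < 9 := Nat.le_of_ble_eq_true h2
  have hjk : j ≠ k := by
    intro e
    rw [e, Nat.beq_refl] at h3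
    exact absurd h3 (by decide)
  obtain ⟨c, hcm⟩ := center_scalar hF h hc
  obtain ⟨z, hz⟩ := kz_surj hk
  obtain ⟨z', hz'⟩ := kz_surj hj
  have hzz : z' ≠ z := fun e => hjk (by rw [← hz, ← hz', e])
  have h5 := (D.run w (2 ^ (2 * k)) (Nat.pow_lt_pow_right (by norm_num) (by omega))).1
  rw [hcm, ← hz, dec_single] at h5
  have h6 := congrFun h5 z'
  rw [Matrix.mulVec_diagonal, Pi.single_eq_of_ne hzz, mul_zero] at h6
  have h7 : bb ω false false = bb ω ((runW cs ci w (2 ^ (2 * kz z))).testBit (2 * kz z'))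
      ((runW cs ci w (2 ^ (2 * kz z))).testBit (2 * kz z' + 1)) := by
    rw [bb_ff]; exact h6
  obtain ⟨h8, h9⟩ := h.bb_inj h7
  rw [hz, hz'] at h8 h9
  change (runW cs ci w (2 ^ (2 * k))).testBit (2 * j) = true ∨ (runW cs ci w (2 ^ (2 * k))).testBit (2 * j + 1) = true at h4
  rcases h4 with h4 | h4
  · rw [← h8] at h4; exact absurd h4 (by decide)
  · rw [← h9] at h4; exact absurd h4 (by decide)

/-- columns of the operations -/
def colF (l : List (ℕ × ℕ)) : List ℕ := (List.range 18).map fun k => runF l (Nat.pow 2 k)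

theorem repA_of_ops (hF : Fintype.card F = 4) {ω : F} (h : Good ω) {g : threeJ3 F ω} {l : List (ℕ × ℕ)}
    (hr : Rep 18 (dec ω) (toPerm F (g : GL F9 F)) l) : RepA ω g (colF l) := by
  apply repA_of_basis hF h (by simp [colF])
  intro i hi
  have h2 : (2 : ℕ) ^ i < 2 ^ 18 := Nat.pow_lt_pow_right (by norm_num) hi
  have h3 := hr _ h2
  rw [toPerm_apply] at h3
  rw [h3, colF, List.getD_eq_getElem _ _ (by simpa using hi)]
  simp

/-- the word is the `i`-th generator up to scalars -/
def isG (cs ci : X → List ℕ) (w : W X) (i : ℕ) : Bool :=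
  isW cs ci w (colF (gensL.getD i [])) || (isW cs ci w (colF (gensL.getD i [] ++ sc)) ||
    isW cs ci w (colF (gensL.getD i [] ++ (sc ++ sc))))

def genOK (cs ci : X → List ℕ) (ws : List (W X)) : Bool :=
  Nat.beq ws.length 45 && (List.range 45).all fun i => isG cs ci (ws.getD i []) i

theorem runF_append' (l m : List (ℕ × ℕ)) (x : ℕ) : runF (l ++ m) x = runF m (runF l x) := by
  induction l generalizing x with
  | nil => rfl
  | cons p l ih => exact ih (opF p x)

theorem ok_sc' : okOps 18 sc = true := by decide +kernel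

theorem Cols.gen (hF : Fintype.card F = 4) {ω : F} (h : Good ω) {m : X → threeJ3 F ω} (D : Cols ω m cs ci)
    {ws : List (W X)} (hw : genOK cs ci ws = true) {G : Type} [Group G] (φ : threeJ3 F ω →* G)
    (hφ : Function.Surjective φ) (hφc : ∀ z ∈ Subgroup.center (threeJ3 F ω), φ z = 1) {S : X → Bool} (hS : ∀ x, S x = true) :
    Kl (fun x => φ (m x)) S = ⊤ := by
  rw [genOK, Bool.and_eq_true, List.all_eq_true] at hw
  obtain ⟨s, hs⟩ := exists_s hF h
  have hsc := s_center hs
  have key : (Kl (fun x => φ (m x)) S).comap φ = ⊤ := by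
    rw [eq_top_iff]
    have h0 : Subgroup.closure ((↑) ⁻¹' {g : GL F9 F | (g : Matrix F9 F9 F) ∈ j3Gens F ω} : Set (threeJ3 F ω)) = ⊤ :=
      Subgroup.closure_closure_coe_preimage
    rw [← h0, Subgroup.closure_le]
    intro g hg
    have hg' : ((g : GL F9 F) : Matrix F9 F9 F) ∈ j3Gens F ω := hg
    obtain ⟨l, hl, hr⟩ := rep_gens hF h _ ⟨(g : GL F9 F), hg', rfl⟩
    obtain ⟨i, hi, rfl⟩ := List.mem_iff_getElem.1 hl
    have hi45 : i < 45 := by rw [← length_gensL]; exact hi
    have h1 := hw.2 i (List.mem_range.2 hi45)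
    have hgd : gensL.getD i [] = gensL[i] := List.getD_eq_getElem _ _ hi
    have hok : okOps 18 gensL[i] = true := by
      have := ok_getD hi45
      rwa [hgd] at this
    have hgr := repA_of_ops hF h hr
    have hmem : ∀ w : W X, φ (evU m w) ∈ Kl (fun x => φ (m x)) S := by
      intro w
      rw [evU_hom]
      exact ev_mem_Kl (List.all_eq_true.2 fun a _ => hS a.1)
    show φ g ∈ Kl (fun x => φ (m x)) S
    rw [isG, Bool.or_eq_true, Bool.or_eq_true, hgd] at h1
    have hscg : Rep 18 (dec ω) (toPerm F ((s * g : threeJ3 F ω) : GL F9 F)) (gensL[i] ++ sc) := by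
      intro x hx
      rw [toPerm_apply, Subgroup.coe_mul, Units.val_mul, ← Matrix.mulVec_mulVec, smul_of hs, runF_append']
      have h3 := hr x hx
      rw [toPerm_apply] at h3
      rw [h3]
      exact scRep hF h _ (runF_lt hok hx)
    have hscg2 : Rep 18 (dec ω) (toPerm F ((s * (s * g) : threeJ3 F ω) : GL F9 F)) (gensL[i] ++ (sc ++ sc)) := by
      intro x hx
      rw [toPerm_apply, Subgroup.coe_mul, Units.val_mul, ← Matrix.mulVec_mulVec, smul_of hs, ← List.append_assoc, runF_append']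
      have h3 := hscg x hx
      rw [toPerm_apply] at h3
      rw [h3]
      refine scRep hF h _ ?_
      rw [runF_append']
      exact lt_sc (runF_lt hok hx)
    rcases h1 with h1 | h1 | h1
    · rw [← (D.rep_word hF h h1).inj hF h hgr]; exact hmem _
    · have h4 := (D.rep_word hF h h1).inj hF h (repA_of_ops hF h hscg)
      have h5 : φ g = φ (evU m (ws.getD i [])) := by rw [h4, map_mul, hφc s hsc, one_mul]
      rw [h5]; exact hmem _
    · have h4 := (D.rep_word hF h h1).inj hF h (repA_of_ops hF h hscg2)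
      have h5 : φ g = φ (evU m (ws.getD i [])) := by rw [h4, map_mul, map_mul, hφc s hsc, one_mul, one_mul]
      rw [h5]; exact hmem _
  rw [eq_top_iff]
  intro y _
  obtain ⟨x, rfl⟩ := hφ y
  have : x ∈ (Kl (fun x => φ (m x)) S).comap φ := by rw [key]; trivial
  exact this

end

end H94.J3Word
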