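import Cfsg.Agent.Lib.H94.M24Enum

/-!
Kernel-friendly evaluation: packed look-up tables for the action of a permutation on bitmasks,
population count, membership in the code; tree recursion for counting and checking.
-/

set_option autoImplicit false

namespace H94.M24Fast

open Cfsg H8.GolayCode H8.GolayCount H8.GolayBasic H8.M24Mem H32.M24Kit

/-! ### packed tables -/

/-- entry `i` of width `w` of the packed table `W` -/
def lk (w W i : ℕ) : ℕ := Nat.land (Nat.shiftRight W (Nat.mul w i)) (Nat.pred (Nat.pow 2 w))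

theorem lk_eq (w W i : ℕ) : lk w W i = (W >>> (w * i)) % 2 ^ w := by
  have h1 : lk w W i = (W >>> (w * i)) &&& (2 ^ w - 1) := rfl
  rw [h1, Nat.and_two_pow_sub_one_eq_mod]

theorem lk_lt (w W i : ℕ) : lk w W i < 2 ^ w := by
  rw [lk_eq]; exact Nat.mod_lt _ (by positivity)

theorem testBit_lk (w W i j : ℕ) : (lk w W i).testBit j = (decide (j < w) && W.testBit (w * i + j)) := by
  rw [lk_eq, Nat.testBit_mod_two_pow, Nat.testBit_shiftRight]

/-- packing of a function -/
def packF (w : ℕ) (f : ℕ → ℕ) (n : ℕ) : ℕ :=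
  Nat.rec (motive := fun _ => ℕ) 0 (fun i acc => Nat.lor acc (Nat.shiftLeft (f i) (Nat.mul w i))) n

theorem packF_succ (w : ℕ) (f : ℕ → ℕ) (n : ℕ) : packF w f (n + 1) = packF w f n ||| (f n <<< (w * n)) := rfl

theorem testBit_packF (w : ℕ) (f : ℕ → ℕ) (hf : ∀ i, f i < 2 ^ w) (j i : ℕ) (hj : j < w) : ∀ n,
    (packF w f n).testBit (w * i + j) = (decide (i < n) && (f i).testBit j) := by
  intro n
  induction n with
  | zero => simp [packF]
  | succ n ih =>
    rw [packF_succ, Nat.testBit_or, ih, Nat.testBit_shiftLeft]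
    rcases lt_trichotomy i n with h | h | h
    · have h1 : ¬ (w * n ≤ w * i + j) := by
        have : w * (i + 1) ≤ w * n := Nat.mul_le_mul_left _ h
        rw [Nat.mul_add, Nat.mul_one] at this
        omega
      have h2 : i < n + 1 := by omega
      simp [h, h1, h2]
    · subst h
      simp
    · have h1 : w * i + j - w * n ≥ w := by
        have : w * (n + 1) ≤ w * i := Nat.mul_le_mul_left _ h
        rw [Nat.mul_add, Nat.mul_one] at this
        omega
      have h2 : (f n).testBit (w * i + j - w * n) = false :=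
        Nat.testBit_lt_two_pow (lt_of_lt_of_le (hf n) (Nat.pow_le_pow_right (by norm_num) h1))
      have h3 : ¬ i < n := by omega
      have h4 : ¬ i < n + 1 := by omega
      simp [h2, h3, h4]

theorem lk_packF (w : ℕ) (f : ℕ → ℕ) (hf : ∀ i, f i < 2 ^ w) (n i : ℕ) (hi : i < n) :
    lk w (packF w f n) i = f i := by
  apply Nat.eq_of_testBit_eq
  intro j
  rw [testBit_lk]
  by_cases hj : j < w
  · rw [testBit_packF w f hf j i hj]
    simp [hj, hi]
  · rw [Nat.testBit_lt_two_pow (lt_of_lt_of_le (hf i) (Nat.pow_le_pow_right (by norm_num) (not_lt.1 hj)))]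
    simp [hj]

/-! ### action on masks -/

/-- raw table look-up -/
def tb (c i : ℕ) : ℕ := Nat.land (Nat.shiftRight c (Nat.mul 5 i)) 31

theorem tb_eq (c i : ℕ) : tb c i = tab c i := rfl

/-- image of the byte `v` in position `k` -/
def chunk (c k v : ℕ) : ℕ :=
  Nat.rec (motive := fun _ => ℕ) 0 (fun i acc => Nat.lor acc
    (Nat.mul (Nat.land (Nat.shiftRight v i) 1) (Nat.pow 2 (tb c (Nat.add (Nat.mul 8 k) i))))) 8

theorem bit_mul (v i x j : ℕ) : (Nat.mul (Nat.land (Nat.shiftRight v i) 1) (Nat.pow 2 x)).testBit j = true ↔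
    v.testBit i = true ∧ x = j := by
  have h1 : Nat.land (Nat.shiftRight v i) 1 = (v.testBit i).toNat := by
    have : Nat.land (Nat.shiftRight v i) 1 = (v >>> i) &&& 1 := rfl
    rw [this, Nat.and_one_is_mod, Nat.toNat_testBit]
    rw [Nat.shiftRight_eq_div_pow]
  rw [h1]
  cases v.testBit i
  · have : Nat.mul (false.toNat) (Nat.pow 2 x) = 0 := by
      show 0 * _ = 0
      rw [zero_mul]
    rw [this]; simp
  · have : Nat.mul (true.toNat) (Nat.pow 2 x) = 2 ^ x := by
      show 1 * _ = _
      rw [one_mul]; rfl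
    rw [this, Nat.testBit_two_pow]; simp

theorem testBit_rec (f : ℕ → ℕ) (v j : ℕ) : ∀ n, (Nat.rec (motive := fun _ => ℕ) 0 (fun i acc => Nat.lor acc
    (Nat.mul (Nat.land (Nat.shiftRight v i) 1) (Nat.pow 2 (f i)))) n : ℕ).testBit j = true ↔
      ∃ i < n, v.testBit i = true ∧ f i = j := by
  intro n
  induction n with
  | zero => simp
  | succ n ih =>
    have hstep : (Nat.rec (motive := fun _ => ℕ) 0 (fun i acc => Nat.lor acc
      (Nat.mul (Nat.land (Nat.shiftRight v i) 1) (Nat.pow 2 (f i)))) (n + 1) : ℕ) =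
        (Nat.rec (motive := fun _ => ℕ) 0 (fun i acc => Nat.lor acc
      (Nat.mul (Nat.land (Nat.shiftRight v i) 1) (Nat.pow 2 (f i)))) n : ℕ) |||
      (Nat.mul (Nat.land (Nat.shiftRight v n) 1) (Nat.pow 2 (f n))) := rfl
    rw [hstep, Nat.testBit_or, Bool.or_eq_true, ih, bit_mul]
    constructor
    · rintro (⟨i, hi, h⟩ | h)
      · exact ⟨i, by omega, h⟩
      · exact ⟨n, by omega, h⟩
    · rintro ⟨i, hi, h⟩
      rcases Nat.lt_succ_iff_lt_or_eq.1 hi with h' | h'
      · exact Or.inl ⟨i, h', h⟩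
      · subst h'; exact Or.inr h

theorem testBit_chunk (c k v j : ℕ) : (chunk c k v).testBit j = true ↔
    ∃ i < 8, v.testBit i = true ∧ tab c (8 * k + i) = j :=
  testBit_rec (fun i => tb c (Nat.add (Nat.mul 8 k) i)) v j 8

/-- the packed action table of the permutation table `c` -/
def Wof (c : ℕ) : ℕ := packF 24 (fun u => Nat.land (chunk c (Nat.div u 256) (Nat.mod u 256)) 0xffffff) 768

/-- action through the packed table -/
def actF (W m : ℕ) : ℕ :=
  Nat.lor (lk 24 W (Nat.land m 255)) (Nat.lor (lk 24 W (Nat.add 256 (Nat.land (Nat.shiftRight m 8) 255)))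
    (lk 24 W (Nat.add 512 (Nat.shiftRight m 16))))

theorem and_mask_lt (n : ℕ) : Nat.land n 0xffffff < 2 ^ 24 :=
  lt_of_le_of_lt Nat.and_le_right (by norm_num)

theorem testBit_mask (n j : ℕ) : (Nat.land n 0xffffff).testBit j = (n.testBit j && decide (j < 24)) := by
  have h : Nat.land n 0xffffff = n &&& (2 ^ 24 - 1) := rfl
  rw [h, Nat.and_two_pow_sub_one_eq_mod, Nat.testBit_mod_two_pow, Bool.and_comm]

theorem actF_eq {c : ℕ} (hc : okTab c = true) {m : ℕ} (hm : m < 2 ^ 24) : actF (Wof c) m = actN (tab c) m := by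
  have hlk : ∀ u < 768, lk 24 (Wof c) u = Nat.land (chunk c (u / 256) (u % 256)) 0xffffff := fun u hu =>
    lk_packF 24 _ (fun _ => and_mask_lt _) 768 u hu
  have h0 : Nat.land m 255 = m % 256 := Nat.and_two_pow_sub_one_eq_mod m 8
  have h1 : Nat.land (Nat.shiftRight m 8) 255 = (m >>> 8) % 256 := Nat.and_two_pow_sub_one_eq_mod _ 8
  have h2 : Nat.shiftRight m 16 = m >>> 16 := rfl
  have h1' : (m >>> 8) % 256 < 256 := Nat.mod_lt _ (by norm_num)
  have h2' : m >>> 16 < 256 := by rw [Nat.shiftRight_eq_div_pow]; omega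
  have ha : ∀ x, Nat.add 256 x = 256 + x := fun _ => rfl
  have ha' : ∀ x, Nat.add 512 x = 512 + x := fun _ => rfl
  unfold actF
  rw [h0, h1, h2, ha, ha', hlk _ (by omega), hlk _ (by omega), hlk _ (by omega)]
  rw [show m % 256 / 256 = 0 by omega, show m % 256 % 256 = m % 256 by omega,
    show (256 + (m >>> 8) % 256) / 256 = 1 by omega, show (256 + (m >>> 8) % 256) % 256 = (m >>> 8) % 256 by omega,
    show (512 + m >>> 16) / 256 = 2 by omega, show (512 + m >>> 16) % 256 = m >>> 16 by omega]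
  apply Nat.eq_of_testBit_eq
  intro j
  have hor : ∀ a b : ℕ, Nat.lor a b = a ||| b := fun _ _ => rfl
  rw [hor, hor, Nat.testBit_or, Nat.testBit_or, testBit_mask, testBit_mask, testBit_mask]
  rw [Bool.eq_iff_iff]
  simp only [Bool.or_eq_true, Bool.and_eq_true, decide_eq_true_eq, testBit_chunk, testBit_actN]
  have h8 : ∀ v i, i < 8 → (v % 256).testBit i = v.testBit i := by
    intro v i hi
    rw [show 256 = 2 ^ 8 by norm_num, Nat.testBit_mod_two_pow]
    simp [hi]
  constructor
  · rintro (⟨⟨i, hi, h, h'⟩, hj⟩ | ⟨⟨i, hi, h, h'⟩, hj⟩ | ⟨⟨i, hi, h, h'⟩, hj⟩)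
    · rw [h8 _ _ hi] at h
      exact ⟨i, by omega, h, by simpa using h'⟩
    · rw [h8 _ _ hi, Nat.testBit_shiftRight] at h
      exact ⟨8 + i, by omega, h, by simpa using h'⟩
    · rw [Nat.testBit_shiftRight] at h
      exact ⟨16 + i, by omega, h, by simpa using h'⟩
  · rintro ⟨i, hi, h, h'⟩
    have hj : j < 24 := by rw [← h']; exact H94.M24Enum.tab_lt hc hi
    by_cases h3 : i < 8
    · left
      exact ⟨⟨i, h3, by rw [h8 _ _ h3]; exact h, by simpa using h'⟩, hj⟩
    · by_cases h4 : i < 16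
      · right; left
        refine ⟨⟨i - 8, by omega, ?_, ?_⟩, hj⟩
        · rw [h8 _ _ (by omega), Nat.testBit_shiftRight]
          rw [show 8 + (i - 8) = i by omega]; exact h
        · rw [show 8 * 1 + (i - 8) = i by omega]; exact h'
      · right; right
        refine ⟨⟨i - 16, by omega, ?_, ?_⟩, hj⟩
        · rw [Nat.testBit_shiftRight, show 16 + (i - 16) = i by omega]; exact h
        · rw [show 8 * 2 + (i - 16) = i by omega]; exact h'

/-- test that `W` is the action table of the permutation table `c` of an element of `M24` -/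
def okW (c W : ℕ) : Bool := okTab c && Nat.beq (Wof c) W

theorem okW_spec {c W : ℕ} (h : okW c W = true) : okTab c = true ∧ ∀ m < 2 ^ 24, actF W m = actN (tab c) m := by
  unfold okW at h
  rw [Bool.and_eq_true] at h
  refine ⟨h.1, fun m hm => ?_⟩
  rw [← Nat.eq_of_beq_eq_true h.2]
  exact actF_eq h.1 hm

theorem okW_image {c W : ℕ} (h : okW c W = true) {m : ℕ} (hm : m < 2 ^ 24) : (fs m).image (pm c) = fs (actF W m) := by
  obtain ⟨h1, h2⟩ := okW_spec h
  rw [h2 m hm, image_fs h1]

theorem actF_lt {c W : ℕ} (h : okW c W = true) {m : ℕ} (hm : m < 2 ^ 24) : actF W m < 2 ^ 24 := by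
  obtain ⟨h1, h2⟩ := okW_spec h
  rw [h2 m hm]
  exact actN_lt _ (fun i hi => H94.M24Enum.tab_lt h1 hi) _

/-! ### population count and code membership -/

def P8 : ℕ := 0x8776766576656554766565546554544376656554655454436554544354434332766565546554544365545443544343326554544354434332544343324332322176656554655454436554544354434332655454435443433254434332433232216554544354434332544343324332322154434332433232214332322132212110
def C64 : ℕ := 0xe68fc00a4f80f85f40149f00db2ec037ee80c5fe40293e009dcdc0710d80831d406fdd00a06cc04cac80bebc40527c00575bc0bb9b80498b40a54b006afac0863a80742a4098ea002c19c0c0d98032c940de090011b8c0fd78800f6840e3a8000527c0e9e7801bf740f737003886c0d44680265640ca96007e65c092a58060b5408c750043c4c0af04805d1440b1d400b4f3c0583380aa234046e3008952c06592809782407b4200cfb1c0237180d161403da100f210c01ed080ecc04000000019703fde203e50803d97d03ccdc03b0a903a843039436038774037b010363eb035f9e034a3f03364a032ea00312d503082402f45102ecbb02d0ce02c56f02b91a02a1f0029d85028ec70272b2026a5802562d02438c023ff9022713021b66020af101f68401ee6e01d21b01c7ba01bbcf01a325019f50018c1201706701688d0154f8014159013d2c0125c60119b301034200ff3700e7dd00dba800ce0900b27c00aa960096e30085a10079d400613e005d4b0048ea00349f002c75001000000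

/-- fast population count -/
def popF (m : ℕ) : ℕ :=
  Nat.add (lk 4 P8 (Nat.land m 255)) (Nat.add (lk 4 P8 (Nat.land (Nat.shiftRight m 8) 255)) (lk 4 P8 (Nat.shiftRight m 16)))

theorem lk_P8 : ∀ v < 256, lk 4 P8 v = ∑ i ∈ Finset.range 8, (v.testBit i).toNat := by decide +kernel

theorem popF_eq {m : ℕ} (hm : m < 2 ^ 24) : popF m = pop m := by
  have h0 : Nat.land m 255 = m % 256 := Nat.and_two_pow_sub_one_eq_mod m 8
  have h1 : Nat.land (Nat.shiftRight m 8) 255 = (m >>> 8) % 256 := Nat.and_two_pow_sub_one_eq_mod _ 8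
  have h2 : Nat.shiftRight m 16 = m >>> 16 := rfl
  have h2' : m >>> 16 < 256 := by rw [Nat.shiftRight_eq_div_pow]; omega
  have ha : ∀ x y, Nat.add x y = x + y := fun _ _ => rfl
  unfold popF
  rw [h0, h1, h2, ha, ha, lk_P8 _ (Nat.mod_lt _ (by norm_num)), lk_P8 _ (Nat.mod_lt _ (by norm_num)),
    lk_P8 _ h2', pop_eq hm]
  have h8 : ∀ v i, i < 8 → (v % 256).testBit i = v.testBit i := by
    intro v i hi
    rw [show 256 = 2 ^ 8 by norm_num, Nat.testBit_mod_two_pow]
    simp [hi]
  rw [show (24 : ℕ) = 8 + (8 + 8) by norm_num, Finset.sum_range_add, Finset.sum_range_add]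
  refine congrArg₂ _ ?_ (congrArg₂ _ ?_ ?_)
  · apply Finset.sum_congr rfl
    intro i hi
    rw [h8 _ _ (Finset.mem_range.1 hi)]
  · apply Finset.sum_congr rfl
    intro i hi
    rw [h8 _ _ (Finset.mem_range.1 hi), Nat.testBit_shiftRight]
  · apply Finset.sum_congr rfl
    intro i hi
    rw [Nat.testBit_shiftRight, ← add_assoc]

/-- fast codeword -/
def cwF (k : ℕ) : ℕ := Nat.xor (lk 24 C64 (Nat.land k 63)) (lk 24 C64 (Nat.add 64 (Nat.shiftRight k 6)))

theorem lk_C64 : ∀ v < 64, lk 24 C64 v = cw v ∧ lk 24 C64 (64 + v) = cw (v * 64) := by decide +kernel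

theorem cwF_eq {k : ℕ} (hk : k < 4096) : cwF k = cw k := by
  have h0 : Nat.land k 63 = k % 64 := Nat.and_two_pow_sub_one_eq_mod k 6
  have h1 : Nat.shiftRight k 6 = k / 64 := by
    show k >>> 6 = _
    rw [Nat.shiftRight_eq_div_pow]
  have ha : ∀ x y, Nat.add x y = x + y := fun _ _ => rfl
  unfold cwF
  rw [h0, h1, ha, (lk_C64 _ (Nat.mod_lt _ (by norm_num))).1, (lk_C64 (k / 64) (by omega)).2]
  have hx : ∀ x y, Nat.xor x y = x ^^^ y := fun _ _ => rfl
  rw [hx, ← cw_xor]
  congr 1
  apply Nat.eq_of_testBit_eq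
  intro j
  rw [Nat.testBit_xor, show (64 : ℕ) = 2 ^ 6 by norm_num, Nat.testBit_mod_two_pow, mul_comm, Nat.testBit_two_pow_mul]
  rw [Nat.testBit_div_two_pow]
  by_cases h : j < 6
  · have : ¬ 6 ≤ j := by omega
    simp [h, this]
  · have h' : 6 ≤ j := by omega
    simp [h, h', Nat.sub_add_cancel h']

/-- fast test for membership in the code -/
def inC (m : ℕ) : Bool := Nat.beq (cwF (Nat.land m 4095)) m

theorem inC_spec {m : ℕ} (h : inC m = true) : m < 2 ^ 24 ∧ cw (m % 4096) = m := by
  unfold inC at h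
  have h := Nat.eq_of_beq_eq_true h
  have h0 : Nat.land m 4095 = m % 4096 := Nat.and_two_pow_sub_one_eq_mod m 12
  rw [h0, cwF_eq (Nat.mod_lt _ (by norm_num))] at h
  exact ⟨by rw [← h]; exact cw_lt _, h⟩

/-- fast test for octads -/
def isOct (m : ℕ) : Bool := cond (Nat.beq (popF m) 8) (inC m) false

theorem isOct_spec {m : ℕ} (h : isOct m = true) : m < 2 ^ 24 ∧ fs m ∈ octads := by
  unfold isOct at h
  cases h1 : Nat.beq (popF m) 8
  · rw [h1] at h; exact absurd h (by simp)
  · rw [h1, cond_true] at h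
    obtain ⟨h2, h3⟩ := inC_spec h
    refine ⟨h2, fs_mem_GS h2 h3, ?_⟩
    rw [card_fs h2, ← popF_eq h2]
    exact Nat.eq_of_beq_eq_true h1

/-! ### tree recursion -/

/-- number of `i < 2^d` with `P (a + i)` -/
def cntT (P : ℕ → Bool) (d : ℕ) : ℕ → ℕ :=
  Nat.rec (motive := fun _ => ℕ → ℕ) (fun a => cond (P a) 1 0)
    (fun d ih a => Nat.add (ih a) (ih (Nat.add a (Nat.pow 2 d)))) d

theorem cntT_eq (P : ℕ → Bool) : ∀ d a, cntT P d a = ((Finset.range (2 ^ d)).filter fun i => P (a + i) = true).card := by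
  intro d
  induction d with
  | zero =>
    intro a
    have h1 : cntT P 0 a = cond (P a) 1 0 := rfl
    rw [h1, pow_zero, Finset.range_one, Finset.filter_singleton, add_zero]
    cases P a <;> simp
  | succ d ih =>
    intro a
    have h1 : cntT P (d + 1) a = cntT P d a + cntT P d (a + 2 ^ d) := rfl
    rw [h1, ih, ih, Finset.card_filter, Finset.card_filter, Finset.card_filter, pow_succ, mul_two,
      Finset.sum_range_add]
    congr 1
    apply Finset.sum_congr rfl
    intro i _
    rw [add_assoc]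

/-- `P (a + i)` for all `i < 2^d` -/
def allT (P : ℕ → Bool) (d : ℕ) : ℕ → Bool :=
  Nat.rec (motive := fun _ => ℕ → Bool) (fun a => P a)
    (fun d ih a => cond (ih a) (ih (Nat.add a (Nat.pow 2 d))) false) d

theorem allT_spec (P : ℕ → Bool) : ∀ d a, allT P d a = true → ∀ i < 2 ^ d, P (a + i) = true := by
  intro d
  induction d with
  | zero =>
    intro a h i hi
    have : i = 0 := by simpa using hi
    subst this
    exact h
  | succ d ih =>
    intro a h i hi
    have h1 : allT P (d + 1) a = cond (allT P d a) (allT P d (a + 2 ^ d)) false := rfl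
    rw [h1] at h
    cases h2 : allT P d a
    · rw [h2] at h; exact absurd h (by simp)
    · rw [h2, cond_true] at h
      by_cases h3 : i < 2 ^ d
      · exact ih a h2 i h3
      · have := ih _ h (i - 2 ^ d) (by rw [pow_succ] at hi; omega)
        rwa [show a + 2 ^ d + (i - 2 ^ d) = a + i by omega] at this

end H94.M24Fast
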