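import Cfsg.Agent.Lib.H94.M24Inv

/-!
The normaliser and centraliser of a subgroup of order 7 of `M24`.
-/

set_option autoImplicit false

namespace H94.M24Seven

open Cfsg H8.GolayCode H8.GolayCount H8.GolayBasic H8.M24Mem H8.M24Trans H32.M24Kit H32.Sextet H32.Octad H94.M24Fast
  H94.M24Lists H94.M24Enum H94.M24Cls H94.M24Fix
open H94.M24Inv (pt_injOn)
open scoped Pointwise

/-- table of an element of order 7 -/
def Z : ℕ := 0xbc8eda400f614d554d2bb222470462
def WZ : ℕ := 0x95a08195208195a08095208094a08194208194a08094208085a08185208185a08085208084a08184208184a08084208095808195008195808095008094808194008194808094008085808185008185808085008084808184008184808084008095a00195200195a00095200094a00194200194a00094200085a00185200185a00085200084a00184200184a00084200095800195000195800095000094800194000194800094000085800185000185800085000084800184000184800084000091a08191208191a08091208090a08190208190a08090208081a08181208181a08081208080a08180208180a08080208091808191008191808091008090808190008190808090008081808181008181808081008080808180008180808080008091a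00191200191a00091200090a00190200190a00090200081a00181200181a00081200080a00180200180a00080200091800191000191800091000090800190000190800090000081800181000181800081000080800180000180800080000015a08115208115a08015208014a08114208114a08014208005a08105208105a08005208004a08104208104a08004208015808115008115808015008014808114008114808014008005808105008105808005008004808104008104808004008015a00115200115a00015200014a00114200114a00014200005a00105200105a00005200004a00104200104a00004200015800115000115800015000014800114000114800014000005800105000105800005000004800104000104800004000011a08111208111a08011208010a08110208110a08010208001a08101208101a08001208000a08100208100a08000208011808111008111808011008010808110008110808010008001808101008101808001008000808100008100808000008011a00111200111a00011200010a00110200110a00010200001a00101200101a00001200000a00100200100a000002000118001110001118000110000108001100001108000100000018001010001018000010000008001000001008000000000281e60281660281c60281460201e60201660201c60201460281a60281260281860281060201a60201260201860201060081e6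0081660081c60081460001e60001660001c60001460081a60081260081860081060001a60001260001860001060281e20281620281c20281420201e20201620201c20201420281a20281220281820281020201a20201220201820201020081e20081620081c20081420001e20001620001c20001420081a20081220081820081020001a20001220001820001020281e40281640281c40281440201e40201640201c40201440281a40281240281840281040201a40201240201840201040081e40081640081c40081440001e40001640001c40001440081a40081240081840081040001a40001240001840001040281e00281600281c00281400201e00201600201c00201400281a00281200281800281000201a00201200201800201000081e00081600081c00081400001e00001600001c00001400081a00081200081800081000001a00001200001800001000280e60280660280c60280460200e60200660200c60200460280a60280260280860280060200a60200260200860200060080e60080660080c60080460000e60000660000c60000460080a60080260080860080060000a60000260000860000060280e20280620280c20280420200e20200620200c20200420280a20280220280820280020200a20200220200820200020080e20080620080c20080420000e20000620000c20000420080a20080220080820080020000a20000220000820000020280e402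80640280c40280440200e40200640200c40200440280a40280240280840280040200a40200240200840200040080e40080640080c40080440000e40000640000c40000440080a40080240080840080040000a40000240000840000040280e00280600280c00280400200e00200600200c00200400280a00280200280800280000200a00200200200800200000080e00080600080c00080400000e00000600000c00000400080a00080200080800080000000a0000020000080000000042411e42411a42411642411242411c42411842411442411042011e42011a42011642011242011c42011842011442011042410e42410a42410642410242410c42410842410442410042010e42010a42010642010242010c42010842010442010040411e40411a40411640411240411c40411840411440411040011e40011a40011640011240011c40011840011440011040410e40410a40410640410240410c40410840410440410040010e40010a40010640010240010c40010840010440010042401e42401a42401642401242401c42401842401442401042001e42001a42001642001242001c42001842001442001042400e42400a42400642400242400c42400842400442400042000e42000a42000642000242000c42000842000442000040401e40401a40401640401240401c40401840401440401040001e40001a40001640001240001c40001840001440001040400e404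00a40400640400240400c40400840400440400040000e40000a40000640000240000c40000840000440000002411e02411a02411602411202411c02411802411402411002011e02011a02011602011202011c02011802011402011002410e02410a02410602410202410c02410802410402410002010e02010a02010602010202010c02010802010402010000411e00411a00411600411200411c00411800411400411000011e00011a00011600011200011c00011800011400011000410e00410a00410600410200410c00410800410400410000010e00010a00010600010200010c00010800010400010002401e02401a02401602401202401c02401802401402401002001e02001a02001602001202001c02001802001402001002400e02400a02400602400202400c02400802400402400002000e02000a02000602000202000c02000802000402000000401e00401a00401600401200401c00401800401400401000001e00001a00001600001200001c00001800001400001000400e00400a00400600400200400c00400800400400400000000e00000a00000600000200000c000008000004000000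
def C12 : ℕ := 0x245d6381a20ce43656ef2c28952166
def C13 : ℕ := 0x48a34986a373da55aae80198485a47
def C23 : ℕ := 0xba91094e346b9e63d8955b0a918820
def NU : ℕ := 0x2006f9068e8a2a261ef02d9496ae66

theorem okWZ : okW Z WZ = true := by decide +kernel
theorem okZ : okTab Z = true := (okW_spec okWZ).1

/-- commuting tables -/
def okCZ (c : ℕ) : Bool := okTab c && (List.range 24).all fun i => Nat.beq (tab c (tab Z i)) (tab Z (tab c i))

theorem okCZ_tab {c : ℕ} (h : okCZ c = true) : okTab c = true := by
  unfold okCZ at h
  rw [Bool.and_eq_true] at h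
  exact h.1

theorem okCZ_comm {c : ℕ} (h : okCZ c = true) : pm c * pm Z = pm Z * pm c := by
  have hc := okCZ_tab h
  unfold okCZ at h
  rw [Bool.and_eq_true, List.all_eq_true] at h
  apply Equiv.ext
  intro p
  apply idx_injective
  rw [Equiv.Perm.mul_apply, Equiv.Perm.mul_apply, pm_idx hc, pm_idx okZ, pm_idx okZ, pm_idx hc]
  exact Nat.eq_of_beq_eq_true (h.2 _ (List.mem_range.2 (idx_lt p)))

theorem ok12 : okCZ C12 = true := by decide +kernel
theorem ok13 : okCZ C13 = true := by decide +kernel
theorem ok23 : okCZ C23 = true := by decide +kernel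
theorem okNU : okTab NU = true := by decide +kernel

theorem nu_conj : pm NU * pm Z = pm Z * pm Z * pm NU := by
  have h : ∀ i < 24, tab NU (tab Z i) = tab Z (tab Z (tab NU i)) := by decide +kernel
  apply Equiv.ext
  intro p
  apply idx_injective
  simp only [Equiv.Perm.mul_apply]
  rw [pm_idx okNU, pm_idx okZ, pm_idx okZ, pm_idx okZ, pm_idx okNU]
  exact h _ (idx_lt p)

theorem Z7 : pm Z ^ 7 = 1 := by
  have h : ∀ i < 24, tab Z (tab Z (tab Z (tab Z (tab Z (tab Z (tab Z i)))))) = i := by decide +kernel
  apply Equiv.ext
  intro p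
  apply idx_injective
  simp only [pow_succ, pow_zero, one_mul, Equiv.Perm.mul_apply, Equiv.Perm.one_apply]
  rw [pm_idx okZ, pm_idx okZ, pm_idx okZ, pm_idx okZ, pm_idx okZ, pm_idx okZ, pm_idx okZ]
  exact h _ (idx_lt p)

theorem Zp (i j : ℕ) (hi : i < 24) (h : tab Z i = j) : pm Z (pt i) = pt j := by rw [pm_pt okZ i hi, h]

theorem Z_ne : pm Z ≠ 1 := by
  intro h
  have h1 := Zp 0 2 (by norm_num) (by decide +kernel)
  rw [h, Equiv.Perm.one_apply] at h1
  have := congrArg idx h1
  rw [idx_pt 0 (by norm_num), idx_pt 2 (by norm_num)] at this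
  omega

theorem Z_fix {p : GolayPt} : pm Z p = p ↔ p = pt 23 ∨ p = pt 4 ∨ p = pt 9 := by
  have h : ∀ i < 24, tab Z i = i → i = 23 ∨ i = 4 ∨ i = 9 := by decide +kernel
  constructor
  · intro hp
    have := congrArg idx hp
    rw [pm_idx okZ] at this
    rcases h _ (idx_lt p) this with h | h | h
    · left; rw [← h, pt_idx]
    · right; left; rw [← h, pt_idx]
    · right; right; rw [← h, pt_idx]
  · rintro (rfl | rfl | rfl)
    · exact Zp 23 23 (by norm_num) (by decide +kernel)
    · exact Zp 4 4 (by norm_num) (by decide +kernel)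
    · exact Zp 9 9 (by norm_num) (by decide +kernel)

/-- the invariant octads -/
theorem inv_cert : allB (fun n => cond (Nat.beq (popF n) 8) (cond (Nat.beq (actF WZ n) n)
    (cond (Nat.beq n 0x82402f) true (cond (Nat.beq n 0x659280) true (Nat.beq n 0x182d50))) true) true) basisL 0 = true := by
  decide +kernel

theorem inv_oct {o : Finset GolayPt} (ho : o ∈ octads) (h : o.image (pm Z) = o) :
    o = fs 0x82402f ∨ o = fs 0x659280 ∨ o = fs 0x182d50 := by
  have h1 := allGS inv_cert ho.1
  have h2 : popF (msk o) = 8 := by rw [popF_eq (msk_lt o), ← card_eq_pop]; exact ho.2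
  have h3 : actF WZ (msk o) = msk o := by
    apply fs_inj (actF_lt okWZ (msk_lt o)) (msk_lt o)
    rw [← okW_image okWZ (msk_lt o), fs_msk, h]
  rw [h2, h3] at h1
  rw [show Nat.beq 8 8 = true from rfl, cond_true, show Nat.beq (msk o) (msk o) = true by simp, cond_true, cond_or,
    cond_or] at h1
  simp only [Nat.beq_eq] at h1
  rcases h1 with h1 | h1 | h1
  · left; rw [← fs_msk o, h1]
  · right; left; rw [← fs_msk o, h1]
  · right; right; rw [← fs_msk o, h1]

theorem O1_mem : fs 0x82402f ∈ octads := (isOct_spec (by decide +kernel)).2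

theorem O1_inv : (fs 0x82402f).image (pm Z) = fs 0x82402f := by
  rw [okW_image okWZ (by norm_num)]
  congr 1

theorem tbit {m i : ℕ} (hi : i < 24) : pt i ∈ fs m ↔ Nat.testBit m i = true := by rw [mem_fs, idx_pt i hi]

/-- elements of `M24` commuting with or inverting `pm Z` -/
def Rel (g : Equiv.Perm GolayPt) : Prop :=
  g ∈ M24 ∧ (g * pm Z = pm Z * g ∨ g * pm Z = (pm Z)⁻¹ * g)

theorem Rel.fix {g : Equiv.Perm GolayPt} (h : Rel g) {p : GolayPt} (hp : pm Z p = p) : pm Z (g p) = g p := by
  rcases h.2 with h | h
  · have := congrArg (fun f : Equiv.Perm GolayPt => f p) h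
    simp only [Equiv.Perm.mul_apply] at this
    rw [← this, hp]
  · have := congrArg (fun f : Equiv.Perm GolayPt => f p) h
    simp only [Equiv.Perm.mul_apply] at this
    rw [hp, Equiv.Perm.eq_inv_iff_eq] at this
    exact this

theorem Rel.inv {g : Equiv.Perm GolayPt} (h : Rel g) {o : Finset GolayPt} (ho : o.image (pm Z) = o) :
    (o.image g).image (pm Z) = o.image g := by
  rcases h.2 with h | h
  · rw [← image_mul, ← h, image_mul, ho]
  · have h2 : pm Z * g * pm Z = g := by rw [mul_assoc, h, mul_inv_cancel_left]
    conv_lhs => rw [← ho]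
    rw [← image_mul, ← image_mul, h2]

theorem Rel.O1 {g : Equiv.Perm GolayPt} (h : Rel g) (h23 : g (pt 23) = pt 23) :
    (fs 0x82402f).image g = fs 0x82402f := by
  have h1 := inv_oct ((H32.Octad.image_mem_octads h.1).2 O1_mem) (h.inv O1_inv)
  have h2 : pt 23 ∈ (fs 0x82402f).image g := by
    rw [← h23]; exact Finset.mem_image_of_mem _ ((tbit (by norm_num)).2 (by decide))
  rcases h1 with h1 | h1 | h1
  · exact h1
  · rw [h1, tbit (by norm_num)] at h2; exact absurd h2 (by decide)
  · rw [h1, tbit (by norm_num)] at h2; exact absurd h2 (by decide)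

/-- the orbit of the point 0 under powers of `pm Z` -/
theorem pw0 : ∀ i < 24, Nat.testBit 0x02402f i = true → ∃ k < 7, (tab Z)^[k] 0 = i := by decide +kernel

theorem pm_pow {c : ℕ} (h : okTab c = true) (i : ℕ) (hi : i < 24) (n : ℕ) :
    (pm c ^ n) (pt i) = pt ((tab c)^[n] i) ∧ (tab c)^[n] i < 24 := by
  induction n with
  | zero => exact ⟨rfl, hi⟩
  | succ n ih =>
    rw [pow_succ', Equiv.Perm.mul_apply, ih.1, pm_pt h _ ih.2, Function.iterate_succ_apply']
    exact ⟨rfl, tab_lt h ih.2⟩

theorem exists_pow {p : GolayPt} (hp : p ∈ fs 0x82402f) (h23 : p ≠ pt 23) : ∃ k : ℕ, p = (pm Z ^ k) (pt 0) := by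
  have h1 : Nat.testBit 0x02402f (idx p) = true := by
    rw [mem_fs] at hp
    have : ∀ i < 24, Nat.testBit 0x82402f i = true → i ≠ 23 → Nat.testBit 0x02402f i = true := by decide
    apply this _ (idx_lt p) hp
    intro h; exact h23 (by rw [← h, pt_idx])
  obtain ⟨k, -, hk⟩ := pw0 _ (idx_lt p) h1
  exact ⟨k, by rw [(pm_pow okZ 0 (by norm_num) k).1, hk, pt_idx]⟩

/-! ### the centraliser -/

noncomputable abbrev σ : M24 := ⟨pm Z, pm_mem Z⟩
noncomputable abbrev C : Subgroup M24 := Subgroup.centralizer {σ}

theorem mem_C {g : M24} : g ∈ C ↔ g.1 * pm Z = pm Z * g.1 := by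
  rw [Subgroup.mem_centralizer_iff]
  constructor
  · intro h
    exact (congrArg Subtype.val (h σ rfl)).symm
  · rintro h _ rfl
    exact Subtype.ext h.symm

theorem mem_C_of {c : ℕ} (h : okCZ c = true) : (⟨pm c, pm_mem c⟩ : M24) ∈ C := mem_C.2 (okCZ_comm h)

noncomputable abbrev H1 : Subgroup M24 := C ⊓ MulAction.stabilizer M24 (pt 23)
noncomputable abbrev H2 : Subgroup M24 := H1 ⊓ MulAction.stabilizer M24 (pt 4)

theorem rel_of {g : M24} (h : g ∈ C) : Rel g.1 := ⟨g.2, Or.inl (mem_C.1 h)⟩

theorem orbC : MulAction.orbit C (pt 23) = {pt 23, pt 4, pt 9} := by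
  ext q
  constructor
  · rintro ⟨g, rfl⟩
    have h1 := (rel_of g.2).fix (Z_fix.2 (Or.inl rfl))
    exact Z_fix.1 h1
  · rintro (rfl | rfl | rfl)
    · exact MulAction.mem_orbit_self _
    · exact ⟨⟨_, mem_C_of ok12⟩, by
        show pm C12 (pt 23) = pt 4
        rw [pm_pt (okCZ_tab ok12) 23 (by norm_num)]
        exact congrArg pt (by decide +kernel)⟩
    · exact ⟨⟨_, mem_C_of ok13⟩, by
        show pm C13 (pt 23) = pt 9
        rw [pm_pt (okCZ_tab ok13) 23 (by norm_num)]
        exact congrArg pt (by decide +kernel)⟩

theorem pt_ne {i j : ℕ} (hi : i < 24) (hj : j < 24) (h : i ≠ j) : pt i ≠ pt j := by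
  intro h1
  have := congrArg idx h1
  rw [idx_pt i hi, idx_pt j hj] at this
  exact h this

theorem mem23 : (⟨pm C23, pm_mem C23⟩ : M24) ∈ H1 := ⟨mem_C_of ok23, by
  show pm C23 (pt 23) = pt 23
  rw [pm_pt (okCZ_tab ok23) 23 (by norm_num)]
  exact congrArg pt (by decide +kernel)⟩

theorem orb1 : MulAction.orbit H1 (pt 4) = {pt 4, pt 9} := by
  ext q
  constructor
  · rintro ⟨g, rfl⟩
    have h1 := (rel_of g.2.1).fix (Z_fix.2 (Or.inr (Or.inl rfl)))
    rcases Z_fix.1 h1 with h | h | h
    · exfalso
      have h23 : (g : M24).1 (pt 23) = pt 23 := g.2.2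
      exact pt_ne (by norm_num) (by norm_num) (by norm_num) ((g : M24).1.injective (h.trans h23.symm))
    · left; exact h
    · right; exact h
  · rintro (rfl | rfl)
    · exact MulAction.mem_orbit_self _
    · exact ⟨⟨_, mem23⟩, by
        show pm C23 (pt 4) = pt 9
        rw [pm_pt (okCZ_tab ok23) 4 (by norm_num)]
        exact congrArg pt (by decide +kernel)⟩

theorem Zpow_mem (k : ℕ) : (⟨pm Z ^ k, M24.pow_mem (pm_mem Z) k⟩ : M24) ∈ H2 := by
  have hfix : ∀ p, pm Z p = p → (pm Z ^ k) p = p := by
    intro p hp
    induction k with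
    | zero => rfl
    | succ k ih => rw [pow_succ, Equiv.Perm.mul_apply, hp, ih]
  refine ⟨⟨mem_C.2 (Commute.pow_self (pm Z) k).eq, ?_⟩, ?_⟩
  · exact hfix _ (Z_fix.2 (Or.inl rfl))
  · exact hfix _ (Z_fix.2 (Or.inr (Or.inl rfl)))

theorem orb2 : MulAction.orbit H2 (pt 0) = {p | p ∈ fs 0x02402f} := by
  ext q
  constructor
  · rintro ⟨g, rfl⟩
    have h23 : (g : M24).1 (pt 23) = pt 23 := g.2.1.2
    have h1 := (rel_of g.2.1.1).O1 h23
    have h2 : (g : M24).1 (pt 0) ∈ fs 0x82402f := by
      rw [← h1]; exact Finset.mem_image_of_mem _ ((tbit (by norm_num)).2 (by decide))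
    have h3 : (g : M24).1 (pt 0) ≠ pt 23 := by
      intro h
      exact pt_ne (by norm_num) (by norm_num) (by norm_num) ((g : M24).1.injective (h.trans h23.symm))
    show (g : M24).1 (pt 0) ∈ fs 0x02402f
    rw [mem_fs] at h2 ⊢
    have : ∀ i < 24, Nat.testBit 0x82402f i = true → i ≠ 23 → Nat.testBit 0x02402f i = true := by decide
    apply this _ (idx_lt _) h2
    intro h; exact h3 (by rw [← pt_idx ((g : M24).1 (pt 0)), h])
  · intro hq
    have hq' : q ∈ fs 0x02402f := hq
    rw [mem_fs] at hq'
    obtain ⟨k, -, hk⟩ := pw0 _ (idx_lt q) hq'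
    refine ⟨⟨_, Zpow_mem k⟩, ?_⟩
    show (pm Z ^ k) (pt 0) = q
    rw [(pm_pow okZ 0 (by norm_num) k).1, hk, pt_idx]

/-- an element commuting with `pm Z` and fixing 23, 0 and 4 is trivial -/
theorem triv {g : Equiv.Perm GolayPt} (hg : g ∈ M24) (hc : g * pm Z = pm Z * g) (h23 : g (pt 23) = pt 23)
    (h4 : g (pt 4) = pt 4) (h0 : g (pt 0) = pt 0) : g = 1 := by
  apply H32.OctadStab.fix_eq_one O1_mem (p := pt 4) (by rw [tbit (by norm_num)]; decide) hg ?_ h4
  intro x hx
  by_cases hx23 : x = pt 23
  · rw [hx23, h23]
  · obtain ⟨k, rfl⟩ := exists_pow hx hx23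
    have h1 : g * pm Z ^ k = pm Z ^ k * g := (show Commute g (pm Z) from hc).pow_right k
    have := congrArg (fun f : Equiv.Perm GolayPt => f (pt 0)) h1
    simp only [Equiv.Perm.mul_apply] at this
    rw [this, h0]

theorem bot3 : H2 ⊓ MulAction.stabilizer M24 (pt 0) = ⊥ := by
  rw [eq_bot_iff]
  intro g hg
  rw [Subgroup.mem_bot]
  exact Subtype.ext (triv g.2 (mem_C.1 hg.1.1.1) hg.1.1.2 hg.1.2 hg.2)

theorem card_C : Nat.card C = 42 := by
  have h0 := H94.M24Pair.card_inf_stab C (pt 23)
  have h1 := H94.M24Pair.card_inf_stab H1 (pt 4)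
  have h2 := H94.M24Pair.card_inf_stab H2 (pt 0)
  have e0 : ({pt 23, pt 4, pt 9} : Set GolayPt).ncard = 3 := by
    rw [Set.ncard_eq_three]
    exact ⟨_, _, _, pt_ne (by norm_num) (by norm_num) (by norm_num), pt_ne (by norm_num) (by norm_num) (by norm_num),
      pt_ne (by norm_num) (by norm_num) (by norm_num), rfl⟩
  have e1 : ({pt 4, pt 9} : Set GolayPt).ncard = 2 := Set.ncard_pair (pt_ne (by norm_num) (by norm_num) (by norm_num))
  have e2 : {p | p ∈ fs 0x02402f}.ncard = 7 := by
    have : {p | p ∈ fs 0x02402f} = ((fs 0x02402f : Finset GolayPt) : Set GolayPt) := rfl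
    rw [this, Set.ncard_coe_finset, card_fs (by norm_num)]
    decide +kernel
  rw [orbC, e0] at h0
  rw [orb1, e1] at h1
  rw [orb2, e2, bot3, Subgroup.card_bot] at h2
  have f2 : Nat.card H2 = 7 := by rw [← h2]
  have f1 : Nat.card H1 = 14 := by rw [← h1, f2]
  rw [← h0, f1]

/-! ### no element inverts -/

theorem no_inv {g : Equiv.Perm GolayPt} (hg : g ∈ M24) (h : g * pm Z = (pm Z)⁻¹ * g) : False := by
  -- reduce to an element fixing 23, 4, 9
  have key : ∀ g : Equiv.Perm GolayPt, g ∈ M24 → g * pm Z = (pm Z)⁻¹ * g → g (pt 23) = pt 23 → g (pt 4) = pt 4 →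
      False := by
    intro g hg h h23 h4
    have hR : Rel g := ⟨hg, Or.inr h⟩
    have h9 : g (pt 9) = pt 9 := by
      rcases Z_fix.1 (hR.fix (Z_fix.2 (Or.inr (Or.inr rfl)))) with h | h | h
      · exact absurd (g.injective (h.trans h23.symm)) (pt_ne (by norm_num) (by norm_num) (by norm_num))
      · exact absurd (g.injective (h.trans h4.symm)) (pt_ne (by norm_num) (by norm_num) (by norm_num))
      · exact h
    have h1 := hR.O1 h23
    have h2 : g (pt 0) ∈ fs 0x82402f := by
      rw [← h1]; exact Finset.mem_image_of_mem _ ((tbit (by norm_num)).2 (by decide))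
    have h3 : g (pt 0) ≠ pt 23 := fun h => pt_ne (by norm_num) (by norm_num) (by norm_num) (g.injective (h.trans h23.symm))
    obtain ⟨k, hk⟩ := exists_pow h2 h3
    -- `f = z^{-k} g` fixes 0 as well
    have hZk : ∀ p, pm Z p = p → (pm Z ^ k)⁻¹ p = p := by
      intro p hp
      rw [Equiv.Perm.inv_eq_iff_eq]
      have : ∀ n, (pm Z ^ n) p = p := by
        intro n
        induction n with
        | zero => rfl
        | succ n ih => rw [pow_succ, Equiv.Perm.mul_apply, hp, ih]
      exact (this k).symm
    have hfM : (pm Z ^ k)⁻¹ * g ∈ M24 := M24.mul_mem (M24.inv_mem (M24.pow_mem (pm_mem Z) k)) hg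
    have hf0 : ((pm Z ^ k)⁻¹ * g) (pt 0) = pt 0 := by
      rw [Equiv.Perm.mul_apply, hk, Equiv.Perm.inv_eq_iff_eq]
    have hf23 : ((pm Z ^ k)⁻¹ * g) (pt 23) = pt 23 := by
      rw [Equiv.Perm.mul_apply, h23]; exact hZk _ (Z_fix.2 (Or.inl rfl))
    have hf4 : ((pm Z ^ k)⁻¹ * g) (pt 4) = pt 4 := by
      rw [Equiv.Perm.mul_apply, h4]; exact hZk _ (Z_fix.2 (Or.inr (Or.inl rfl)))
    have hf9 : ((pm Z ^ k)⁻¹ * g) (pt 9) = pt 9 := by
      rw [Equiv.Perm.mul_apply, h9]; exact hZk _ (Z_fix.2 (Or.inr (Or.inr rfl)))
    have hfi : ((pm Z ^ k)⁻¹ * g) * pm Z = (pm Z)⁻¹ * ((pm Z ^ k)⁻¹ * g) := by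
      rw [mul_assoc, h, ← mul_assoc, ← mul_assoc]
      congr 1
      exact (((Commute.refl (pm Z)).pow_left k).inv_left.inv_right).eq
    set f := (pm Z ^ k)⁻¹ * g with hfdef
    -- images of z^k 0
    have hstep : ∀ p q, f p = q → f (pm Z p) = (pm Z)⁻¹ q := by
      intro p q hpq
      have := congrArg (fun e : Equiv.Perm GolayPt => e p) hfi
      simp only [Equiv.Perm.mul_apply] at this
      rw [this, hpq]
    have inv_pt : ∀ i j, i < 24 → tab Z i = j → (pm Z)⁻¹ (pt j) = pt i := by
      intro i j hi hij
      rw [Equiv.Perm.inv_eq_iff_eq, Zp i j hi hij]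
    have s1 : f (pt 2) = pt 17 := by
      have := hstep _ _ hf0
      rwa [Zp 0 2 (by norm_num) (by decide +kernel), inv_pt 17 0 (by norm_num) (by decide +kernel)] at this
    have s2 : f (pt 1) = pt 5 := by
      have := hstep _ _ s1
      rwa [Zp 2 1 (by norm_num) (by decide +kernel), inv_pt 5 17 (by norm_num) (by decide +kernel)] at this
    have s3 : f (pt 3) = pt 14 := by
      have := hstep _ _ s2
      rwa [Zp 1 3 (by norm_num) (by decide +kernel), inv_pt 14 5 (by norm_num) (by decide +kernel)] at this
    -- the octad through 23, 4, 9, 0, z 0 contains z^3 0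
    have hA : fs 0xa0031d ∈ octads := (isOct_spec (by decide +kernel)).2
    have hB : fs 0x821253 ∈ octads := (isOct_spec (by decide +kernel)).2
    have hAim := (H32.Octad.image_mem_octads hfM).2 hA
    have mA : ∀ i < 24, Nat.testBit 0xa0031d i = true → f (pt i) ∈ (fs 0xa0031d).image f :=
      fun i hi hb => Finset.mem_image_of_mem _ ((tbit hi).2 hb)
    have m23 := mA 23 (by norm_num) (by decide)
    have m4 := mA 4 (by norm_num) (by decide)
    have m9 := mA 9 (by norm_num) (by decide)
    have m0 := mA 0 (by norm_num) (by decide)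
    have m1 := mA 2 (by norm_num) (by decide)
    have m3 := mA 3 (by norm_num) (by decide)
    rw [hf23] at m23
    rw [hf4] at m4
    rw [hf9] at m9
    rw [hf0] at m0
    rw [s1] at m1
    rw [s3] at m3
    have heq : (fs 0xa0031d).image f = fs 0x821253 := by
      apply octad_unique hAim hB (u := {pt 23, pt 4, pt 9, pt 0, pt 17})
      · have : ({pt 23, pt 4, pt 9, pt 0, pt 17} : Finset GolayPt) = Finset.image pt {23, 4, 9, 0, 17} := by
          simp only [Finset.image_insert, Finset.image_singleton]
        rw [this, Finset.card_image_of_injOn]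
        · decide
        · intro i hi j hj h
          have hs : ∀ i ∈ ({23, 4, 9, 0, 17} : Finset ℕ), i < 24 := by decide
          by_contra hne
          exact pt_ne (hs i hi) (hs j hj) hne h
      · intro x hx
        simp only [Finset.mem_insert, Finset.mem_singleton] at hx
        rcases hx with rfl | rfl | rfl | rfl | rfl <;> assumption
      · intro x hx
        simp only [Finset.mem_insert, Finset.mem_singleton] at hx
        rcases hx with rfl | rfl | rfl | rfl | rfl
        · exact (tbit (by norm_num)).2 (by decide)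
        · exact (tbit (by norm_num)).2 (by decide)
        · exact (tbit (by norm_num)).2 (by decide)
        · exact (tbit (by norm_num)).2 (by decide)
        · exact (tbit (by norm_num)).2 (by decide)
    rw [heq, tbit (by norm_num)] at m3
    exact absurd m3 (by decide)
  -- move the fixed points back
  have hR : Rel g := ⟨hg, Or.inr h⟩
  have comp : ∀ c : M24, c ∈ C → ∀ g : Equiv.Perm GolayPt, g * pm Z = (pm Z)⁻¹ * g →
      (c.1 * g) * pm Z = (pm Z)⁻¹ * (c.1 * g) := by
    intro c hc g h
    have h1 : c.1 * (pm Z)⁻¹ = (pm Z)⁻¹ * c.1 := ((show Commute c.1 (pm Z) from mem_C.1 hc).inv_right).eq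
    rw [mul_assoc, h, ← mul_assoc, h1, mul_assoc]
  have h23 : g (pt 23) ∈ MulAction.orbit C (pt 23) := by
    rw [orbC]; exact Z_fix.1 (hR.fix (Z_fix.2 (Or.inl rfl)))
  obtain ⟨c, hc⟩ := h23
  have hc' : (c : M24).1 (pt 23) = g (pt 23) := hc
  have hg1 : (c : M24)⁻¹.1 * g ∈ M24 := M24.mul_mem ((c : M24)⁻¹).2 hg
  have hg1i := comp (c : M24)⁻¹ (C.inv_mem c.2) g h
  have hg123 : ((c : M24)⁻¹.1 * g) (pt 23) = pt 23 := by
    rw [Equiv.Perm.mul_apply, ← hc']
    exact (c : M24).1.symm_apply_apply _
  have hR1 : Rel ((c : M24)⁻¹.1 * g) := ⟨hg1, Or.inr hg1i⟩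
  have h4 : ((c : M24)⁻¹.1 * g) (pt 4) ∈ MulAction.orbit H1 (pt 4) := by
    rw [orb1]
    rcases Z_fix.1 (hR1.fix (Z_fix.2 (Or.inr (Or.inl rfl)))) with h | h | h
    · exact absurd (((c : M24)⁻¹.1 * g).injective (h.trans hg123.symm)) (pt_ne (by norm_num) (by norm_num) (by norm_num))
    · left; exact h
    · right; exact h
  obtain ⟨e, he⟩ := h4
  have he' : (e : M24).1 (pt 4) = ((c : M24)⁻¹.1 * g) (pt 4) := he
  have he23 : (e : M24).1 (pt 23) = pt 23 := e.2.2
  refine key ((e : M24)⁻¹.1 * ((c : M24)⁻¹.1 * g)) (M24.mul_mem ((e : M24)⁻¹).2 hg1)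
    (comp (e : M24)⁻¹ (C.inv_mem e.2.1) _ hg1i) ?_ ?_
  · rw [Equiv.Perm.mul_apply, hg123]
    show (e : M24).1⁻¹ (pt 23) = pt 23
    rw [Equiv.Perm.inv_eq_iff_eq, he23]
  · rw [Equiv.Perm.mul_apply, ← he']
    exact (e : M24).1.symm_apply_apply _

end H94.M24Seven
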