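import Mathlib
import Cfsg.Agent.Lib.H35.StemPerf
import Cfsg.Agent.Lib.H63.J2U3
import Cfsg.Agent.Lib.H94.TCJ2A
import Cfsg.Agent.Lib.H94.TCJ2B
import Cfsg.Agent.Lib.H94.TCJ2C

set_option autoImplicit false
set_option maxRecDepth 100000
set_option linter.all false

namespace H94.MulJ2
open Subgroup H35.Stem H35.TC H40.PermCode 

abbrev X := Fin 4

/-- exponents of the letters -/
def nn : X → ℕ := ![7, 7, 7, 7]

/-- codes of the generators -/
def gcode : Fin 4 → ℕ := ![0x31978b24f2f988925626110c2582b9706641219145e50300b07e5b1c0a4ba4823894a45a29908a81f268f83a3c0e0d0004b0d0d8323a2a8606230288982a4e158509420098b88c241108c1e28200387a3b080dc6a32050585a2a13820121b108780c0c0285c2212038341604018040439, 0x3118ca26026968ac472d978b23d21974aa541992cc22d160c4be2a29128923a2e10048442b89c6a4614878b01f1092036381a0648237298c89c170b0b8a04f0a1307e15210744a450888876201e0f84c0c1c8686c0a180bc502b040484607078181a1c058600813080380409008140600, 0x2a950c2602f17cac5c2293c86491c174c662188c0a2402d0d8564c14928b02713118b6242c8848250178d05c1c1c86c76571b9386a3e0c0c8a6521f8f45a14268a896132411c24441183c8420070783a3c1d02c14330b05c122c140940e101107c1a050d0642a03088081801040180800,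 0x31944c2602c12c9a5c2d938b25f280ccaa321e8c0c45727968ba3b2f1285048239187822109083e3a0f0aca64526100001a178d846182b1502e521b85454191f0b42649138484a111a910860e208fc1a1c058e05834188245c08148984810030803a0c0d8102c140103c0a0a0081c0639]
theorem gok : ∀ s, okc 9 100 (gcode s) (gcode s) = true := by intro s; fin_cases s <;> decide +kernel
noncomputable def gp (s : Fin 4) : Equiv.Perm (Fin 100) := ofCode (finCoding 100) 9 (gcode s) (gcode s) (gok s)
theorem grep (s : Fin 4) : Rep (finCoding 100) 9 (gp s) (gcode s) := rep_ofCode _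
theorem grepi (s : Fin 4) : Rep (finCoding 100) 9 (gp s)⁻¹ (gcode s) := rep_ofCode_inv _
theorem ap_eq (T i : ℕ) : H63.PC.ap T i = tab 9 T i := by
  unfold H63.PC.ap tab
  exact Nat.and_two_pow_sub_one_eq_mod (T >>> (9 * i)) 9
theorem grep' (s : Fin 4) : H63.PC.Rep 100 (gcode s) (gp s) := by
  intro i
  rw [ap_eq]
  exact (grep s i).symm
theorem g100_eq : ∀ s : Fin 4, H63.QT.g100.get (s : ℕ) = gcode s := by
  intro s
  fin_cases s <;> decide +kernel
theorem gmem (s : Fin 4) : gp s ∈ H63.J2.ps.range := by
  rw [H63.J2.ps_range]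
  refine subset_closure ⟨s, s.2, ?_⟩
  rw [g100_eq]
  exact grep' s
theorem S100_eq {π : Equiv.Perm (Fin 100)} (h : π ∈ H63.J2.S100) : ∃ s : Fin 4, π = gp s := by
  obtain ⟨s, hs, hr⟩ := h
  refine ⟨⟨s, hs⟩, ?_⟩
  have h2 := g100_eq ⟨s, hs⟩
  simp only at h2
  rw [h2] at hr
  exact hr.unique (grep' ⟨s, hs⟩)

/-- codes -/
def code : X → ℕ := ![0x31058c24d1e96430060e880702c2012088092e02028433003056560d07cbe261d8940e012c06c24492d8d01a451b00c4e1e288389e4626178224b318c882372d0141653119385a3f2e8b832352388838540b948602a1e008aa50210f85e4a2b8401e33020a04821098e87215050c45200, 0x3109c92402c0b86c2a2b118822d1611052150f8cc7c5707950701131864440801034b80630148be5a080dc86392a91c2c5e1a85c40120294450240d13c6861158c4964c1d8849a3a180787e142d9400e091306c0613008387832251648a2f129387a230e120845d0c01016530e8301400, 0x2a154582e0a15c26101b0d43c600902008091c8849e501598880331816c9a3c050b4941906920685e0e944442f2912c743e3086c6e5806080ac030b97cb4462194c024c1f81cb21a138c83e25010f430151482c385d130ec48411183c0c0e248a0705c2218c224e2111c2c31150148a00, 0x1a0943a3804130a4221f95c0620198e808542701c2e4909878a20907838b8301d8c87a3c0002c04420d0c49e2b301348821228a850463196890052c8580c58119548e3e2f17ca6612506002100d9044c56280b8381f0c8289614218b45e15160e4b62413834800c1b0446a5d091885237]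
def codei : X → ℕ := ![0x1798cc24f248c846531f8acbc43079302a1c140686e141a898c0331804080560f8d078552804c5a5712048be17238180a59160ec403e060b80419088884a5826860020a1c9208c0913878105a250e0b61d2112c425d0d988085103904620e068d87a4e1480ca85222970540b1d0588800, 0x2598c5843208e010450f900245f2816c764e02108641e170384a281484cc20a1d16822561e824b260109441a1513890784d1f1746e2d29050542308178b05715970aa313106c1e30061244c3529888060b0d0bc94071b0e4a8200c0d0983f278588c020280438480e91066060c91c2e00, 0x51386e5817100300c250b44a342f0c4c463150ec7c502882092281d1141e42030b0020b1581c284d138e03c480b0e4a60d1a96cb44126088084b1e1808c612780c360e1185c4015098f4a432109647e191b090881d17814385f2e95c125c0904086330d11ca8561304404551807c5200, 0x19808483b1309c0849068c85e2c2d0705454129749a1b1e94c745e0a88ca031148d06e39099003c092d8a08a44239581c600001c0a632b9187c4808868240f1e0d8023505874c40c1597070580c138c2190f8fc2e22288b820142780c0c2025928140821058985f290b460552c9044243]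
theorem okk : ∀ x, okc 9 100 (code x) (codei x) = true := by intro x; fin_cases x <;> decide +kernel
noncomputable def perm (x : X) : Equiv.Perm (Fin 100) := ofCode (finCoding 100) 9 (code x) (codei x) (okk x)
theorem rep_c (x : X) : Rep (finCoding 100) 9 (perm x) (code x) := rep_ofCode _
theorem rep_ci (x : X) : Rep (finCoding 100) 9 (perm x)⁻¹ (codei x) := rep_ofCode_inv _
theorem hnw : 100 ≤ 2 ^ 9 := by norm_num
def wl : X → W (Fin 4) := ![[(1, true), (0, true), (3, true), (0, true), (3, true), (2, true), (1, true), (2, true), (0, true), (3, true)], [(0, true), (3, true), (0, true), (2, true), (1, true), (2, true), (3, true), (2, true), (0, true), (1, true), (0, true), (1, true), (2, true), (0, true)], [(1, true), (2, true), (1, true), (3, true), (0, true), (2, true), (1, true), (2, true), (3, true), (0, true)], [(1, true), (2, true), (1, true), (3, true), (0, true), (2, true), (3, true), (0, true), (2, true), (0, true), (2, true), (1, true), (3, true)]]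
theorem mem (x : X) : perm x ∈ H63.J2.ps.range := by
  have h : ∀ x, eqc 9 100 (code x) (H35.Stem.evc 9 100 gcode gcode (wl x)) = true := by intro x; fin_cases x <;> decide +kernel
  rw [(Rep.eq_iff (rep_c x) (rep_evc hnw grep grepi (wl x))).1 (h x)]
  exact ev_mem (S := fun _ => true) (fun s _ => gmem s) (by simp)
noncomputable def g (x : X) : H63.J2.ps.range := ⟨perm x, mem x⟩
theorem tr {w : W X} (h : isOne 9 100 (H35.Stem.evc 9 100 code codei w) = true) : ev g w = 1 :=
  ev_one_of_code hnw (g := g) rep_c rep_ci h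
theorem hord (x : X) : g x ^ nn x = 1 := by
  have h : ∀ x, isOne 9 100 (H35.Stem.evc 9 100 code codei (rep [(x, true)] (nn x))) = true := by intro x; fin_cases x <;> decide +kernel
  have h1 := tr (h x)
  rw [ev_rep] at h1
  change (g x * 1) ^ nn x = 1 at h1
  rwa [mul_one] at h1
theorem hn : ∀ x, Nat.Coprime (nn x) 60 := by decide

/-- letters of level A -/
def SA : X → Bool := ![true, true, true, true]

/-- lower letters of level A -/
def TA : X → Bool := ![true, true, true, false]

def wdA : H94.TCJ2A.Lt → W X
  | .b => [(0, true)]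
  | .bi => [(0, false)]
  | .d => [(1, true)]
  | .di => [(1, false)]
  | .c => [(2, true)]
  | .ci => [(2, false)]
  | .e => [(3, true)]
  | .ei => [(3, false)]

def rulesA : List (Rule X) := [
  .low [(0, true), (1, true), (0, true), (1, true), (0, true), (1, true)],
  .low [(0, true), (2, true), (0, false), (2, true), (1, false), (2, false)],
  .low [(1, true), (2, true), (1, true), (2, true), (1, true), (2, true)],
  .ord 0,
  .low [(0, true), (0, true), (2, false), (1, false), (0, false), (1, true), (2, true)],
  .low [(0, true), (2, true), (0, true), (2, true), (0, true), (2, true), (0, true), (2, true)],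
  .low [(0, true), (2, true), (1, true), (1, true), (0, true), (2, false), (1, true), (2, true)],
  .conj [(0, true), (0, true), (3, true)] [(0, true), (0, true)] [(3, true)] 7,
  .conj [(3, true)] [(2, false), (0, true), (1, false)] [(2, false), (0, false), (1, true), (0, false)] 7,
  .conj [(3, true)] [(0, true), (2, false), (0, false)] [(0, false), (1, true), (2, false), (0, false), (2, false)] 7,
  .conj [(3, true)] [(1, false), (2, false), (2, false), (0, false), (1, false)] [(1, true), (2, false), (0, true)] 7]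

def cenA : H94.TCJ2A.Lt → Bool
  | _ => false

def CA : CP X H94.TCJ2A.Lt where
  iv := fun _ => false
  wd := wdA
  cen := cenA
  q := 60
  exact := rulesA.map fun r => red (fun _ => false) (r.word nn)

theorem htA : ∀ r ∈ rulesA, ∀ w ∈ r.needs nn, ev g w = 1 := by
  have h : ((rulesA.flatMap (Rule.needs nn)).all fun w => isOne 9 100 (H35.Stem.evc 9 100 code codei w)) = true := by decide +kernel
  intro r hr w hw
  exact tr (List.all_eq_true.1 h w (List.mem_flatMap.2 ⟨r, hr, hw⟩))
theorem hcA : ∀ z, CA.cen z = true → ev g (CA.wd z) = 1 := by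
  intro z hz
  refine tr ?_
  cases z <;> first | (exact absurd hz (by decide)) | decide +kernel

theorem lvA {Γ : Type} [Group Γ] [Finite Γ] {σ : Γ →* H63.J2.ps.range} {f : X → Γ} (h : Lifts σ 60 nn g f) (hi : Inj g f TA) :
    Nat.card (Kl f SA) ≤ 200 * Nat.card (Kl f TA) := by
  have hh : CA.Holds f := holds h hi rfl (fun _ h => absurd (show false = true from h) (by decide)) rfl (by decide +kernel) htA hcA
  obtain ⟨hinv, hrel⟩ := CP.relOK hh (inv := H94.TCJ2A.inv) (mm := H94.TCJ2A.mm) (ex := H94.TCJ2A.extra) (by intro x; cases x <;> decide +kernel)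
    (by intro x y; cases x <;> cases y <;> decide +kernel) (by decide +kernel)
  exact level (subs := H94.TCJ2A.subs) (fun H hH => H94.TCJ2A.main hinv hrel.1 hrel.2 hH) (by decide +kernel) (by
    intro x hx
    fin_cases x
    · exact ⟨.b, rfl⟩
    · exact ⟨.d, rfl⟩
    · exact ⟨.c, rfl⟩
    · exact ⟨.e, rfl⟩)

theorem lvdA {P' : Type} [Group P'] [Finite P'] {f : X → P'} (hiv : ∀ x, CA.iv x = true → f x * f x = 1)
    (ht : ∀ r ∈ rulesA, ev f (r.word nn) = 1) :
    Nat.card (Kl f SA) ≤ 200 * Nat.card (Kl f TA) := by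
  have hh : CA.Holds f := holdsD (rules := rulesA) (n := nn) hiv rfl ht (fun z hz => absurd hz (by cases z <;> decide)) (fun z hz => absurd hz (by cases z <;> decide))
  obtain ⟨hinv, hrel⟩ := CP.relOK hh (inv := H94.TCJ2A.inv) (mm := H94.TCJ2A.mm) (ex := H94.TCJ2A.extra) (by intro x; cases x <;> decide +kernel)
    (by intro x y; cases x <;> cases y <;> decide +kernel) (by decide +kernel)
  exact level (subs := H94.TCJ2A.subs) (fun H hH => H94.TCJ2A.main hinv hrel.1 hrel.2 hH) (by decide +kernel) (by
    intro x hx
    fin_cases x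
    · exact ⟨.b, rfl⟩
    · exact ⟨.d, rfl⟩
    · exact ⟨.c, rfl⟩
    · exact ⟨.e, rfl⟩)

/-- letters of level B -/
def SB : X → Bool := ![true, true, true, false]

/-- lower letters of level B -/
def TB : X → Bool := ![true, false, false, false]

def wdB : H94.TCJ2B.Lt → W X
  | .b => [(0, true)]
  | .bi => [(0, false)]
  | .d => [(1, true)]
  | .di => [(1, false)]
  | .c => [(2, true)]
  | .ci => [(2, false)]

def rulesB : List (Rule X) := [
  .conj [(0, false), (2, true)] [(1, false)] [(2, false)] 7,
  .conj [(2, false), (1, false)] [(0, false)] [(0, false), (0, false)] 7,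
  .ord 1,
  .conj [(1, true), (2, true)] [(0, true)] [(0, false), (0, false), (0, false)] 7,
  .conj [(1, false), (2, false), (0, false)] [(1, true), (1, true)] [(0, false)] 7,
  .conj [(1, false), (0, false), (2, true), (0, false)] [(1, false)] [(2, false)] 7,
  .conj [(0, true), (0, true), (1, true), (2, true)] [(1, true)] [(1, true), (1, true)] 7]

def cenB : H94.TCJ2B.Lt → Bool
  | _ => false

def CB : CP X H94.TCJ2B.Lt where
  iv := fun _ => false
  wd := wdB
  cen := cenB
  q := 60
  exact := rulesB.map fun r => red (fun _ => false) (r.word nn)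

theorem htB : ∀ r ∈ rulesB, ∀ w ∈ r.needs nn, ev g w = 1 := by
  have h : ((rulesB.flatMap (Rule.needs nn)).all fun w => isOne 9 100 (H35.Stem.evc 9 100 code codei w)) = true := by decide +kernel
  intro r hr w hw
  exact tr (List.all_eq_true.1 h w (List.mem_flatMap.2 ⟨r, hr, hw⟩))
theorem hcB : ∀ z, CB.cen z = true → ev g (CB.wd z) = 1 := by
  intro z hz
  refine tr ?_
  cases z <;> first | (exact absurd hz (by decide)) | decide +kernel

theorem lvB {Γ : Type} [Group Γ] [Finite Γ] {σ : Γ →* H63.J2.ps.range} {f : X → Γ} (h : Lifts σ 60 nn g f) (hi : Inj g f TB) :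
    Nat.card (Kl f SB) ≤ 864 * Nat.card (Kl f TB) := by
  have hh : CB.Holds f := holds h hi rfl (fun _ h => absurd (show false = true from h) (by decide)) rfl (by decide +kernel) htB hcB
  obtain ⟨hinv, hrel⟩ := CP.relOK hh (inv := H94.TCJ2B.inv) (mm := H94.TCJ2B.mm) (ex := H94.TCJ2B.extra) (by intro x; cases x <;> decide +kernel)
    (by intro x y; cases x <;> cases y <;> decide +kernel) (by decide +kernel)
  exact level (subs := H94.TCJ2B.subs) (fun H hH => H94.TCJ2B.main hinv hrel.1 hrel.2 hH) (by decide +kernel) (by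
    intro x hx
    fin_cases x
    · exact ⟨.b, rfl⟩
    · exact ⟨.d, rfl⟩
    · exact ⟨.c, rfl⟩
    · exact absurd hx (by decide))

theorem lvdB {P' : Type} [Group P'] [Finite P'] {f : X → P'} (hiv : ∀ x, CB.iv x = true → f x * f x = 1)
    (ht : ∀ r ∈ rulesB, ev f (r.word nn) = 1) :
    Nat.card (Kl f SB) ≤ 864 * Nat.card (Kl f TB) := by
  have hh : CB.Holds f := holdsD (rules := rulesB) (n := nn) hiv rfl ht (fun z hz => absurd hz (by cases z <;> decide)) (fun z hz => absurd hz (by cases z <;> decide))
  obtain ⟨hinv, hrel⟩ := CP.relOK hh (inv := H94.TCJ2B.inv) (mm := H94.TCJ2B.mm) (ex := H94.TCJ2B.extra) (by intro x; cases x <;> decide +kernel)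
    (by intro x y; cases x <;> cases y <;> decide +kernel) (by decide +kernel)
  exact level (subs := H94.TCJ2B.subs) (fun H hH => H94.TCJ2B.main hinv hrel.1 hrel.2 hH) (by decide +kernel) (by
    intro x hx
    fin_cases x
    · exact ⟨.b, rfl⟩
    · exact ⟨.d, rfl⟩
    · exact ⟨.c, rfl⟩
    · exact absurd hx (by decide))

/-- letters of level C -/
def SC : X → Bool := ![true, true, true, true]

/-- lower letters of level C -/
def TC : X → Bool := ![true, true, true, false]

def wdC : H94.TCJ2C.Lt → W X
  | .b => [(0, true)]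
  | .bi => [(0, false)]
  | .d => [(1, true)]
  | .di => [(1, false)]
  | .c => [(2, true)]
  | .ci => [(2, false)]
  | .e => [(3, true)]
  | .ei => [(3, false)]

def rulesC : List (Rule X) := [
  .low [(0, true), (1, true), (0, true), (1, true), (0, true), (1, true)],
  .low [(0, true), (2, true), (0, false), (2, true), (1, false), (2, false)],
  .low [(1, true), (2, true), (1, true), (2, true), (1, true), (2, true)],
  .low [(0, true), (0, true), (0, true), (0, true), (0, true), (0, true), (0, true)],
  .low [(0, true), (0, true), (2, false), (1, false), (0, false), (1, true), (2, true)],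
  .low [(0, true), (2, true), (0, true), (2, true), (0, true), (2, true), (0, true), (2, true)],
  .low [(0, true), (2, true), (1, true), (1, true), (0, true), (2, false), (1, true), (2, true)],
  .low [(0, true), (0, true), (3, true), (0, true), (0, true), (3, false), (0, false), (0, false), (3, false)],
  .low [(3, true), (2, false), (0, true), (1, false), (3, false), (0, true), (1, false), (0, true), (2, true)],
  .low [(3, true), (0, true), (2, false), (0, false), (3, false), (2, true), (0, true), (2, true), (1, false), (0, true)],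
  .low [(3, true), (1, false), (2, false), (2, false), (0, false), (1, false), (3, false), (0, false), (2, true), (1, false)],
  .low [(0, true), (0, true), (0, true), (3, false), (0, true), (0, true), (0, true), (3, false)]]

def cenC : H94.TCJ2C.Lt → Bool
  | _ => false

def CC : CP X H94.TCJ2C.Lt where
  iv := fun _ => false
  wd := wdC
  cen := cenC
  q := 60
  exact := rulesC.map fun r => red (fun _ => false) (r.word nn)

theorem htC : ∀ r ∈ rulesC, ∀ w ∈ r.needs nn, ev g w = 1 := by
  have h : ((rulesC.flatMap (Rule.needs nn)).all fun w => isOne 9 100 (H35.Stem.evc 9 100 code codei w)) = true := by decide +kernel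
  intro r hr w hw
  exact tr (List.all_eq_true.1 h w (List.mem_flatMap.2 ⟨r, hr, hw⟩))
theorem hcC : ∀ z, CC.cen z = true → ev g (CC.wd z) = 1 := by
  intro z hz
  refine tr ?_
  cases z <;> first | (exact absurd hz (by decide)) | decide +kernel

theorem lvdC {P' : Type} [Group P'] [Finite P'] {f : X → P'} (hiv : ∀ x, CC.iv x = true → f x * f x = 1)
    (ht : ∀ r ∈ rulesC, ev f (r.word nn) = 1) :
    Nat.card (Kl f SC) ≤ 100 * Nat.card (Kl f TC) := by
  have hh : CC.Holds f := holdsD (rules := rulesC) (n := nn) hiv rfl ht (fun z hz => absurd hz (by cases z <;> decide)) (fun z hz => absurd hz (by cases z <;> decide))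
  obtain ⟨hinv, hrel⟩ := CP.relOK hh (inv := H94.TCJ2C.inv) (mm := H94.TCJ2C.mm) (ex := H94.TCJ2C.extra) (by intro x; cases x <;> decide +kernel)
    (by intro x y; cases x <;> cases y <;> decide +kernel) (by decide +kernel)
  exact level (subs := H94.TCJ2C.subs) (fun H hH => H94.TCJ2C.main hinv hrel.1 hrel.2 hH) (by decide +kernel) (by
    intro x hx
    fin_cases x
    · exact ⟨.b, rfl⟩
    · exact ⟨.d, rfl⟩
    · exact ⟨.c, rfl⟩
    · exact ⟨.e, rfl⟩)

/-- codes of the permutations of the 200 cosets -/
def pcode : X → ℕ := ![0x92b28ab5a974c676bf7887bb53839391c2716fabb8456e61c59f8e85674452793e3bc3643ab958b6a339c737703395a59e949c309b4ec163802db72ca8ba365dc4bd7bbc29285181982568a09d7e758fbea67d2fad21b48840824f3d355984547c1ba75f691dc018ae17a2165b476c6b4614728b904b772413ac604a7f224d4c109ab3b1b06daf86aa7a3c0d43a4a1320c6697963199560a8c65558d8909413f5e122e0f191173485c07066a2a20622749055a57501f1a03420e1c3834022b26231e0815010b0400, 0xc5b3c16fb276667ebf8cc3a6c66e82afb874797f9bb1a8708a72c7673f55beaa3b924384a98396c0879ca257a046593e6b31386aba2fa44b9f7cab73c42b9d982a8e7d296341614025bb5f515d7124864ead542136b490894fbc696c1c56b9281bc26d8db019b65a911e2e1a5c6239a1303dbd815078136888b74a20b54916476094a3a70f6542aeac8b32343aa597379e450b35999a0a9593538f09772c857b085e807a274c751d232226336411104d18045b585215034844143c020c0e2d05071f0117120d0600,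 0xc0a86fc1be6eba75bfc773a38851c4b271c68ab768b9725079813f98c37a663baa3e4ec2a05546c5a7a1423880399e9231963d9a9f44ab3aafada46d7d43b3782c875db4418d938264868f3624ae4084a22191838928bb8b679b2594576bbd1b5fb08c63905ab547bc4a4b1e155b56353497a645132ab852a97f2612b61118191d580f8eb12b6570ac760d9985a50c30339d3c9c1495376a7e09292e7b4f5361175c747c626077164c1f076c69485e0423102759544d05492d0a020b1c322f2201201a06030e0800, 0xa1a8c5c36eb29b5e5a7f83bb6a5baf7e6299b5c07266434a85597a8a7bc7938c75b66f4b9a689c38379f57a633bdaaa0a55cb1bfb7402ec2c479c6777456962a9d70ae89514d263eba97249e807d814542a3914ca72128201f1e942f7639ad547c6c841ac13a18ab67a49264871b472cbe2b13bc8d166bb9b86195ac1182b43d501db358b053520e600d318ea90ca232178f23340a48983c2d8890558b73860835156907127806714f0b096d056563275f5d3044034e491046413f3b3604012925221c19140f0002]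
def pcodei : X → ℕ := ![0x9dc1af87a5b79161bf778684bc8aa2b38da0c47145c64443415f734eb43fc38b6576983a9f5d397cae977b959346327f35349996b9c7b85378ad2c2f54c52b70bd40ac69ba6e808f4b7a7567853ea8be51c079c22155b69bb5b14259581c637dab362ea49019b04d6427881f5b156aa114312d68bba981136d924948524c17205a57b2aa3b0f296f28a76c3da6a39e0c9c896b0b9a38339474258e8c091b838218087e50074a721a1206620d661123605e5c04564f262247240e3c3702302a051e1d1601100a0300, 0xadbbc78bbd66c5a0bfa9556e7e9369b74e614b72c6c3b263b840763f8da8a3b144bc3a91459d589b8f37899eb332338839a130462fa65f712d8664be3eaf704f9f7829a4a2b95425b4c0858e2824b5522bc221b68cae7ab0c4ba656c97946d50acc1421b835a81477d267b5b156099149c6aaa752e137c536f771822904d4a10489a360fa5418280ab98560da73b59953873343c1c3d9657925d092a8a878468231d7f791f1e744c065e206b675c62170449120e51031a19430a020b35312c2707010816110c0500, 0xbeb6a0b9aba4c4c7bfc3695f71c1b251b44b618489b843668f7a8e3f91a74fc69f553a8dbc779ea3939936346e943cac5696326c819875637d44826570b573bb867e3b787480ae9b4e2f8b242baaaf88213ec025bdb1b740c5c28c1c6a301bb36fa9417f64232822671985265a6214466b59a2132950bab02aa5121f5d5e101a60a154928a9d8379ada69535a8909a9c317c5857370a9738092c0f8742522d72154d6d7b170876061e5c470b6805484927205b33534c4a1645023d390c0e2e011d041118030d0700,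 0xaa8dc58fc49063b494579a54bc7f504f93a6b54945c29543b985694c60993bc6739c975e7639c7989e7c87a1c1a3b6317e894d6da95d752d363c53a82bac842e5b29af65bd4a797bbeb87a67abad8e228c6ba78b2ab32086a5c31c6651bb25a25fb21a5c19b74e3f17c01696babfae449d8a2c68424183471f128274a4b01132590f7814b1770e920d8048300c626aa09f0b27349b383d156c912f58568808711881077d350672706f6e46055a6404613752260355234b1002403e3a1e331d2824211b0a13000901]
theorem pok : ∀ x, okc 8 200 (pcode x) (pcodei x) = true := by intro x; fin_cases x <;> decide +kernel
noncomputable def pp (x : X) : Equiv.Perm (Fin 200) := ofCode (finCoding 200) 8 (pcode x) (pcodei x) (pok x)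
theorem prep (x : X) : Rep (finCoding 200) 8 (pp x) (pcode x) := rep_ofCode _
theorem prepi (x : X) : Rep (finCoding 200) 8 (pp x)⁻¹ (pcodei x) := rep_ofCode_inv _
theorem ptr {w : W X} (h : isOne 8 200 (H35.Stem.evc 8 200 pcode pcodei w) = true) : ev pp w = 1 :=
  (Rep.isOne_iff (rep_evc (by norm_num) (g := pp) prep prepi w)).1 h
theorem pt2 {w : W X} (h : (isOne 9 100 (H35.Stem.evc 9 100 code codei w) && isOne 8 200 (H35.Stem.evc 8 200 pcode pcodei w)) = true) :
    ev (pr pp g) w = 1 := by
  rw [Bool.and_eq_true] at h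
  rw [ev_pr, tr h.1, ptr h.2]
  rfl
def wg : Fin 4 → W X := ![[(3, true), (2, true), (3, true), (0, false), (2, false), (3, true), (2, false), (0, true)], [(0, true), (1, false), (0, true), (2, false), (1, true), (2, false), (1, true)], [(2, true), (1, false), (2, true), (1, false), (2, true), (1, false)], [(0, true), (3, false), (2, false), (3, true), (1, true), (1, true), (0, true), (0, true)]]
def zw : W X := [(0, true), (0, true), (0, true), (3, false), (0, true), (0, true), (0, true), (3, false)]
theorem gp_eq (s : Fin 4) : (⟨gp s, gmem s⟩ : H63.J2.ps.range) = ev g (wg s) := by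
  have h : ∀ s, eqc 9 100 (gcode s) (H35.Stem.evc 9 100 code codei (wg s)) = true := by intro s; fin_cases s <;> decide +kernel
  exact eq_ev_of_code hnw (g := g) rep_c rep_ci (p := ⟨gp s, gmem s⟩) (grep s) (h s)
theorem hwg : ∀ s, ((wg s).all fun a => SA a.1) = true := by decide +kernel
theorem gen : Kl g SA = ⊤ := by
  rw [eq_top_iff]
  rintro ⟨y, hy⟩ -
  have h1 : H63.J2.ps.range ≤ (Kl g SA).map (H63.J2.ps.range).subtype := by
    conv_lhs => rw [H63.J2.ps_range]
    rw [closure_le]
    intro π hπ
    obtain ⟨s, rfl⟩ := S100_eq hπ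
    exact ⟨⟨gp s, gmem s⟩, by rw [gp_eq]; exact ev_mem_Kl (hwg s), rfl⟩
  obtain ⟨z, hz, hzy⟩ := h1 hy
  have : z = ⟨y, hy⟩ := Subtype.ext hzy
  rw [← this]
  exact hz
theorem card_G : Nat.card H63.J2.ps.range = 604800 := by
  rw [← Nat.card_congr H63.J2.rangeIso.toEquiv, H63.J2.card_P0]
theorem card_top : Nat.card (Kl g SA) = 604800 := by
  rw [gen, Nat.card_congr (Subgroup.topEquiv (G := H63.J2.ps.range)).toEquiv, card_G]
theorem htCd : ∀ r ∈ rulesC, ev g (r.word nn) = 1 := by
  have h : (rulesC.all fun r => isOne 9 100 (H35.Stem.evc 9 100 code codei (r.word nn))) = true := by decide +kernel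
  intro r hr
  exact tr (List.all_eq_true.1 h r hr)
theorem card_low : 6048 ≤ Nat.card (Kl g SB) := by
  have g1 := lvdC (f := g) (fun x h => absurd (show false = true from h) (by decide)) htCd
  have e1 : Kl g SC = Kl g SA := by congr 1
  have e2 : Kl g TC = Kl g SB := by congr 1
  rw [e1, e2, card_top] at g1
  omega
theorem bound (Γ : Type) [Group Γ] [Finite Γ] (σ : Γ →* H63.J2.ps.range) (f : X → Γ) (h : Lifts σ 60 nn g f) :
    Nat.card (Kl f SA) ≤ 1209600 := by
  have e1 : Kl f TA = Kl f SB := by congr 1
  have e2 : Kl g TA = Kl g SB := by congr 1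
  have c1 : Nat.card (Kl f TB) ≤ 7 := card_Kl_one (x0 := 0) (by decide) (by norm_num) (h.ord 0)
  have f2 := lvB h (h.inj_one hn (x0 := 0) (by decide))
  have i1 : Inj g f TA := h.inj (by rw [e1, e2]; have := card_low; omega)
  have f1 := lvA h i1
  rw [e1] at f1
  omega
theorem noExt4 : NoExt H63.J2.ps.range 4 := noExt_of_bound (q := 60) (by norm_num) hord hn gen bound (by rw [card_G]; norm_num)
theorem noExt3 : NoExt H63.J2.ps.range 3 := noExt_of_bound (q := 60) (by norm_num) hord hn gen bound (by rw [card_G]; norm_num)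
theorem noExt5 : NoExt H63.J2.ps.range 5 := noExt_of_bound (q := 60) (by norm_num) hord hn gen bound (by rw [card_G]; norm_num)
theorem pord (x : X) : pp x ^ nn x = 1 := by
  have h : ∀ x, isOne 8 200 (H35.Stem.evc 8 200 pcode pcodei (rep [(x, true)] (nn x))) = true := by intro x; fin_cases x <;> decide +kernel
  have h1 := ptr (h x)
  rw [ev_rep] at h1
  change (pp x * 1) ^ nn x = 1 at h1
  rwa [mul_one] at h1
theorem htAd : ∀ r ∈ rulesA, ev (pr pp g) (r.word nn) = 1 := by
  have h : (rulesA.all fun r => isOne 9 100 (H35.Stem.evc 9 100 code codei (r.word nn)) && isOne 8 200 (H35.Stem.evc 8 200 pcode pcodei (r.word nn))) = true := by decide +kernel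
  intro r hr
  exact pt2 (List.all_eq_true.1 h r hr)
theorem htBd : ∀ r ∈ rulesB, ev (pr pp g) (r.word nn) = 1 := by
  have h : (rulesB.all fun r => isOne 9 100 (H35.Stem.evc 9 100 code codei (r.word nn)) && isOne 8 200 (H35.Stem.evc 8 200 pcode pcodei (r.word nn))) = true := by decide +kernel
  intro r hr
  exact pt2 (List.all_eq_true.1 h r hr)
theorem card_E : Nat.card (EE pp g SA) ≤ 2 * Nat.card H63.J2.ps.range := by
  have f1 := lvdA (f := pr pp g) (fun x h => absurd (show false = true from h) (by decide)) htAd
  have f2 := lvdB (f := pr pp g) (fun x h => absurd (show false = true from h) (by decide)) htBd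
  have e1 : Kl (pr pp g) TA = Kl (pr pp g) SB := by congr 1
  have c1 : Nat.card (Kl (pr pp g) TB) ≤ 7 := card_Kl_one (x0 := 0) (by decide) (by norm_num) (by
    apply Prod.ext
    · exact pord 0
    · exact hord 0)
  rw [e1] at f1
  rw [card_G]
  change Nat.card (Kl (pr pp g) SA) ≤ _
  omega
theorem zw_order : orderOf (ev pp zw) = 2 := by
  apply orderOf_eq_prime
  · rw [← ev_rep]
    exact ptr (by decide +kernel)
  · intro h
    have := (Rep.isOne_iff (rep_evc (by norm_num) (g := pp) prep prepi zw)).2 h
    exact absurd this (by decide +kernel)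
theorem zw_comm (x : X) : pp x * ev pp zw = ev pp zw * pp x := by
  have h : ∀ x, isOne 8 200 (H35.Stem.evc 8 200 pcode pcodei ([(x, true)] ++ (zw ++ ([(x, false)] ++ winv zw)))) = true := by intro x; fin_cases x <;> decide +kernel
  have h1 := ptr (h x)
  rw [ev_append, ev_append, ev_append, ev_winv] at h1
  change (pp x * 1) * (ev pp zw * (((pp x)⁻¹ * 1) * (ev pp zw)⁻¹)) = 1 at h1
  rw [mul_one, mul_one, ← mul_assoc, ← mul_assoc, mul_inv_eq_one, mul_inv_eq_iff_eq_mul] at h1
  exact h1
theorem perf : commutator H63.J2.ps.range = ⊤ := by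
  refine perfect_of (n := nn) gen hord [(0, [(1, true), (2, true), (0, true), (2, false), (1, false), (0, true), (0, true), (0, true)]), (1, [(0, true), (0, true), (0, true), (2, false), (1, true), (2, true), (0, false), (0, false), (0, false), (1, true), (1, true), (1, true)]), (2, [(0, true), (0, true), (1, true), (1, true), (0, false), (2, true), (0, true), (1, false), (1, false), (0, false), (0, false), (2, false), (2, false)]), (3, [(0, true), (0, true), (2, true), (3, false), (1, false), (3, false), (0, true), (3, true), (0, false), (3, true), (1, true), (3, true), (2, false), (0, false), (0, false), (3, true), (3, true)])] (by decide +kernel) ?_ ?_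
  · intro a ha
    fin_cases ha <;> exact tr (by decide +kernel)
  · intro x _
    fin_cases x <;> decide
theorem ex : ∃ (Γ : Type) (_ : Group Γ) (_ : Finite Γ) (σ : Γ →* H63.J2.ps.range), Cfsg.IsStemExtension σ ∧
      Nonempty (σ.ker ≃* Multiplicative (ZMod 2)) :=
  exists_cover (p := pp) (g := g) (S := SA) (n := nn) (by norm_num) gen perf card_E zw (by decide)
    (tr (by decide +kernel)) zw_order (fun x _ => zw_comm x) (fun x _ => pord x) (fun x _ => hord x) (fun x _ => by fin_cases x <;> decide)
theorem mult : Cfsg.HasCyclicSchurMultiplier H63.J2.ps.range 2 := by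
  refine hasCyclic_list (by norm_num) ex [(2, 7), (3, 3), (5, 2), (7, 1)] (by decide +kernel) (by rw [card_G]; norm_num) ?_
  intro a ha
  fin_cases ha
  · exact Or.inr (Or.inr ⟨noExt4, by decide +kernel⟩)
  · exact Or.inl noExt3
  · exact Or.inl noExt5
  · exact Or.inr (Or.inl (by rw [card_G]; norm_num))
theorem multJ2 : Cfsg.HasCyclicSchurMultiplier Cfsg.Spor.J2 2 :=
  H40.StemFinish.HasSchurMultiplier.congr (H63.J2.jiso.trans H63.J2.rangeIso).symm mult

end H94.MulJ2
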