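import Mathlib
import Cfsg.Agent.Lib.H35.StemLevel

/-! Exactness from a bound with a gap. -/

set_option autoImplicit false

namespace H94.StemG

open Subgroup H35.Stem

variable {X Γ G : Type} [Group Γ] [Group G] {σ : Γ →* G} {q : ℕ} {n : X → ℕ} {g : X → G} {f : X → Γ}

theorem card_eq_mul [Finite Γ] (h : Lifts σ q n g f) (S : X → Bool) :
    Nat.card (Kl f S) = Nat.card (Kl g S) * Nat.card (σ.comp (Kl f S).subtype).ker := by
  have h1 := Subgroup.card_eq_card_quotient_mul_card_subgroup (σ.comp (Kl f S).subtype).ker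
  rw [h1]
  congr 1
  rw [Nat.card_congr (QuotientGroup.quotientKerEquivRange (σ.comp (Kl f S).subtype)).toEquiv, MonoidHom.range_comp, Subgroup.range_subtype,
    h.map_Kl]

theorem card_le_of_lt_three [Finite Γ] (h : Lifts σ q n g f) (hq : ¬ 2 ∣ q) {S : X → Bool}
    (hb : Nat.card (Kl f S) < 3 * Nat.card (Kl g S)) : Nat.card (Kl f S) ≤ Nat.card (Kl g S) := by
  have h1 := card_eq_mul h S
  set k := Nat.card (σ.comp (Kl f S).subtype).ker with hk
  have hk0 : 0 < k := Nat.card_pos
  have hg0 : 0 < Nat.card (Kl g S) := by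
    rcases Nat.eq_zero_or_pos (Nat.card (Kl g S)) with h2 | h2
    · rw [h2] at hb; omega
    · exact h2
  have hk3 : k < 3 := by
    by_contra h3
    have h4 : Nat.card (Kl g S) * 3 ≤ Nat.card (Kl g S) * k := Nat.mul_le_mul_left _ (by omega)
    omega
  have hk2 : k ≠ 2 := by
    intro h2
    have : Fact (Nat.Prime 2) := ⟨Nat.prime_two⟩
    obtain ⟨x, hx⟩ := exists_prime_orderOf_dvd_card' (G := (σ.comp (Kl f S).subtype).ker) 2 (by rw [← hk, h2])
    have h3 : σ ((x : Kl f S) : Γ) = 1 := x.2
    have h4 := h.pow _ h3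
    have h5 : x ^ q = 1 := by
      apply Subtype.ext
      apply Subtype.ext
      rw [SubmonoidClass.coe_pow, SubmonoidClass.coe_pow]
      exact h4
    have h6 := orderOf_dvd_of_pow_eq_one h5
    rw [hx] at h6
    exact hq h6
  have hk1 : k = 1 := by omega
  rw [h1, hk1, mul_one]

end H94.StemG
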