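import Mathlib
import Cfsg.Agent.Lib.H94.J3Word
import Cfsg.Agent.Lib.H94.StemG
import Cfsg.Agent.Lib.H94.TCJ3A
import Cfsg.Agent.Lib.H94.TCJ3B

set_option autoImplicit false
set_option maxRecDepth 100000
set_option maxHeartbeats 0
set_option linter.all false

namespace H94.MulJ3A
open Subgroup H35.Stem H35.TC Cfsg Cfsg.Spor H94.StemG H94.J3Word H10.J3Model

abbrev X := Fin 5

/-- exponents of the letters -/
def nn : X → ℕ := ![17, 17, 5, 4, 5]


/-- columns of the letters -/
def cs : X → List ℕ := ![[186664, 224828, 201051, 74413, 151879, 238217, 65744, 131168, 127769, 151854, 44039, 62473, 166182, 249403, 156657, 242002, 41945, 61806],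
  [24640, 45184, 23946, 42703, 176899, 250113, 89480, 173772, 197657, 67630, 180719, 213621, 135619, 205377, 248289, 85618, 151111, 231305],
  [90416, 176656, 64282, 23855, 217826, 107379, 67238, 134139, 93801, 178110, 152883, 240145, 247312, 84768, 141255, 211273, 24199, 42953],
  [28370, 46947, 196521, 218622, 65880, 131756, 80153, 138798, 87770, 174959, 91416, 178732, 29658, 37231, 85668, 165880, 126832, 161168],
  [206308, 80504, 251258, 92831, 6024, 10700, 184228, 214520, 60359, 32073, 193911, 219801, 95573, 170666, 39891, 60769, 50928, 19280]]
def ci : X → List ℕ := ![[96552, 171580, 202527, 76069, 110919, 184969, 163988, 245992, 168469, 254762, 14339, 7169, 249365, 83754, 228882, 104227, 61819, 21149],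
  [157996, 245300, 68556, 134468, 52480, 17920, 108749, 195654, 218212, 108728, 180616, 213708, 4199, 8377, 100469, 183450, 245360, 120720],
  [166396, 249428, 82764, 164228, 7158, 11611, 229856, 115312, 243705, 121182, 153164, 240516, 116507, 149805, 75033, 145966, 60769, 30386],
  [13127, 4489, 32764, 38228, 185693, 223910, 123422, 160551, 190299, 227757, 165322, 248399, 208267, 79565, 152841, 240142, 83292, 166564],
  [39436, 61188, 5501, 10902, 153803, 240717, 169718, 256859, 235173, 125946, 120725, 158186, 27415, 48425, 187016, 225228, 7370, 9295]]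
/-- words in the generators -/
def gw : X → List ℕ := ![[24, 11, 38, 21, 1, 38, 17, 23], [13, 42, 23, 4, 37, 3, 20], [20, 6, 37, 24, 1, 37, 21, 40, 11], [24, 40, 19, 37, 1, 20, 40, 19], [22, 5, 43, 20, 37, 1, 26, 39, 24]]
theorem okc : ∀ x, (sameC (gw x) (cs x) && (ltC (cs x) && (ltC (ci x) && invC (cs x) (ci x)))) = true := by
  intro x; fin_cases x <;> decide +kernel
/-- the generators as words -/
def gsW : List (W X) := [[],
  [(2, false), (3, true), (0, true), (1, false), (4, true), (4, true), (0, false), (4, true), (2, true)],
  [(2, false), (4, false), (0, true), (4, false), (4, false), (0, true), (1, false), (3, false), (2, true)],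
  [(0, true), (0, true), (1, true), (2, true), (4, true), (4, true), (1, true), (3, true), (4, false)],
  [(1, false), (4, false), (1, false), (3, false), (4, true), (2, false), (4, true), (3, true), (4, true)],
  [(4, true), (4, true), (1, true), (4, false), (2, false), (4, true), (4, true), (0, true), (2, false)],
  [(0, true), (0, true), (0, true), (2, false), (2, false), (4, true), (4, true), (2, true), (4, true)],
  [(0, false), (0, false), (3, true), (4, false), (1, true), (2, true), (4, false), (2, true), (1, false)],
  [(3, false), (2, true), (2, true), (4, false), (0, false), (2, false), (4, true), (2, false), (4, false)],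
  [(0, false), (4, true), (0, true), (0, true), (4, true), (0, true), (3, true), (2, false), (4, true), (0, true)],
  [(0, false), (4, false), (1, false), (0, true), (4, false), (4, false), (0, false), (2, true), (1, false), (4, true)],
  [(0, false), (4, true), (1, true), (0, true), (4, true), (0, false), (4, false), (1, true), (1, true)],
  [(4, true), (2, false), (1, false), (4, false), (1, true), (4, true), (1, false), (3, true), (1, false)],
  [(3, true), (4, true), (1, false), (4, true), (0, true), (4, false), (4, false), (1, false)],
  [(4, false), (2, false), (2, false), (0, false), (4, true), (2, false), (4, false), (1, true), (4, true)],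
  [(2, false), (1, true), (4, false), (4, false), (1, true), (1, true), (1, true), (2, true), (4, true)],
  [(4, false), (3, true), (2, true), (0, true), (1, true), (3, true), (4, false), (1, false), (4, false), (0, false)],
  [(2, false), (4, true), (4, true), (0, true), (1, true), (4, false), (4, false), (1, true), (3, false), (0, true)],
  [],
  [(2, true), (4, true), (0, false), (1, false), (1, false), (4, true), (0, false), (4, true), (1, true)],
  [(1, false), (4, false), (0, true), (4, false), (1, true), (1, true), (0, true), (4, false), (2, false)],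
  [(3, true), (2, false), (2, false), (0, true), (4, false), (1, false), (4, false), (2, false), (4, true), (1, true)],
  [(4, true), (1, false), (0, false), (2, false), (3, true), (4, false), (2, true), (4, true), (3, false)],
  [(1, false), (3, false), (0, true), (4, false), (0, false), (4, false), (0, false), (3, false), (2, true)],
  [(4, false), (0, false), (4, false), (0, false), (4, false), (1, false), (4, false), (3, false), (2, true), (4, true)],
  [(2, false), (3, true), (0, true), (4, true), (0, true), (4, true), (0, false), (3, true), (1, true)],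
  [(3, true), (1, true), (0, false), (4, true), (1, true), (4, false), (2, false), (0, true), (3, true)],
  [],
  [(1, true), (2, true), (4, true), (0, true), (0, true), (2, false), (4, false), (3, false), (2, true)],
  [(2, false), (3, true), (4, true), (2, true), (0, false), (0, false), (4, false), (2, false), (1, false)],
  [],
  [(1, false), (4, false), (0, true), (1, false), (3, true), (4, false), (1, true), (2, true), (4, true)],
  [(4, true), (4, true), (0, true), (1, true), (4, true), (1, false), (4, false), (0, true), (0, true)],
  [(0, true), (4, true), (1, true), (2, false), (4, false), (2, true), (1, false), (4, true), (3, true)],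
  [(4, false), (2, false), (1, false), (4, true), (0, true), (3, false), (0, false), (4, true), (1, true)],
  [(0, true), (0, true), (1, true), (4, true), (0, true), (0, true), (4, false), (2, true), (3, true)],
  [],
  [(4, false), (1, false), (0, false), (4, true), (3, false), (0, true), (4, true), (2, true), (4, true), (2, true)],
  [(4, false), (0, false), (2, true), (1, true), (2, false), (1, true), (4, true)],
  [(0, true), (4, true), (3, false), (0, true), (0, true), (2, false), (4, true), (1, false), (4, true), (1, true)],
  [(3, true), (1, true), (1, true), (4, true), (3, true), (4, false), (4, false), (3, false)],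
  [(4, false), (1, true), (4, true), (0, true), (1, true), (4, false), (0, true), (1, false), (3, true), (3, true)],
  [(3, true), (4, false), (2, false), (3, true), (4, true), (2, true), (4, true), (2, true), (0, false)],
  [(1, false), (0, true), (4, true), (2, true), (0, false), (2, true), (4, false), (0, false), (1, true)],
  [(1, false), (4, true), (0, true), (0, true), (4, false), (0, true), (4, true), (2, false), (3, true)]]
theorem gsW_ok : genOK cs ci gsW = true := by decide +kernel

def w3 : W X := [(0, true), (1, true)]

/-- the facts about the letters -/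
class Mdl {G : Type} [Group G] (g : X → G) : Prop where
  tr : ∀ w : W X, isS cs ci w = true → ev g w = 1
  gen : ∀ S : X → Bool, (∀ x, S x = true) → Kl g S = ⊤
  card : Nat.card G = 50232960
  ne : ev g w3 ≠ 1

theorem exists_mdl {F : Type*} [Field F] [Fintype F] (hF : Fintype.card F = 4) {ω : F} (h : Good ω) {G : Type} [Group G]
    (φ : threeJ3 F ω →* G) (hφ : Function.Surjective φ) (hφc : ∀ z, φ z = 1 ↔ z ∈ center (threeJ3 F ω))
    (hcard : Nat.card G = 50232960) : ∃ g : X → G, Mdl g := by
  have hok : ∀ x, sameC (gw x) (cs x) = true ∧ ltC (cs x) = true ∧ ltC (ci x) = true ∧ invC (cs x) (ci x) = true := by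
    intro x
    have h1 := okc x
    rw [Bool.and_eq_true, Bool.and_eq_true, Bool.and_eq_true] at h1
    exact h1
  choose m hm using fun x => exists_letter hF h (hok x).1
  have D : Cols ω m cs ci := ⟨hm, fun x => (hm x).inv hF h (hok x).2.2.1 (hok x).2.2.2, fun x => (hok x).2.1, fun x => (hok x).2.2.1⟩
  refine ⟨fun x => φ (m x), ⟨?_, ?_, hcard, ?_⟩⟩
  · intro w hw
    rw [← evU_hom]
    exact (hφc _).2 (D.center hF h hw)
  · intro S hS
    exact D.gen hF h gsW_ok φ hφ (fun z hz => (hφc z).2 hz) hS
  · intro h1
    rw [← evU_hom] at h1
    exact D.not_center hF h (k := 0) (j := 1) (by decide +kernel) ((hφc _).1 h1)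

variable {G : Type} [Group G] {g : X → G} [Mdl g]
theorem tr {w : W X} (h : isS cs ci w = true) : ev g w = 1 := Mdl.tr w h
theorem hord (x : X) : g x ^ nn x = 1 := by
  have h : ∀ x, isS cs ci (rep [(x, true)] (nn x)) = true := by intro x; fin_cases x <;> decide +kernel
  have h1 := tr (g := g) (h x)
  rw [ev_rep] at h1
  change (g x * 1) ^ nn x = 1 at h1
  rwa [mul_one] at h1
theorem hn : ∀ x, Nat.Coprime (nn x) 9 := by decide

/-- letters of level A -/
def SA : X → Bool := ![true, true, true, true, true]

/-- lower letters of level A -/
def TA : X → Bool := ![true, true, true, true, false]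

def wdA : H94.TCJ3A.Lt → W X
  | .b => [(0, true)]
  | .bi => [(0, false)]
  | .d => [(1, true)]
  | .di => [(1, false)]
  | .c => [(2, true)]
  | .ci => [(2, false)]
  | .f => [(3, true)]
  | .fi => [(3, false)]
  | .e => [(4, true)]
  | .ei => [(4, false)]
  | .z => [(0, true), (0, true), (0, true), (0, true), (4, true), (2, true), (1, false), (1, false), (3, false), (4, true)]
  | .zi => [(4, false), (3, true), (1, true), (1, true), (2, false), (4, false), (0, false), (0, false), (0, false), (0, false)]
  | .y => [(0, true), (0, true), (4, true), (0, false), (4, false), (0, true), (0, true), (4, true), (0, false), (4, false)]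
  | .yi => [(4, true), (0, true), (4, false), (0, false), (0, false), (4, true), (0, true), (4, false), (0, false), (0, false)]

def rulesA : List (Rule X) := [
  .conj [(4, false)] [(3, false)] [(2, false), (1, false), (2, true), (1, false), (2, false), (1, true), (3, true)] 4,
  .conj [(4, false)] [(3, false)] [(0, false), (0, false), (3, true), (1, false), (0, true), (3, true), (3, true)] 4,
  .conj [(4, true)] [(2, false), (3, true), (2, false)] [(2, false), (3, false), (0, false), (2, true)] 4,
  .low [(0, true), (1, true), (2, false), (2, false), (0, true), (2, true), (2, true), (1, false)],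
  .low [(0, true), (1, false), (2, true), (2, true), (0, true), (2, false), (2, false), (1, true)],
  .low [(0, true), (1, false), (2, true), (1, true), (0, false), (2, true)],
  .low [(0, true), (2, true), (0, false), (1, true), (2, true), (1, false)],
  .ord 2,
  .ord 4,
  .low [(0, true), (1, false), (0, true), (1, false)],
  .low [(2, true), (3, true), (2, true), (3, true)],
  .low [(0, true), (3, false), (1, false), (3, true)],
  .ord 3]

def cenA : H94.TCJ3A.Lt → Bool
  | .z => true
  | .zi => true
  | .y => true
  | .yi => true
  | _ => false

def CA : CP X H94.TCJ3A.Lt where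
  iv := fun _ => false
  wd := wdA
  cen := cenA
  q := 9
  exact := rulesA.map fun r => red (fun _ => false) (r.word nn)

theorem htA : ∀ r ∈ rulesA, ∀ w ∈ r.needs nn, ev g w = 1 := by
  have h : ((rulesA.flatMap (Rule.needs nn)).all fun w => isS cs ci w) = true := by decide +kernel
  intro r hr w hw
  exact tr (List.all_eq_true.1 h w (List.mem_flatMap.2 ⟨r, hr, hw⟩))
theorem hcA : ∀ z, CA.cen z = true → ev g (CA.wd z) = 1 := by
  intro z hz
  refine tr ?_
  cases z <;> first | (exact absurd hz (by decide)) | decide +kernel

theorem lvA {Γ : Type} [Group Γ] [Finite Γ] {σ : Γ →* G} {f : X → Γ} (h : Lifts σ 9 nn g f) (hi : Inj g f TA) :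
    Nat.card (Kl f SA) ≤ 18468 * Nat.card (Kl f TA) := by
  have hh : CA.Holds f := holds h hi rfl (fun _ h => absurd (show false = true from h) (by decide)) rfl (by decide +kernel) htA hcA
  obtain ⟨hinv, hrel⟩ := CP.relOK hh (inv := H94.TCJ3A.inv) (mm := H94.TCJ3A.mm) (ex := H94.TCJ3A.extra) (by intro x; cases x <;> decide +kernel)
    (by intro x y; cases x <;> cases y <;> decide +kernel) (by decide +kernel)
  exact level (subs := H94.TCJ3A.subs) (fun H hH => H94.TCJ3A.main hinv hrel.1 hrel.2 hH) (by decide +kernel) (by
    intro x hx
    fin_cases x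
    · exact ⟨.b, rfl⟩
    · exact ⟨.d, rfl⟩
    · exact ⟨.c, rfl⟩
    · exact ⟨.f, rfl⟩
    · exact ⟨.e, rfl⟩)

/-- letters of level B -/
def SB : X → Bool := ![true, true, true, true, false]

/-- lower letters of level B -/
def TB : X → Bool := ![true, false, false, false, false]

def wdB : H94.TCJ3B.Lt → W X
  | .b => [(0, true)]
  | .bi => [(0, false)]
  | .d => [(1, true)]
  | .di => [(1, false)]
  | .c => [(2, true)]
  | .ci => [(2, false)]
  | .f => [(3, true)]
  | .fi => [(3, false)]

def rulesB : List (Rule X) := [
  .conj [(2, true), (1, false), (2, true)] [(0, true)] [(1, false), (1, false), (1, false), (1, false)] 17,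
  .conj [(2, true), (1, false), (2, true)] [(1, true)] [(0, true), (0, true), (0, true), (0, true)] 17,
  .conj [(0, true), (2, true), (1, false)] [(3, true)] [(3, false)] 4,
  .conj [(0, true), (2, false), (2, false)] [(1, true)] [(1, false)] 17,
  .conj [(0, false), (2, true), (1, true)] [(3, true)] [(3, false)] 4,
  .conj [(0, false), (1, true)] [(2, true)] [(2, false)] 5,
  .ord 2,
  .conj [(3, true)] [(0, true)] [(1, true)] 17]

def cenB : H94.TCJ3B.Lt → Bool
  | _ => false

def CB : CP X H94.TCJ3B.Lt where
  iv := fun _ => false
  wd := wdB
  cen := cenB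
  q := 9
  exact := rulesB.map fun r => red (fun _ => false) (r.word nn)

theorem htB : ∀ r ∈ rulesB, ∀ w ∈ r.needs nn, ev g w = 1 := by
  have h : ((rulesB.flatMap (Rule.needs nn)).all fun w => isS cs ci w) = true := by decide +kernel
  intro r hr w hw
  exact tr (List.all_eq_true.1 h w (List.mem_flatMap.2 ⟨r, hr, hw⟩))
theorem hcB : ∀ z, CB.cen z = true → ev g (CB.wd z) = 1 := by
  intro z hz
  refine tr ?_
  cases z <;> first | (exact absurd hz (by decide)) | decide +kernel

theorem lvB {Γ : Type} [Group Γ] [Finite Γ] {σ : Γ →* G} {f : X → Γ} (h : Lifts σ 9 nn g f) (hi : Inj g f TB) :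
    Nat.card (Kl f SB) ≤ 480 * Nat.card (Kl f TB) := by
  have hh : CB.Holds f := holds h hi rfl (fun _ h => absurd (show false = true from h) (by decide)) rfl (by decide +kernel) htB hcB
  obtain ⟨hinv, hrel⟩ := CP.relOK hh (inv := H94.TCJ3B.inv) (mm := H94.TCJ3B.mm) (ex := H94.TCJ3B.extra) (by intro x; cases x <;> decide +kernel)
    (by intro x y; cases x <;> cases y <;> decide +kernel) (by decide +kernel)
  exact level (subs := H94.TCJ3B.subs) (fun H hH => H94.TCJ3B.main hinv hrel.1 hrel.2 hH) (by decide +kernel) (by
    intro x hx
    fin_cases x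
    · exact ⟨.b, rfl⟩
    · exact ⟨.d, rfl⟩
    · exact ⟨.c, rfl⟩
    · exact ⟨.f, rfl⟩
    · exact absurd hx (by decide))


theorem gen : Kl g SA = ⊤ := Mdl.gen SA (by decide)
theorem card_G (g : X → G) [Mdl g] : Nat.card G = 50232960 := Mdl.card g
theorem fin_G (g : X → G) [Mdl g] : Finite G := Nat.finite_of_card_ne_zero (by rw [card_G g]; norm_num)

theorem card_low : 2721 ≤ Nat.card (Kl g SB) := by
  haveI := fin_G g
  have g1 := lvA (Lifts.self (q := 9) (hord (g := g))) (Inj.self _)
  have e2 : Kl g TA = Kl g SB := by congr 1
  have e3 : Nat.card (Kl g SA) = 50232960 := by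
    rw [gen, Nat.card_congr (Subgroup.topEquiv (G := G)).toEquiv, card_G g]
  rw [e3, e2] at g1
  have h3 : (ev g w3) ^ 3 = 1 := by
    rw [← ev_rep]
    exact tr (by decide +kernel)
  have h4 : orderOf (ev g w3) = 3 := orderOf_eq_prime h3 Mdl.ne
  have h5 : 3 ∣ Nat.card (Kl g SB) := by
    rw [← h4]
    exact Subgroup.orderOf_dvd_natCard _ (ev_mem_Kl (by decide))
  omega
theorem bound (Γ : Type) [Group Γ] [Finite Γ] (σ : Γ →* G) (f : X → Γ) (h : Lifts σ 9 nn g f) :
    Nat.card (Kl f SA) ≤ 150698880 := by
  have e1 : Kl f TA = Kl f SB := by congr 1
  have e2 : Kl g TA = Kl g SB := by congr 1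
  have c1 : Nat.card (Kl f TB) ≤ 17 := card_Kl_one (x0 := 0) (by decide) (by norm_num) (h.ord 0)
  have f2 := lvB h (h.inj_one hn (x0 := 0) (by decide))
  have i1 : Inj g f TA := h.inj (by
    rw [e1, e2]
    apply card_le_of_lt_three h (by decide)
    have := card_low (g := g)
    omega)
  have f1 := lvA h i1
  rw [e1] at f1
  omega
theorem noExt (g : X → G) [Mdl g] : NoExt G 9 :=
  noExt_of_bound (q := 9) (by norm_num) (hord (g := g)) hn gen bound (by rw [card_G g]; norm_num)

end H94.MulJ3A
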