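import Mathlib
import Cfsg.Agent.Lib.H94.J3Word
import Cfsg.Agent.Lib.H94.StemG
import Cfsg.Agent.Lib.H94.TCJ3C
import Cfsg.Agent.Lib.H94.TCJ3D

set_option autoImplicit false
set_option maxRecDepth 100000
set_option maxHeartbeats 0
set_option linter.all false

namespace H94.MulJ3C
open Subgroup H35.Stem H35.TC Cfsg Cfsg.Spor H94.StemG H94.J3Word H10.J3Model

abbrev X := Fin 5

/-- exponents of the letters -/
def nn : X → ℕ := ![17, 3, 3, 3, 5]


/-- columns of the letters -/
def cs : X → List ℕ := ![[43276, 65028, 221037, 107958, 11467, 13389, 105821, 190118, 40762, 58655, 7929, 10078, 256392, 97996, 185479, 223433, 239063, 129641],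
  [14888, 7996, 20351, 34197, 196675, 65665, 99752, 183036, 216218, 99567, 42893, 63942, 181546, 215615, 182113, 215474, 41625, 62446],
  [184533, 221290, 148784, 231952, 138118, 208331, 37229, 58038, 15774, 5863, 155188, 239384, 247284, 84568, 107718, 194635, 89696, 174000],
  [154662, 238651, 156626, 242019, 181557, 215578, 202712, 76140, 29752, 38940, 52255, 17445, 178926, 253815, 206674, 80291, 118997, 155754],
  [82119, 163913, 140685, 211654, 32862, 49319, 77201, 145122, 243291, 121773, 152613, 239674, 128273, 154146, 106686, 192727, 57949, 29606]]
def ci : X → List ℕ := ![[165732, 248248, 98234, 169439, 68172, 135044, 194660, 220344, 73289, 141198, 96939, 172029, 226679, 105113, 238535, 127305, 188488, 225420],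
  [96040, 170300, 211915, 73037, 127435, 152141, 217044, 99688, 235595, 126093, 22091, 43917, 199682, 66563, 241092, 128584, 62048, 21424],
  [50033, 16786, 22161, 44002, 207305, 81486, 107378, 192915, 204132, 75448, 154164, 241432, 116305, 150434, 124102, 161867, 93247, 177173],
  [129055, 154661, 76753, 146786, 95847, 170937, 155784, 241868, 45208, 53484, 31058, 40611, 123469, 160646, 145701, 204346, 110783, 184533],
  [120438, 158619, 165673, 248126, 105808, 190112, 115166, 148071, 201540, 74120, 5508, 10952, 255692, 97092, 190257, 227602, 24141, 42886]]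
/-- words in the generators -/
def gw : X → List ℕ := ![[1, 40, 20, 37, 1, 26, 41, 16, 21], [19, 10, 37, 21, 1, 37, 14, 24], [19, 41, 24, 37, 1, 21, 43, 24], [14, 42, 24, 37, 1, 24, 39, 16], [5, 44, 23, 37, 19, 37, 26, 39]]
theorem okc : ∀ x, (sameC (gw x) (cs x) && (ltC (cs x) && (ltC (ci x) && invC (cs x) (ci x)))) = true := by
  intro x; fin_cases x <;> decide +kernel
/-- the generators as words -/
def gsW : List (W X) := [[],
  [(1, false), (0, false), (4, true), (0, true), (1, true), (4, true), (2, true), (1, true), (4, true), (3, true)],
  [(2, true), (4, true), (2, false), (1, false), (0, false), (4, true), (1, true), (2, true), (3, true), (4, true)],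
  [(2, true), (0, false), (4, false), (3, true), (4, true), (4, true), (3, true), (0, false), (4, true)],
  [(4, true), (2, false), (0, true), (4, false), (0, false), (4, false), (3, false), (4, true), (3, false)],
  [(2, true), (4, false), (1, false), (0, true), (4, true), (2, true), (4, false), (1, true), (2, true)],
  [(4, false), (0, true), (3, false), (4, false), (4, false), (3, false), (4, true), (0, true), (2, false)],
  [(2, true), (4, false), (1, true), (3, true), (4, true), (1, true), (4, true), (1, false), (3, true)],
  [(2, false), (1, false), (3, true), (4, true), (2, false), (4, false), (3, true), (0, true), (2, false)],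
  [(0, true), (1, true), (4, true), (0, true), (2, true), (4, false), (2, false), (3, false)],
  [(4, true), (0, true), (1, true), (4, true), (0, false), (4, false), (1, true), (2, false), (4, true)],
  [(2, false), (0, false), (3, true), (4, true), (0, true), (4, false), (0, true), (3, false), (0, false)],
  [(2, true), (4, false), (2, true), (4, false), (2, false), (1, false), (4, false), (2, true), (0, true)],
  [(0, true), (4, true), (1, false), (3, true), (4, false), (0, false), (4, true), (0, true), (1, true)],
  [(4, true), (3, true), (0, true), (0, true), (4, false), (4, false), (1, true), (3, true), (1, true), (2, true)],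
  [(3, true), (2, true), (4, false), (0, true), (3, false), (4, true), (2, false), (3, false)],
  [(4, false), (2, false), (4, false), (0, true), (2, false), (4, true), (4, true), (1, false), (3, false)],
  [(3, true), (4, false), (1, false), (2, true), (4, true), (0, true), (4, true), (2, false), (4, true)],
  [],
  [(3, false), (2, false), (4, true), (0, true), (4, true), (3, false), (0, false), (1, true), (0, true), (4, true)],
  [(4, false), (0, false), (1, false), (0, true), (3, true), (4, false), (0, false), (4, false), (2, true), (3, true)],
  [(2, false), (4, true), (0, true), (3, true), (1, true), (0, true), (4, false), (0, false), (3, false)],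
  [(0, true), (4, false), (0, false), (0, false), (0, false), (2, false), (4, false), (0, false), (3, false)],
  [(4, true), (0, false), (3, false), (0, true), (2, true), (4, false), (4, false), (2, false), (0, true), (4, false)],
  [(3, false), (0, false), (0, false), (3, false), (0, false), (4, false), (0, true), (4, false), (2, true)],
  [(4, false), (0, true), (3, true), (0, false), (4, true), (1, false), (0, false), (4, true), (4, true), (0, false)],
  [(3, true), (0, true), (4, true), (2, true), (0, true), (0, true), (0, true), (4, true), (0, false)],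
  [],
  [(1, true), (3, true), (2, true), (0, false), (4, false), (3, true), (4, true), (3, true), (2, true), (4, true)],
  [(4, false), (2, false), (4, false), (0, true), (3, true), (2, false), (3, false), (4, false), (1, true), (0, true)],
  [],
  [(4, true), (0, true), (2, false), (4, true), (3, true), (0, false), (2, false), (3, false)],
  [(4, false), (4, false), (0, true), (2, true), (0, false), (4, false), (1, false), (0, false), (4, true)],
  [(4, true), (1, true), (0, true), (0, true), (2, false), (4, false), (4, false), (1, true), (3, true), (0, true)],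
  [(2, true), (0, true), (4, false), (1, false), (2, true), (3, false), (2, true), (4, false)],
  [(4, false), (0, true), (1, true), (4, true), (0, true), (2, false), (0, false), (4, true), (4, true)],
  [],
  [(2, false), (4, true), (4, true), (0, false), (1, false), (4, true), (3, true), (4, true), (4, true), (2, true)],
  [(4, false), (1, false), (4, true), (0, false), (3, true), (1, true), (3, true), (4, false), (1, true), (4, true)],
  [(2, false), (4, false), (1, true), (2, false), (4, false), (3, true), (4, true), (0, false), (3, false)],
  [(2, true), (1, false), (0, true), (4, true), (3, false), (0, true), (1, true), (4, false), (1, true)],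
  [(4, false), (1, true), (3, false), (0, true), (2, false), (4, true), (1, true), (4, true), (4, true), (3, true)],
  [(4, false), (2, true), (3, true), (0, true), (4, false), (0, false), (4, true), (0, false), (4, true), (3, false)],
  [(3, true), (0, true), (0, true), (2, true), (4, true), (1, false), (4, false), (3, false), (4, false), (2, true)],
  [(1, false), (3, false), (4, false), (3, false), (2, true), (0, false), (4, true), (1, true)]]
theorem gsW_ok : genOK cs ci gsW = true := by decide +kernel

/-- the facts about the letters -/
class Mdl {G : Type} [Group G] (g : X → G) : Prop where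
  tr : ∀ w : W X, isS cs ci w = true → ev g w = 1
  gen : ∀ S : X → Bool, (∀ x, S x = true) → Kl g S = ⊤
  card : Nat.card G = 50232960

theorem exists_mdl {F : Type*} [Field F] [Fintype F] (hF : Fintype.card F = 4) {ω : F} (h : Good ω) {G : Type} [Group G]
    (φ : threeJ3 F ω →* G) (hφ : Function.Surjective φ) (hφc : ∀ z, φ z = 1 ↔ z ∈ center (threeJ3 F ω))
    (hcard : Nat.card G = 50232960) : ∃ g : X → G, Mdl g := by
  have hok : ∀ x, sameC (gw x) (cs x) = true ∧ ltC (cs x) = true ∧ ltC (ci x) = true ∧ invC (cs x) (ci x) = true := by
    intro x
    have h1 := okc x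
    rw [Bool.and_eq_true, Bool.and_eq_true, Bool.and_eq_true] at h1
    exact h1
  choose m hm using fun x => exists_letter hF h (hok x).1
  have D : Cols ω m cs ci := ⟨hm, fun x => (hm x).inv hF h (hok x).2.2.1 (hok x).2.2.2, fun x => (hok x).2.1, fun x => (hok x).2.2.1⟩
  refine ⟨fun x => φ (m x), ⟨?_, ?_, hcard⟩⟩
  · intro w hw
    rw [← evU_hom]
    exact (hφc _).2 (D.center hF h hw)
  · intro S hS
    exact D.gen hF h gsW_ok φ hφ (fun z hz => (hφc z).2 hz) hS

variable {G : Type} [Group G] {g : X → G} [Mdl g]
theorem tr {w : W X} (h : isS cs ci w = true) : ev g w = 1 := Mdl.tr w h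
theorem hord (x : X) : g x ^ nn x = 1 := by
  have h : ∀ x, isS cs ci (rep [(x, true)] (nn x)) = true := by intro x; fin_cases x <;> decide +kernel
  have h1 := tr (g := g) (h x)
  rw [ev_rep] at h1
  change (g x * 1) ^ nn x = 1 at h1
  rwa [mul_one] at h1
theorem hn : ∀ x, Nat.Coprime (nn x) 2 := by decide

/-- letters of level A -/
def SA : X → Bool := ![true, true, true, true, true]

/-- lower letters of level A -/
def TA : X → Bool := ![true, true, true, true, false]

def wdA : H94.TCJ3C.Lt → W X
  | .b => [(0, true)]
  | .bi => [(0, false)]
  | .d => [(1, true)]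
  | .di => [(1, false)]
  | .c => [(2, true)]
  | .ci => [(2, false)]
  | .f => [(3, true)]
  | .fi => [(3, false)]
  | .e => [(4, true)]
  | .ei => [(4, false)]
  | .z => [(0, true), (4, true), (3, false), (4, true), (0, true), (4, true), (3, false), (4, true)]
  | .zi => [(4, false), (3, true), (4, false), (0, false), (4, false), (3, true), (4, false), (0, false)]
  | .y => [(0, true), (0, true), (4, false), (3, true), (0, false), (4, false), (3, true), (1, false), (2, false)]
  | .yi => [(2, true), (1, true), (3, false), (4, true), (0, true), (3, false), (4, true), (0, false), (0, false)]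

def rulesA : List (Rule X) := [
  .low [(0, true), (2, false), (1, true), (3, true), (1, false), (2, true), (0, false), (3, true)],
  .low [(0, true), (3, false), (1, false), (3, true), (1, true), (3, true), (0, false), (3, true)],
  .low [(0, true), (0, true), (2, true), (0, false), (0, false), (1, true), (3, true), (1, false)],
  .low [(0, true), (3, true), (0, false), (3, false), (1, true), (3, true), (1, false), (3, true)],
  .low [(0, true), (1, true), (0, true), (2, false), (0, true), (2, true), (0, false), (1, false)],
  .low [(0, true), (1, false), (2, true), (1, true), (0, false), (3, false), (2, true), (3, true)],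
  .low [(0, true), (1, true), (2, true), (1, false), (0, false), (3, true), (1, true), (3, false)],
  .low [(0, true), (2, false), (1, true), (2, true), (0, false), (3, true), (1, true), (3, false)],
  .conj [(4, true)] [(3, false)] [(2, false), (0, false), (2, true), (3, false)] 3,
  .low [(0, true), (1, false), (2, true), (0, true), (2, false), (1, true)],
  .ord 4,
  .low [(1, true), (2, false), (1, true), (2, false)],
  .ord 1,
  .ord 2,
  .ord 3]

def cenA : H94.TCJ3C.Lt → Bool
  | .z => true
  | .zi => true
  | .y => true
  | .yi => true
  | _ => false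

def CA : CP X H94.TCJ3C.Lt where
  iv := fun _ => false
  wd := wdA
  cen := cenA
  q := 2
  exact := rulesA.map fun r => red (fun _ => false) (r.word nn)

theorem htA : ∀ r ∈ rulesA, ∀ w ∈ r.needs nn, ev g w = 1 := by
  have h : ((rulesA.flatMap (Rule.needs nn)).all fun w => isS cs ci w) = true := by decide +kernel
  intro r hr w hw
  exact tr (List.all_eq_true.1 h w (List.mem_flatMap.2 ⟨r, hr, hw⟩))
theorem hcA : ∀ z, CA.cen z = true → ev g (CA.wd z) = 1 := by
  intro z hz
  refine tr ?_
  cases z <;> first | (exact absurd hz (by decide)) | decide +kernel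

theorem lvA {Γ : Type} [Group Γ] [Finite Γ] {σ : Γ →* G} {f : X → Γ} (h : Lifts σ 2 nn g f) (hi : Inj g f TA) :
    Nat.card (Kl f SA) ≤ 12312 * Nat.card (Kl f TA) := by
  have hh : CA.Holds f := holds h hi rfl (fun _ h => absurd (show false = true from h) (by decide)) rfl (by decide +kernel) htA hcA
  obtain ⟨hinv, hrel⟩ := CP.relOK hh (inv := H94.TCJ3C.inv) (mm := H94.TCJ3C.mm) (ex := H94.TCJ3C.extra) (by intro x; cases x <;> decide +kernel)
    (by intro x y; cases x <;> cases y <;> decide +kernel) (by decide +kernel)
  exact level (subs := H94.TCJ3C.subs) (fun H hH => H94.TCJ3C.main hinv hrel.1 hrel.2 hH) (by decide +kernel) (by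
    intro x hx
    fin_cases x
    · exact ⟨.b, rfl⟩
    · exact ⟨.d, rfl⟩
    · exact ⟨.c, rfl⟩
    · exact ⟨.f, rfl⟩
    · exact ⟨.e, rfl⟩)

/-- letters of level B -/
def SB : X → Bool := ![true, true, true, true, false]

/-- lower letters of level B -/
def TB : X → Bool := ![true, false, false, false, false]

def wdB : H94.TCJ3D.Lt → W X
  | .b => [(0, true)]
  | .bi => [(0, false)]
  | .d => [(1, true)]
  | .di => [(1, false)]
  | .c => [(2, true)]
  | .ci => [(2, false)]
  | .f => [(3, true)]
  | .fi => [(3, false)]

def rulesB : List (Rule X) := [
  .conj [(0, true), (3, false), (1, false)] [(3, true)] [(3, false)] 3,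
  .conj [(0, false), (0, false), (1, true)] [(3, true)] [(2, false)] 3,
  .conj [(0, false), (3, false), (1, true)] [(3, true)] [(3, false)] 3,
  .conj [(1, true), (0, true), (2, false)] [(0, true)] [(0, false)] 17,
  .conj [(2, true), (0, false), (3, true)] [(1, true)] [(1, false)] 3,
  .conj [(2, false), (0, false), (3, false)] [(2, true)] [(1, false)] 3,
  .conj [(1, true), (2, true)] [(1, true)] [(2, true)] 3,
  .conj [(1, false), (2, true)] [(0, true)] [(0, false)] 17,
  .ord 2]

def cenB : H94.TCJ3D.Lt → Bool
  | _ => false

def CB : CP X H94.TCJ3D.Lt where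
  iv := fun _ => false
  wd := wdB
  cen := cenB
  q := 2
  exact := rulesB.map fun r => red (fun _ => false) (r.word nn)

theorem htB : ∀ r ∈ rulesB, ∀ w ∈ r.needs nn, ev g w = 1 := by
  have h : ((rulesB.flatMap (Rule.needs nn)).all fun w => isS cs ci w) = true := by decide +kernel
  intro r hr w hw
  exact tr (List.all_eq_true.1 h w (List.mem_flatMap.2 ⟨r, hr, hw⟩))
theorem hcB : ∀ z, CB.cen z = true → ev g (CB.wd z) = 1 := by
  intro z hz
  refine tr ?_
  cases z <;> first | (exact absurd hz (by decide)) | decide +kernel

theorem lvB {Γ : Type} [Group Γ] [Finite Γ] {σ : Γ →* G} {f : X → Γ} (h : Lifts σ 2 nn g f) (hi : Inj g f TB) :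
    Nat.card (Kl f SB) ≤ 240 * Nat.card (Kl f TB) := by
  have hh : CB.Holds f := holds h hi rfl (fun _ h => absurd (show false = true from h) (by decide)) rfl (by decide +kernel) htB hcB
  obtain ⟨hinv, hrel⟩ := CP.relOK hh (inv := H94.TCJ3D.inv) (mm := H94.TCJ3D.mm) (ex := H94.TCJ3D.extra) (by intro x; cases x <;> decide +kernel)
    (by intro x y; cases x <;> cases y <;> decide +kernel) (by decide +kernel)
  exact level (subs := H94.TCJ3D.subs) (fun H hH => H94.TCJ3D.main hinv hrel.1 hrel.2 hH) (by decide +kernel) (by
    intro x hx
    fin_cases x
    · exact ⟨.b, rfl⟩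
    · exact ⟨.d, rfl⟩
    · exact ⟨.c, rfl⟩
    · exact ⟨.f, rfl⟩
    · exact absurd hx (by decide))


theorem gen : Kl g SA = ⊤ := Mdl.gen SA (by decide)
theorem card_G (g : X → G) [Mdl g] : Nat.card G = 50232960 := Mdl.card g
theorem fin_G (g : X → G) [Mdl g] : Finite G := Nat.finite_of_card_ne_zero (by rw [card_G g]; norm_num)

theorem card_low : 4080 ≤ Nat.card (Kl g SB) := by
  haveI := fin_G g
  have g1 := lvA (Lifts.self (q := 2) (hord (g := g))) (Inj.self _)
  have e2 : Kl g TA = Kl g SB := by congr 1
  have e3 : Nat.card (Kl g SA) = 50232960 := by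
    rw [gen, Nat.card_congr (Subgroup.topEquiv (G := G)).toEquiv, card_G g]
  rw [e3, e2] at g1
  omega
theorem bound (Γ : Type) [Group Γ] [Finite Γ] (σ : Γ →* G) (f : X → Γ) (h : Lifts σ 2 nn g f) :
    Nat.card (Kl f SA) ≤ 50232960 := by
  have e1 : Kl f TA = Kl f SB := by congr 1
  have e2 : Kl g TA = Kl g SB := by congr 1
  have c1 : Nat.card (Kl f TB) ≤ 17 := card_Kl_one (x0 := 0) (by decide) (by norm_num) (h.ord 0)
  have f2 := lvB h (h.inj_one hn (x0 := 0) (by decide))
  have i1 : Inj g f TA := h.inj (by
    rw [e1, e2]
    have := card_low (g := g)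
    omega)
  have f1 := lvA h i1
  rw [e1] at f1
  omega
theorem noExt (g : X → G) [Mdl g] : NoExt G 2 :=
  noExt_of_bound (q := 2) (by norm_num) (hord (g := g)) hn gen bound (by rw [card_G g]; norm_num)

end H94.MulJ3C
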