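import Mathlib
import Cfsg.Agent.Lib.H35.StemFin
import Cfsg.Agent.Lib.H94.MulJ3A
import Cfsg.Agent.Lib.H94.MulJ3C

set_option autoImplicit false
set_option maxHeartbeats 1000000

/-! The Schur multiplier of J₃. -/

namespace H94.MulJ3

open Subgroup H35.Stem H40.StemFinish Cfsg Cfsg.Spor H10.J3Model H10.J3Simple

theorem mul_J3 {F : Type*} [Field F] [Fintype F] (hF : Fintype.card F = 4) {ω : F} (h : Good ω) :
    Cfsg.HasCyclicSchurMultiplier (J3 F ω) 3 := by
  haveI : Finite (J3 F ω) := Nat.finite_of_card_ne_zero (by rw [card_J3 hF h]; norm_num)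
  haveI : Finite (threeJ3 F ω) := inferInstance
  obtain ⟨G, gG, fG, ⟨e⟩⟩ := exists_copy.{_, 0} (J3 F ω)
  have hcard : Nat.card G = 50232960 := by rw [← Nat.card_congr e.toEquiv, card_J3 hF h]
  let π : threeJ3 F ω →* J3 F ω := QuotientGroup.mk' (center (threeJ3 F ω))
  have hπ : Function.Surjective π := QuotientGroup.mk'_surjective _
  have hker : π.ker = center (threeJ3 F ω) := QuotientGroup.ker_mk' _
  let φ : threeJ3 F ω →* G := (e : J3 F ω →* G).comp π
  have hφ : Function.Surjective φ := e.surjective.comp hπ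
  have hφc : ∀ z, φ z = 1 ↔ z ∈ center (threeJ3 F ω) := by
    intro z
    rw [← hker, MonoidHom.mem_ker]
    show e (π z) = 1 ↔ _
    exact map_eq_one_iff e e.injective
  have hstem : Cfsg.IsStemExtension π := by
    refine ⟨hπ, hker.le, ?_⟩
    rw [commutator_threeJ3 hF h]
    exact le_top
  have hk3 : Nonempty (π.ker ≃* Multiplicative (ZMod 3)) := by
    haveI : Fact (Nat.Prime 3) := ⟨Nat.prime_three⟩
    refine ⟨mulEquivOfPrimeCardEq (p := 3) ?_ ?_⟩
    · rw [hker, card_center hF h]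
    · rw [Nat.card_congr Multiplicative.toAdd, Nat.card_zmod]
  have hex := exists_stem_of.{_, _, 0, 0} e π hstem hk3
  obtain ⟨gA, mA⟩ := H94.MulJ3A.exists_mdl hF h φ hφ hφc hcard
  obtain ⟨gC, mC⟩ := H94.MulJ3C.exists_mdl hF h φ hφ hφc hcard
  refine HasSchurMultiplier.congr e.symm ?_
  refine hasCyclic_list (by norm_num) hex [(2, 7), (3, 5), (5, 1), (17, 1), (19, 1)] (by decide +kernel)
    (by rw [hcard]; norm_num) ?_
  intro a ha
  fin_cases ha
  · exact Or.inl (H94.MulJ3C.noExt gC)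
  · exact Or.inr (Or.inr ⟨H94.MulJ3A.noExt gA, by decide +kernel⟩)
  all_goals exact Or.inr (Or.inl (by rw [hcard]; norm_num))

theorem result {F : Type*} [Field F] [Fintype F] (hF : Fintype.card F = 4) (ω : F) (hω : ω ^ 2 + ω + 1 = 0) :
    Cfsg.HasCyclicSchurMultiplier (J3 F ω) 3 := mul_J3 hF (good hF hω)

end H94.MulJ3
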