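import Cfsg.Prelude.Def_GeometricClasses

/-!
Transvections in subgroups of GL(ι, F): the relation `HasT K v φ` (K contains x ↦ x + (φ·x) v, φ·v = 0),
its calculus, the submodule of "full" centres, and the criterion for K ≥ SL.
-/

set_option autoImplicit false

namespace H94.Transv

open Matrix Cfsg.Geo
open scoped MatrixGroups

variable {ι : Type} [Fintype ι] [DecidableEq ι] {F : Type*} [Field F]

/-- the matrix of `x ↦ x + (φ·x) v` -/
def tm (v φ : ι → F) : Matrix ι ι F := 1 + vecMulVec v φ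

theorem tm_mulVec (v φ x : ι → F) : tm v φ *ᵥ x = x + (φ ⬝ᵥ x) • v := by
  rw [tm, add_mulVec, one_mulVec, vecMulVec_mulVec]
  simp

theorem tm_mul_right (v φ ψ : ι → F) (h : φ ⬝ᵥ v = 0) : tm v φ * tm v ψ = tm v (φ + ψ) := by
  rw [tm, tm, tm, add_mul, one_mul, mul_add, mul_one, vecMulVec_mul_vecMulVec, h, zero_smul, vecMulVec_zero,
    add_zero, vecMulVec_add]
  abel

theorem tm_mul_left (v w φ : ι → F) (h : φ ⬝ᵥ w = 0) : tm v φ * tm w φ = tm (v + w) φ := by
  rw [tm, tm, tm, add_mul, one_mul, mul_add, mul_one, vecMulVec_mul_vecMulVec, h, zero_smul, vecMulVec_zero,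
    add_zero, add_vecMulVec]
  abel

theorem tm_zero_right (v : ι → F) : tm v 0 = 1 := by simp [tm]

theorem tm_zero_left (φ : ι → F) : tm 0 φ = 1 := by simp [tm]

/-- the transvection as an element of GL -/
def tGL (v φ : ι → F) (h : φ ⬝ᵥ v = 0) : GL ι F where
  val := tm v φ
  inv := tm v (-φ)
  val_inv := by rw [tm_mul_right _ _ _ h, add_neg_cancel, tm_zero_right]
  inv_val := by rw [tm_mul_right _ _ _ (by rw [neg_dotProduct, h, neg_zero]), neg_add_cancel, tm_zero_right]

@[simp] theorem tGL_val (v φ : ι → F) (h : φ ⬝ᵥ v = 0) : (tGL v φ h : Matrix ι ι F) = tm v φ := rfl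

theorem tGL_inv_val (v φ : ι → F) (h : φ ⬝ᵥ v = 0) :
    (((tGL v φ h)⁻¹ : GL ι F) : Matrix ι ι F) = tm v (-φ) := rfl

theorem det_tm (v φ : ι → F) (h : φ ⬝ᵥ v = 0) : (tm v φ).det = 1 := by
  have : (1 + vecMulVec v φ : Matrix ι ι F).det = 1 + φ ⬝ᵥ v := by
    have := Matrix.det_one_add_replicateCol_mul_replicateRow (ι := Unit) v φ
    rw [← this, vecMulVec_eq Unit]
  rw [tm, this, h, add_zero]

theorem tGL_mem_specialLinear (v φ : ι → F) (h : φ ⬝ᵥ v = 0) : tGL v φ h ∈ specialLinear ι F := by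
  rw [specialLinear, MonoidHom.mem_ker]
  ext
  simpa using det_tm v φ h

theorem mem_specialLinear_iff (g : GL ι F) : g ∈ specialLinear ι F ↔ (g : Matrix ι ι F).det = 1 := by
  rw [specialLinear, MonoidHom.mem_ker, Units.ext_iff]
  simp

/-- K contains the transvection with centre v and functional φ -/
def HasT (K : Subgroup (GL ι F)) (v φ : ι → F) : Prop :=
  φ ⬝ᵥ v = 0 ∧ ∃ g ∈ K, (g : Matrix ι ι F) = tm v φ

variable {K : Subgroup (GL ι F)}

theorem HasT.mk {v φ : ι → F} (h : φ ⬝ᵥ v = 0) (hK : tGL v φ h ∈ K) : HasT K v φ := ⟨h, _, hK, rfl⟩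

theorem HasT.mem {v φ : ι → F} (h : HasT K v φ) : tGL v φ h.1 ∈ K := by
  obtain ⟨h1, g, hg, e⟩ := h
  have : g = tGL v φ h1 := Units.ext (by rw [e]; rfl)
  rwa [← this]

theorem HasT.add_right {v φ ψ : ι → F} (h1 : HasT K v φ) (h2 : HasT K v ψ) : HasT K v (φ + ψ) := by
  obtain ⟨h1', g, hg, e⟩ := h1
  obtain ⟨h2', g2, hg2, e2⟩ := h2
  refine ⟨by rw [add_dotProduct, h1', h2', add_zero], g * g2, K.mul_mem hg hg2, ?_⟩
  rw [Units.val_mul, e, e2, tm_mul_right _ _ _ h1']

theorem HasT.add_left {v w φ : ι → F} (h1 : HasT K v φ) (h2 : HasT K w φ) : HasT K (v + w) φ := by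
  obtain ⟨h1', g, hg, e⟩ := h1
  obtain ⟨h2', g2, hg2, e2⟩ := h2
  refine ⟨by rw [dotProduct_add, h1', h2', add_zero], g * g2, K.mul_mem hg hg2, ?_⟩
  rw [Units.val_mul, e, e2, tm_mul_left _ _ _ h2']

theorem HasT.zero_right (v : ι → F) : HasT K v 0 :=
  ⟨by simp, 1, K.one_mem, by rw [tm_zero_right]; rfl⟩

theorem HasT.zero_left (φ : ι → F) : HasT K 0 φ :=
  ⟨by simp, 1, K.one_mem, by rw [tm_zero_left]; rfl⟩

theorem HasT.neg_right {v φ : ι → F} (h1 : HasT K v φ) : HasT K v (-φ) := by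
  have h := K.inv_mem h1.mem
  refine ⟨by rw [neg_dotProduct, h1.1, neg_zero], _, h, rfl⟩

theorem HasT.sub_right {v φ ψ : ι → F} (h1 : HasT K v φ) (h2 : HasT K v ψ) : HasT K v (φ - ψ) := by
  rw [sub_eq_add_neg]; exact h1.add_right h2.neg_right

theorem tm_smul (v φ : ι → F) (c : F) : tm (c • v) φ = tm v (c • φ) := by
  rw [tm, tm, smul_vecMulVec, vecMulVec_smul]

theorem hasT_smul_iff {v φ : ι → F} {c : F} (hc : c ≠ 0) : HasT K (c • v) φ ↔ HasT K v (c • φ) := by
  unfold HasT
  rw [tm_smul, dotProduct_smul, smul_dotProduct, smul_eq_mul]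

theorem HasT.neg_left {v φ : ι → F} (h1 : HasT K v φ) : HasT K (-v) φ := by
  have : (-v) = (-1 : F) • v := by simp
  rw [this, hasT_smul_iff (by simp)]
  simpa using h1.neg_right

theorem HasT.sub_left {v w φ : ι → F} (h1 : HasT K v φ) (h2 : HasT K w φ) : HasT K (v - w) φ := by
  rw [sub_eq_add_neg]; exact h1.add_left h2.neg_left

theorem vecMul_inv_dotProduct_mulVec (g : GL ι F) (φ v : ι → F) :
    (φ ᵥ* ((g⁻¹ : GL ι F) : Matrix ι ι F)) ⬝ᵥ ((g : Matrix ι ι F) *ᵥ v) = φ ⬝ᵥ v := by
  rw [← dotProduct_mulVec, mulVec_mulVec, ← Units.val_mul, inv_mul_cancel, Units.val_one, one_mulVec]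

theorem conj_tm (g : GL ι F) (v φ : ι → F) :
    (g : Matrix ι ι F) * tm v φ * ((g⁻¹ : GL ι F) : Matrix ι ι F) =
      tm ((g : Matrix ι ι F) *ᵥ v) (φ ᵥ* ((g⁻¹ : GL ι F) : Matrix ι ι F)) := by
  rw [tm, mul_add, mul_one, add_mul, ← Units.val_mul, mul_inv_cancel, Units.val_one, mul_vecMulVec, vecMulVec_mul, tm]

theorem HasT.conj {v φ : ι → F} (h : HasT K v φ) {g : GL ι F} (hg : g ∈ K) :
    HasT K ((g : Matrix ι ι F) *ᵥ v) (φ ᵥ* ((g⁻¹ : GL ι F) : Matrix ι ι F)) := by
  obtain ⟨h1, t, ht, e⟩ := h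
  refine ⟨by rw [vecMul_inv_dotProduct_mulVec, h1], g * t * g⁻¹, K.mul_mem (K.mul_mem hg ht) (K.inv_mem hg), ?_⟩
  rw [Units.val_mul, Units.val_mul, e, conj_tm]

theorem vecMul_tm (φ v ψ : ι → F) : ψ ᵥ* tm v φ = ψ + (ψ ⬝ᵥ v) • φ := by
  rw [tm, vecMul_add, vecMul_one, vecMul_vecMulVec]

/-- conjugation of one transvection by another -/
theorem HasT.conjT {v φ w ψ : ι → F} (h1 : HasT K v φ) (h2 : HasT K w ψ) :
    HasT K (w + (φ ⬝ᵥ w) • v) (ψ - (ψ ⬝ᵥ v) • φ) := by
  have h := h2.conj h1.mem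
  rw [tGL_val, tGL_inv_val, tm_mulVec, vecMul_tm] at h
  simpa [sub_eq_add_neg] using h

/-- commutator of T(v,φ) with T(w,ψ) when φ(w) = 0 -/
theorem HasT.comm_right {v φ w ψ : ι → F} (h1 : HasT K v φ) (h2 : HasT K w ψ) (h0 : φ ⬝ᵥ w = 0) :
    HasT K w ((ψ ⬝ᵥ v) • φ) := by
  have h := h1.conjT h2
  rw [h0, zero_smul, add_zero] at h
  have h' := h2.sub_right h
  simpa using h'

/-- commutator of T(v,φ) with T(w,ψ) when ψ(v) = 0 -/
theorem HasT.comm_left {v φ w ψ : ι → F} (h1 : HasT K v φ) (h2 : HasT K w ψ) (h0 : ψ ⬝ᵥ v = 0) :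
    HasT K ((φ ⬝ᵥ w) • v) ψ := by
  have h := h1.conjT h2
  rw [h0, zero_smul, sub_zero] at h
  have h' := h.sub_left h2
  simpa using h'

/-- v is a full centre for K: all transvections with centre v lie in K -/
def Full (K : Subgroup (GL ι F)) (v : ι → F) : Prop := ∀ φ : ι → F, φ ⬝ᵥ v = 0 → HasT K v φ

theorem full_zero : Full K 0 := fun φ _ => HasT.zero_left φ

theorem Full.smul {v : ι → F} (h : Full K v) (c : F) : Full K (c • v) := by
  by_cases hc : c = 0
  · rw [hc, zero_smul]; exact full_zero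
  · intro φ hφ
    rw [hasT_smul_iff hc]
    apply h
    rw [dotProduct_smul, smul_eq_mul] at hφ
    rw [smul_dotProduct, smul_eq_mul, hφ]

theorem Full.conj {v : ι → F} (h : Full K v) {g : GL ι F} (hg : g ∈ K) : Full K ((g : Matrix ι ι F) *ᵥ v) := by
  intro φ hφ
  have h1 := (h (φ ᵥ* (g : Matrix ι ι F)) (by rw [← dotProduct_mulVec, hφ])).conj hg
  rw [vecMul_vecMul, ← Units.val_mul, mul_inv_cancel, Units.val_one, vecMul_one] at h1
  exact h1

theorem dotProduct_of_linear (f : (ι → F) →ₗ[F] F) (x : ι → F) : (fun i => f (Pi.single i 1)) ⬝ᵥ x = f x := by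
  conv_rhs => rw [LinearMap.pi_apply_eq_sum_univ f x]
  simp only [dotProduct, smul_eq_mul]
  refine Finset.sum_congr rfl fun i _ => ?_
  rw [mul_comm]
  congr 2
  ext j
  simp [Pi.single_apply, eq_comm]

/-- a functional separating: if `w` is not a multiple of `v` there is φ with φ v = 0, φ w = 1 -/
theorem exists_functional {v w : ι → F} (h : w ∉ Submodule.span F {v}) :
    ∃ φ : ι → F, φ ⬝ᵥ v = 0 ∧ φ ⬝ᵥ w = 1 := by
  obtain ⟨f, hf1, hf2⟩ := Submodule.exists_le_ker_of_notMem h
  refine ⟨(f w)⁻¹ • fun i => f (Pi.single i 1), ?_, ?_⟩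
  · have : f v = 0 := by
      have := hf2 (Submodule.mem_span_singleton_self v)
      simpa using this
    rw [smul_dotProduct, dotProduct_of_linear, this, smul_zero]
  · rw [smul_dotProduct, dotProduct_of_linear, smul_eq_mul, inv_mul_cancel₀ hf1]

/-- a functional vanishing on a subspace and equal to 1 at a vector outside it -/
theorem exists_functional_submodule {W : Submodule F (ι → F)} {w : ι → F} (h : w ∉ W) :
    ∃ φ : ι → F, (∀ v ∈ W, φ ⬝ᵥ v = 0) ∧ φ ⬝ᵥ w = 1 := by
  obtain ⟨f, hf1, hf2⟩ := Submodule.exists_le_ker_of_notMem h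
  refine ⟨(f w)⁻¹ • fun i => f (Pi.single i 1), fun v hv => ?_, ?_⟩
  · have : f v = 0 := by
      have := hf2 hv
      simpa using this
    rw [smul_dotProduct, dotProduct_of_linear, this, smul_zero]
  · rw [smul_dotProduct, dotProduct_of_linear, smul_eq_mul, inv_mul_cancel₀ hf1]

theorem Full.add {v w : ι → F} (hv : Full K v) (hw : Full K w) : Full K (v + w) := by
  by_cases h : v ∈ Submodule.span F {w}
  · obtain ⟨c, rfl⟩ := Submodule.mem_span_singleton.1 h
    have : c • w + w = (c + 1) • w := by rw [add_smul, one_smul]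
    rw [this]; exact hw.smul _
  · obtain ⟨φ, h1, h2⟩ := exists_functional h
    have := hv.conj (hw φ h1).mem
    rwa [tGL_val, tm_mulVec, h2, one_smul] at this

/-- the submodule of full centres -/
def fullSubmodule (K : Subgroup (GL ι F)) : Submodule F (ι → F) where
  carrier := {v | Full K v}
  add_mem' h1 h2 := h1.add h2
  zero_mem' := full_zero
  smul_mem' c _ h := h.smul c

theorem mem_fullSubmodule {v : ι → F} : v ∈ fullSubmodule K ↔ Full K v := Iff.rfl

theorem transvection_eq_tm (i j : ι) (c : F) :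
    Matrix.transvection i j c = tm (Pi.single i c) (Pi.single j 1) := by
  rw [Matrix.transvection, tm]
  congr 1
  ext a b
  simp only [Matrix.single_apply, vecMulVec_apply, Pi.single_apply]
  by_cases h1 : i = a <;> by_cases h2 : j = b <;> simp [h1, h2, eq_comm]

/-- the diagonal matrices as a group hom -/
def diagHom (ι : Type) [Fintype ι] [DecidableEq ι] (F : Type*) [Field F] : (ι → Fˣ) →* GL ι F where
  toFun d :=
    { val := Matrix.diagonal fun i => (d i : F)
      inv := Matrix.diagonal fun i => ((d i)⁻¹ : Fˣ)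
      val_inv := by rw [Matrix.diagonal_mul_diagonal]; simp
      inv_val := by rw [Matrix.diagonal_mul_diagonal]; simp }
  map_one' := by ext1; simp
  map_mul' a b := by ext1; simp

theorem diagHom_val (d : ι → Fˣ) : (diagHom ι F d : Matrix ι ι F) = Matrix.diagonal fun i => (d i : F) := rfl

/-- Whitehead: K contains diag(a, a⁻¹) when it contains the elementary transvections. -/
theorem diag_pair_mem (hT : ∀ (i j : ι) (c : F), i ≠ j → HasT K (Pi.single i c) (Pi.single j 1))
    {i j : ι} (hij : i ≠ j) (a : Fˣ) : diagHom ι F (Pi.mulSingle i a * Pi.mulSingle j a⁻¹) ∈ K := by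
  have h1 := (hT i j (a : F) hij).mem
  have h2 := (hT j i (-((a⁻¹ : Fˣ) : F)) hij.symm).mem
  have h3 := (hT i j (-1) hij).mem
  have h4 := (hT j i 1 hij.symm).mem
  have key := K.mul_mem (K.mul_mem (K.mul_mem h1 h2) h1) (K.mul_mem (K.mul_mem h3 h4) h3)
  convert key using 1
  apply Units.ext
  have ha : (a : F) ≠ 0 := a.ne_zero
  apply Matrix.ext_of_mulVec_single
  intro k
  simp only [Units.val_mul, tGL_val, ← mulVec_mulVec, tm_mulVec, diagHom_val]
  generalize (Pi.single k 1 : ι → F) = x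
  ext l
  simp only [Matrix.mulVec_diagonal, single_one_dotProduct, Pi.add_apply, Pi.smul_apply, smul_eq_mul,
    Pi.single_eq_same, Pi.single_apply, Pi.mul_apply, Units.val_mul, Pi.mulSingle_apply]
  by_cases h7 : l = i
  · subst h7
    simp [hij, hij.symm]
    field_simp
    ring
  · by_cases h8 : l = j
    · subst h8
      simp [hij, hij.symm]
      field_simp
      ring
    · simp [h7, h8]

/-- If K contains all elementary transvections then K ≥ SL. -/
theorem specialLinear_le_of_elementary (hT : ∀ (i j : ι) (c : F), i ≠ j → HasT K (Pi.single i c) (Pi.single j 1)) :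
    specialLinear ι F ≤ K := by
  intro g hg
  rw [mem_specialLinear_iff] at hg
  obtain ⟨L, L', D, e⟩ := Matrix.Pivot.exists_list_transvec_mul_diagonal_mul_list_transvec (g : Matrix ι ι F)
  have hL : ∀ L : List (TransvectionStruct ι F), ∃ k ∈ K, (k : Matrix ι ι F) = (L.map TransvectionStruct.toMatrix).prod := by
    intro L
    induction L with
    | nil => exact ⟨1, K.one_mem, by simp⟩
    | cons t L ih =>
      obtain ⟨k, hk, e⟩ := ih
      have ht := hT t.i t.j t.c t.hij
      refine ⟨_, K.mul_mem ht.mem hk, ?_⟩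
      rw [Units.val_mul, e, List.map_cons, List.prod_cons, tGL_val, TransvectionStruct.toMatrix,
        transvection_eq_tm]
  obtain ⟨l, hl, el⟩ := hL L
  obtain ⟨l', hl', el'⟩ := hL L'
  have hdetL : ∀ L : List (TransvectionStruct ι F), (L.map TransvectionStruct.toMatrix).prod.det = 1 :=
    fun L => TransvectionStruct.det_toMatrix_prod L
  have hD : ∏ i, D i = 1 := by
    have := congrArg Matrix.det e
    rw [Matrix.det_mul, Matrix.det_mul, hdetL, hdetL, hg, Matrix.det_diagonal] at this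
    simpa using this.symm
  have hD0 : ∀ i, D i ≠ 0 := by
    intro i h0
    have : ∏ i, D i = 0 := Finset.prod_eq_zero (Finset.mem_univ i) h0
    rw [this] at hD; exact zero_ne_one hD
  set d : ι → Fˣ := fun i => Units.mk0 (D i) (hD0 i) with hd
  have hgd : g = l * diagHom ι F d * l' := by
    apply Units.ext
    rw [e, Units.val_mul, Units.val_mul, el, el', diagHom_val]
    rfl
  rw [hgd]
  refine K.mul_mem (K.mul_mem hl ?_) hl'
  have hdprod : ∏ i, d i = 1 := by
    ext
    push_cast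
    exact hD
  -- diagonal elements
  by_cases hne : Nonempty ι
  · obtain ⟨i0⟩ := hne
    have hdd : d = ∏ i, (Pi.mulSingle i (d i) * Pi.mulSingle i0 (d i)⁻¹) := by
      rw [Finset.prod_mul_distrib]
      have h2 : (∏ i, Pi.mulSingle i0 (d i)⁻¹ : ι → Fˣ) = 1 := by
        have : (∏ i, Pi.mulSingle i0 (d i)⁻¹ : ι → Fˣ) = Pi.mulSingle i0 (∏ i, (d i)⁻¹) := by
          exact (map_prod (MonoidHom.mulSingle (fun _ => Fˣ) i0) (fun i => (d i)⁻¹) Finset.univ).symm
        rw [this, Finset.prod_inv_distrib, hdprod]; simp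
      rw [h2, mul_one]
      exact (Finset.univ_prod_mulSingle d).symm
    rw [hdd]
    have : ∀ s : Finset ι, (diagHom ι F) (∏ i ∈ s, (Pi.mulSingle i (d i) * Pi.mulSingle i0 (d i)⁻¹)) ∈ K := by
      intro s
      induction s using Finset.induction_on with
      | empty => simp [K.one_mem]
      | insert a s ha ih =>
        rw [Finset.prod_insert ha, map_mul]
        refine K.mul_mem ?_ ih
        by_cases h : a = i0
        · subst h
          have : (Pi.mulSingle a (d a) * Pi.mulSingle a (d a)⁻¹ : ι → Fˣ) = 1 := by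
            rw [← Pi.mulSingle_mul]; simp
          rw [this, map_one]; exact K.one_mem
        · exact diag_pair_mem hT h (d a)
    exact this Finset.univ
  · have : d = 1 := by
      ext i; exact absurd ⟨i⟩ hne
    rw [this, map_one]; exact K.one_mem

/-- If every vector is a full centre then K ≥ SL. -/
theorem specialLinear_le_of_full (h : fullSubmodule K = ⊤) : specialLinear ι F ≤ K := by
  apply specialLinear_le_of_elementary
  intro i j c hij
  have : Pi.single i c ∈ fullSubmodule K := by rw [h]; trivial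
  apply this
  simp [hij.symm]

/-- the full submodule is K-stable -/
theorem fullSubmodule_stable {g : GL ι F} (hg : g ∈ K) {v : ι → F} (hv : v ∈ fullSubmodule K) :
    (g : Matrix ι ι F) *ᵥ v ∈ fullSubmodule K := Full.conj hv hg

/-- If K has a nonzero full centre and fixes no proper nonzero subspace then K ≥ SL. -/
theorem specialLinear_le_of_full_of_irreducible {v : ι → F} (hv0 : v ≠ 0) (hv : Full K v)
    (hirr : ∀ W : Submodule F (ι → F), (∀ g ∈ K, ∀ w ∈ W, (g : Matrix ι ι F) *ᵥ w ∈ W) → W = ⊥ ∨ W = ⊤) :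
    specialLinear ι F ≤ K := by
  apply specialLinear_le_of_full
  rcases hirr (fullSubmodule K) (fun g hg w hw => fullSubmodule_stable hg hw) with h | h
  · exfalso
    have : v ∈ fullSubmodule K := hv
    rw [h] at this
    exact hv0 ((Submodule.mem_bot F).1 this)
  · exact h

end H94.Transv
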